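import Mathlib

/-!
The Diophantine step: two divisors of `q ^ 2 + 1` with sum `2 q + 2`.
-/

set_option autoImplicit false

namespace CfsgLib.SuzTop

theorem vieta_aux : ∀ (N : ℕ) (x y k : ℤ), (x + y).toNat ≤ N → 1 ≤ y → y ≤ x → 1 ≤ k →
    x ^ 2 + y ^ 2 + 8 = (4 * k - 2) * x * y + 4 * x + 4 * y → k = 1 := by
  intro N
  induction N with
  | zero => intro x y k hN hy hyx _ _; omega
  | succ N ih =>
    intro x y k hN hy hyx hk h
    rcases lt_or_eq_of_le hyx with hlt | heq
    · rcases lt_or_eq_of_le hy with hy2 | hy1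
      · set x' := (4 * k - 2) * y + 4 - x with hx'
        have hprod : x * x' = y ^ 2 - 4 * y + 8 := by rw [hx']; linarith
        have hpos : 1 ≤ x' := by
          by_contra hc
          have h1 : x * x' ≤ 0 := mul_nonpos_of_nonneg_of_nonpos (by omega) (by omega)
          have h2 : 0 ≤ (y - 2) ^ 2 := sq_nonneg _
          linarith
        have hle : x' < y := by
          by_contra hc
          have h1 : x * y ≤ x * x' := mul_le_mul_of_nonneg_left (by omega) (by omega)
          have h2 : (y + 1) * y ≤ x * y := mul_le_mul_of_nonneg_right (by omega) (by omega)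
          nlinarith
        exact ih y x' k (by omega) hpos hle.le hk (by rw [hx']; linear_combination h)
      · subst hy1
        have hx : x * (x - 4 * k - 2) = -5 := by linarith
        have hd : x ∣ 5 := ⟨-(x - 4 * k - 2), by rw [mul_neg, hx]; norm_num⟩
        have : x ≤ 5 := Int.le_of_dvd (by norm_num) hd
        interval_cases x <;> omega
    · subst heq
      by_contra hk1
      have h1 : 4 * y ^ 2 ≤ (4 * k - 4) * y ^ 2 :=
        mul_le_mul_of_nonneg_right (by omega) (sq_nonneg y)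
      have h2 : 1 ≤ y ^ 2 := one_le_pow₀ hy
      nlinarith

/-- Two divisors with product dividing `q ^ 2 + 1` and sum `2 q + 2`: `8 q` is a square. -/
theorem sq_of_divisors {c₁ c₂ q : ℕ} (h1 : 1 ≤ c₁) (h2 : 1 ≤ c₂) (hs : c₁ + c₂ = 2 * q + 2)
    (hd : c₁ * c₂ ∣ q ^ 2 + 1) : ∃ d : ℕ, 8 * q = d * d := by
  obtain ⟨k, hk⟩ := hd
  have hk' : (q : ℤ) ^ 2 + 1 = c₁ * c₂ * k := by exact_mod_cast hk
  have hs' : (c₁ : ℤ) + c₂ = 2 * q + 2 := by exact_mod_cast hs
  have hk0 : 1 ≤ (k : ℤ) := by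
    rcases Nat.eq_zero_or_pos k with h | h
    · rw [h, mul_zero] at hk; omega
    · exact_mod_cast h
  have heq : (c₁ : ℤ) ^ 2 + (c₂ : ℤ) ^ 2 + 8 = (4 * (k : ℤ) - 2) * c₁ * c₂ + 4 * c₁ + 4 * c₂ := by
    linear_combination 4 * hk' + ((c₁ : ℤ) + c₂ + 2 * q - 2) * hs'
  have hkone : (k : ℤ) = 1 := by
    rcases le_total c₂ c₁ with h | h
    · exact vieta_aux _ (c₁ : ℤ) (c₂ : ℤ) (k : ℤ) le_rfl (by exact_mod_cast h2) (by exact_mod_cast h) hk0 heq
    · exact vieta_aux _ (c₂ : ℤ) (c₁ : ℤ) (k : ℤ) le_rfl (by exact_mod_cast h1) (by exact_mod_cast h) hk0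
        (by linear_combination heq)
  refine ⟨((c₁ : ℤ) - c₂).natAbs, ?_⟩
  have : (8 * q : ℤ) = ((c₁ : ℤ) - c₂) * ((c₁ : ℤ) - c₂) := by
    rw [hkone] at heq
    linear_combination -heq - 4 * hs'
  refine Int.natCast_inj.1 ?_
  push_cast
  rw [abs_mul_abs_self]
  exact this

end CfsgLib.SuzTop
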