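import Cfsg.Agent.Suz.PairCount
import Cfsg.Agent.Suz.Vieta

/-!
The order of a simple Zassenhaus group with non-abelian two-kernel.
-/

set_option autoImplicit false
set_option linter.unusedSectionVars false
set_option linter.style.haveILetI false

namespace CfsgLib.SuzTop

open MulAction CfsgLib.Char
open scoped Pointwise

variable {G Ω : Type*} [Group G] [Fintype G] [IsSimpleGroup G] [MulAction G Ω] [Fintype Ω]
variable {a b : Ω} {U : Subgroup G} {g₀ : G} {α : MulAut U} {e : ℕ}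

theorem centralizer_conj_mem (g x z : G) :
    z ∈ Subgroup.centralizer ({g * x * g⁻¹} : Set G) ↔
      g⁻¹ * z * g ∈ Subgroup.centralizer ({x} : Set G) := by
  rw [Subgroup.mem_centralizer_singleton_iff, Subgroup.mem_centralizer_singleton_iff]
  constructor
  · intro h
    calc g⁻¹ * z * g * x = g⁻¹ * (z * (g * x * g⁻¹)) * g := by group
      _ = x * (g⁻¹ * z * g) := by rw [h]; group
  · intro h
    calc z * (g * x * g⁻¹) = g * (g⁻¹ * z * g * x) * g⁻¹ := by group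
      _ = g * x * g⁻¹ * z := by rw [h]; group

theorem card_centralizer_conj (g x : G) :
    Nat.card (Subgroup.centralizer ({g * x * g⁻¹} : Set G)) =
      Nat.card (Subgroup.centralizer ({x} : Set G)) :=
  Nat.card_congr
    { toFun := fun z => ⟨g⁻¹ * (z : G) * g, (centralizer_conj_mem g x z).1 z.2⟩
      invFun := fun z => ⟨g * (z : G) * g⁻¹, (centralizer_conj_mem g x _).2 (by
        simp [mul_assoc])⟩
      left_inv := fun z => Subtype.ext (by simp [mul_assoc])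
      right_inv := fun z => Subtype.ext (by simp [mul_assoc]) }

open scoped Classical in
/-- The elements whose centraliser is conjugate to that of `y`. -/
noncomputable def classOf (y : G) : Finset G :=
  Finset.univ.filter fun x => ∃ g : G, g⁻¹ * x * g ∈ Subgroup.centralizer ({y} : Set G) ∧
    g⁻¹ * x * g ≠ 1

theorem mem_classOf {y x : G} : x ∈ classOf y ↔
    ∃ g : G, g⁻¹ * x * g ∈ Subgroup.centralizer ({y} : Set G) ∧ g⁻¹ * x * g ≠ 1 := by
  simp [classOf]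

theorem Cfg.classOf_data (C : Cfg a b U g₀ α e) {y : G} (hy : Rev Ω y) {x : G}
    (hx : x ∈ classOf y) : Rev Ω x ∧
      Nat.card (Subgroup.centralizer ({x} : Set G)) =
        Nat.card (Subgroup.centralizer ({y} : Set G)) := by
  obtain ⟨g, hg, hg1⟩ := mem_classOf.1 hx
  obtain ⟨hr, hc⟩ := C.rev_mem hy hg hg1
  have hxe : x = g * (g⁻¹ * x * g) * g⁻¹ := by group
  refine ⟨hxe ▸ rev_conj hr g, ?_⟩
  rw [hxe, card_centralizer_conj, hc]

theorem Cfg.self_mem_classOf (C : Cfg a b U g₀ α e) {y : G} (hy : Rev Ω y) : y ∈ classOf y :=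
  mem_classOf.2 ⟨1, by simp [Subgroup.mem_centralizer_singleton_iff],
    by simpa using C.rev_ne_one hy⟩

theorem classOf_conj {y x : G} (t : G) (h : t * x * t⁻¹ ∈ classOf y) : x ∈ classOf y := by
  obtain ⟨g, hg, hg1⟩ := mem_classOf.1 h
  refine mem_classOf.2 ⟨t⁻¹ * g, ?_, ?_⟩
  · rwa [show (t⁻¹ * g)⁻¹ * x * (t⁻¹ * g) = g⁻¹ * (t * x * t⁻¹) * g by group]
  · rwa [show (t⁻¹ * g)⁻¹ * x * (t⁻¹ * g) = g⁻¹ * (t * x * t⁻¹) * g by group]

/-- A common element gives conjugate centralisers. -/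
theorem Cfg.classOf_disjoint (C : Cfg a b U g₀ α e) {y z : G} (hy : Rev Ω y) (hz : Rev Ω z)
    (hzy : z ∉ classOf y) : Disjoint (classOf y) (classOf z) := by
  refine Finset.disjoint_left.2 fun x hxy hxz => hzy ?_
  obtain ⟨g, hg, hg1⟩ := mem_classOf.1 hxy
  obtain ⟨f, hf, hf1⟩ := mem_classOf.1 hxz
  obtain ⟨-, hfc⟩ := C.rev_mem hz hf hf1
  obtain ⟨-, hgc⟩ := C.rev_mem hy hg hg1
  refine mem_classOf.2 ⟨f⁻¹ * g, ?_, ?_⟩
  · have hzm : z ∈ Subgroup.centralizer ({f⁻¹ * x * f} : Set G) := by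
      rw [hfc, Subgroup.mem_centralizer_singleton_iff]
    have h1 : f * z * f⁻¹ ∈ Subgroup.centralizer ({f * (f⁻¹ * x * f) * f⁻¹} : Set G) :=
      (centralizer_conj_mem f _ _).2 (by simpa [mul_assoc] using hzm)
    rw [show f * (f⁻¹ * x * f) * f⁻¹ = g * (g⁻¹ * x * g) * g⁻¹ by group,
      centralizer_conj_mem, hgc] at h1
    simpa [mul_assoc] using h1
  · intro h
    refine C.rev_ne_one hz ?_
    calc z = (f⁻¹ * g) * ((f⁻¹ * g)⁻¹ * z * (f⁻¹ * g)) * (f⁻¹ * g)⁻¹ := by group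
      _ = 1 := by rw [h]; group

/-- The size of such a set. -/
theorem Cfg.card_classOf (C : Cfg a b U g₀ α e) {y : G} (hy : Rev Ω y) :
    (classOf y).card * Nat.card (Subgroup.normalizer
        ((Subgroup.centralizer ({y} : Set G) : Subgroup G) : Set G)) =
      Nat.card G * (Nat.card (Subgroup.centralizer ({y} : Set G)) - 1) := by
  classical
  set D := Subgroup.centralizer ({y} : Set G)
  set N := Subgroup.normalizer (D : Set G)
  set P := (Finset.univ : Finset G) ×ˢ (Finset.univ.filter fun d : G => d ∈ D ∧ d ≠ 1) with hP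
  have hPcard : P.card = Nat.card G * (Nat.card D - 1) := by
    rw [hP, Finset.card_product, Finset.card_univ, ← Nat.card_eq_fintype_card]
    congr 1
    rw [show (Finset.univ.filter fun d : G => d ∈ D ∧ d ≠ 1) =
      (Finset.univ.filter fun d : G => d ∈ D).erase 1 by ext d; simp [and_comm],
      Finset.card_erase_of_mem (by simp), ← Fintype.card_subtype, ← Nat.card_eq_fintype_card]
  rw [← hPcard, Finset.card_eq_sum_card_fiberwise (f := fun p : G × G => p.1 * p.2 * p.1⁻¹)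
    (t := classOf y) (s := P) fun p hp => ?_]
  swap
  · refine mem_classOf.2 ⟨p.1, ?_⟩
    rw [show p.1⁻¹ * (p.1 * p.2 * p.1⁻¹) * p.1 = p.2 by group]
    exact (Finset.mem_filter.1 (Finset.mem_product.1 hp).2).2
  rw [Finset.sum_congr rfl (g := fun _ => Nat.card N), Finset.sum_const, smul_eq_mul]
  intro x hx
  obtain ⟨g, hg, hg1⟩ := mem_classOf.1 hx
  rw [← Fintype.card_coe, ← Nat.card_eq_fintype_card]
  have hmemF : ∀ p : G × G, p ∈ P.filter (fun p => p.1 * p.2 * p.1⁻¹ = x) ↔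
      (p.2 ∈ D ∧ p.2 ≠ 1) ∧ p.2 = p.1⁻¹ * x * p.1 := by
    intro p
    simp only [hP, Finset.mem_filter, Finset.mem_product, Finset.mem_univ, true_and]
    refine and_congr_right fun _ => ⟨fun h => by rw [← h]; group, fun h => by rw [h]; group⟩
  refine Nat.card_congr
    { toFun := fun p => ⟨g⁻¹ * p.1.1, ?_⟩
      invFun := fun n => ⟨(g * (n : G), (g * (n : G))⁻¹ * x * (g * (n : G))), (hmemF _).2 ⟨?_, rfl⟩⟩
      left_inv := fun p => Subtype.ext (Prod.ext (mul_inv_cancel_left _ _) (by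
        show (g * (g⁻¹ * p.1.1))⁻¹ * x * (g * (g⁻¹ * p.1.1)) = p.1.2
        rw [mul_inv_cancel_left]
        exact ((hmemF _).1 p.2).2.symm))
      right_inv := fun n => Subtype.ext (inv_mul_cancel_left _ _) }
  · obtain ⟨⟨hd, hd1⟩, he⟩ := (hmemF _).1 p.2
    obtain ⟨-, hdc⟩ := C.rev_mem hy hd hd1
    obtain ⟨-, hgc⟩ := C.rev_mem hy hg hg1
    set m := g⁻¹ * p.1.1 with hm
    have key : ∀ z, z ∈ D ↔ m * z * m⁻¹ ∈ D := fun z => by
      have hxp : p.1.1 * p.1.2 * p.1.1⁻¹ = x := by rw [he]; group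
      have hxg : g * (g⁻¹ * x * g) * g⁻¹ = x := by group
      have h1 := centralizer_conj_mem p.1.1 p.1.2 (p.1.1 * z * p.1.1⁻¹)
      rw [hxp, hdc, show p.1.1⁻¹ * (p.1.1 * z * p.1.1⁻¹) * p.1.1 = z by group] at h1
      have h2 := centralizer_conj_mem g (g⁻¹ * x * g) (p.1.1 * z * p.1.1⁻¹)
      rw [hxg, hgc, show g⁻¹ * (p.1.1 * z * p.1.1⁻¹) * g = m * z * m⁻¹ by rw [hm]; group] at h2
      exact h1.symm.trans h2
    exact Subgroup.mem_normalizer_iff.2 key
  · show (g * (n : G))⁻¹ * x * (g * (n : G)) ∈ D ∧ _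
    rw [show (g * (n : G))⁻¹ * x * (g * (n : G)) = (n : G)⁻¹ * (g⁻¹ * x * g) * (n : G) by group]
    refine ⟨?_, fun h => hg1 ?_⟩
    · have h := (Subgroup.mem_normalizer_iff.1 (inv_mem n.2) _).1 hg
      rwa [inv_inv] at h
    · calc g⁻¹ * x * g = (n : G) * ((n : G)⁻¹ * (g⁻¹ * x * g) * (n : G)) * (n : G)⁻¹ := by group
        _ = 1 := by dsimp only at h; rw [h]; group

open scoped Classical in
/-- The count of a representative: the share of the class and its weight. -/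
theorem Cfg.exists_type (C : Cfg a b U g₀ α e) {x : G} (hx : Rev Ω x) :
    ∃ y : G, (∃ t : G, y = t * x * t⁻¹) ∧ Rev Ω y ∧ ∃ w, (w = 2 ∨ w = 4) ∧
      w * ∑ z ∈ classOf y, Nat.card (Subgroup.centralizer ({z} : Set G)) =
        Nat.card G * (Nat.card (Subgroup.centralizer ({y} : Set G)) - 1) ∧
      ((w = 2 ∧ 2 * Nat.card G ≤ 5 * (classOf y).card) ∨
        (w = 4 ∧ Nat.card G ≤ 5 * (classOf y).card)) := by
  obtain ⟨hf, s, hs, hsx⟩ := id hx
  obtain ⟨p, hp, -⟩ := C.invol_fix hs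
  haveI := C.zass.2.1
  haveI : IsPretransitive G Ω := MulAction.isPretransitive_of_is_two_pretransitive
  obtain ⟨t, ht⟩ := exists_smul_eq G p a
  set y := t * x * t⁻¹ with hy
  have hyR : Rev Ω y := rev_conj hx t
  have hsy : t * s * t⁻¹ * y * (t * s * t⁻¹)⁻¹ = y⁻¹ := by
    rw [hy, show t * s * t⁻¹ * (t * x * t⁻¹) * (t * s * t⁻¹)⁻¹ = t * (s * x * s⁻¹) * t⁻¹ by group,
      hsx]
    group
  obtain ⟨w, hw, hN⟩ := C.card_normalizer hyR.1
    (show orderOf (t * s * t⁻¹) = 2 by rw [← hs, ← MulAut.conj_apply, MulEquiv.orderOf_eq])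
    hsy (by rw [mul_smul, mul_smul, inv_smul_eq_iff.2 ht.symm, hp, ht])
  have hcard := C.card_classOf hyR
  rw [hN] at hcard
  obtain ⟨-, h5⟩ := C.cent_card hyR
  set c := Nat.card (Subgroup.centralizer ({y} : Set G))
  have hsum : ∑ z ∈ classOf y, Nat.card (Subgroup.centralizer ({z} : Set G)) =
      (classOf y).card * c := by
    rw [Finset.sum_congr rfl fun z hz => (C.classOf_data hyR hz).2, Finset.sum_const, smul_eq_mul]
  refine ⟨y, ⟨t, rfl⟩, hyR, w, hw, by rw [hsum, ← hcard]; ring, ?_⟩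
  have h4 : 4 * c ≤ 5 * (c - 1) := by omega
  have h6 := Nat.mul_le_mul_left (Nat.card G) h4
  rw [← mul_left_comm 5, ← hcard] at h6
  rcases hw with rfl | rfl
  · left
    refine ⟨rfl, Nat.le_of_mul_le_mul_right ?_ (show 0 < 2 * c by omega)⟩
    calc 2 * Nat.card G * (2 * c) = Nat.card G * (4 * c) := by ring
      _ ≤ 5 * ((classOf y).card * (2 * c)) := h6
      _ = _ := by ring
  · right
    refine ⟨rfl, Nat.le_of_mul_le_mul_right ?_ (show 0 < 4 * c by omega)⟩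
    calc Nat.card G * (4 * c) ≤ 5 * ((classOf y).card * (4 * c)) := h6
      _ = _ := by ring

/-- Non-conjugate centralisers have coprime orders. -/
theorem Cfg.cent_coprime (C : Cfg a b U g₀ α e) {y₁ y₂ : G} (h₁ : Rev Ω y₁) (h₂ : Rev Ω y₂)
    (hne : y₂ ∉ classOf y₁) :
    Nat.Coprime (Nat.card (Subgroup.centralizer ({y₁} : Set G)))
      (Nat.card (Subgroup.centralizer ({y₂} : Set G))) := by
  refine Nat.coprime_of_dvd fun p hp hp1 hp2 => ?_
  haveI : Fact p.Prime := ⟨hp⟩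
  obtain ⟨x₁, hx₁⟩ := exists_prime_orderOf_dvd_card' p hp1
  obtain ⟨x₂, hx₂⟩ := exists_prime_orderOf_dvd_card' p hp2
  have hord : ∀ {H : Subgroup G} (x : H), orderOf x = p → (x : G) ≠ 1 ∧
      IsPGroup p (Subgroup.zpowers (x : G)) := fun x hx => by
    refine ⟨fun h => ?_, IsPGroup.of_card (n := 1) (by
      rw [Nat.card_zpowers, Subgroup.orderOf_coe, hx, pow_one])⟩
    rw [← Subgroup.orderOf_coe, h, orderOf_one] at hx
    exact hp.one_lt.ne hx
  obtain ⟨P, hP⟩ := (hord x₁ hx₁).2.exists_le_sylow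
  obtain ⟨Q, hQ⟩ := (hord x₂ hx₂).2.exists_le_sylow
  obtain ⟨g, hg⟩ := MulAction.exists_smul_eq G Q P
  have hgx : g * (x₂ : G) * g⁻¹ ∈ P := by
    show g * (x₂ : G) * g⁻¹ ∈ (P : Subgroup G)
    rw [← hg, Sylow.coe_subgroup_smul]
    exact Subgroup.smul_mem_pointwise_smul _ (MulAut.conj g) _ (hQ (Subgroup.mem_zpowers _))
  have hne1 : Nontrivial (P : Subgroup G) :=
    ⟨⟨⟨_, hP (Subgroup.mem_zpowers _)⟩, 1, fun h => (hord x₁ hx₁).1 (congrArg Subtype.val h)⟩⟩
  haveI := P.isPGroup'.center_nontrivial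
  obtain ⟨z, hz⟩ := exists_ne (1 : Subgroup.center (P : Subgroup G))
  set w : G := ((z : (P : Subgroup G)) : G) with hw
  have hw1 : w ≠ 1 := fun h => hz (Subtype.ext (Subtype.ext h))
  have hcom : ∀ v ∈ (P : Subgroup G), v * w = w * v := fun v hv =>
    congrArg Subtype.val (Subgroup.mem_center_iff.1 z.2 ⟨v, hv⟩)
  obtain ⟨hr1, hc1⟩ := C.rev_mem h₁ x₁.2 (hord x₁ hx₁).1
  obtain ⟨hr2, hc2⟩ := C.rev_mem h₂ x₂.2 (hord x₂ hx₂).1
  have hwD1 : w ∈ Subgroup.centralizer ({y₁} : Set G) := by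
    rw [← hc1, Subgroup.mem_centralizer_singleton_iff]
    exact (hcom _ (hP (Subgroup.mem_zpowers _))).symm
  have hwD2 : g⁻¹ * w * g ∈ Subgroup.centralizer ({y₂} : Set G) := by
    rw [← hc2, ← centralizer_conj_mem, Subgroup.mem_centralizer_singleton_iff]
    exact (hcom _ hgx).symm
  refine hne ?_
  by_contra hcon
  refine Finset.disjoint_left.1 (C.classOf_disjoint h₁ h₂ hcon)
    (mem_classOf.2 ⟨1, by simpa using hwD1, by simpa using hw1⟩)
    (mem_classOf.2 ⟨g, hwD2, fun h => hw1 ?_⟩)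
  calc w = g * (g⁻¹ * w * g) * g⁻¹ := by group
    _ = 1 := by rw [h]; group

/-- The order of the centre of the kernel is an odd power of two. -/
theorem Cfg.exists_odd_pow (C : Cfg a b U g₀ α e) :
    ∃ m : ℕ, 1 ≤ m ∧ e + 1 = 2 ^ (2 * m + 1) := by
  classical
  obtain ⟨hsum, hlt⟩ := C.sum_rev
  set X := Finset.univ.filter fun x : G => Rev Ω x with hX
  set S : G → ℕ := fun z => Nat.card (Subgroup.centralizer ({z} : Set G)) with hS
  have hGpos : 0 < Nat.card G := Nat.card_pos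
  have he3 := C.frame.three_le
  have hsub : ∀ y, Rev Ω y → classOf y ⊆ X := fun y hy z hz =>
    Finset.mem_filter.2 ⟨Finset.mem_univ _, (C.classOf_data hy hz).1⟩
  obtain ⟨x₁, hx₁⟩ : X.Nonempty := by
    rw [Finset.nonempty_iff_ne_empty]
    intro h
    rw [h, Finset.sum_empty, mul_zero] at hsum
    have : 0 < Nat.card G * (e + 1) := Nat.mul_pos hGpos (by omega)
    omega
  obtain ⟨y₁, -, hy₁, w₁, hw₁, hA₁, hT₁⟩ := C.exists_type (Finset.mem_filter.1 hx₁).2
  set c₁ := Nat.card (Subgroup.centralizer ({y₁} : Set G)) with hc₁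
  obtain ⟨-, h51⟩ := C.cent_card hy₁
  -- a second class
  by_cases hall : X ⊆ classOf y₁
  · exfalso
    have hXe : X = classOf y₁ := Finset.Subset.antisymm hall (hsub y₁ hy₁)
    rw [hXe] at hsum
    have hd := C.card_cent_dvd hy₁
    rw [← hc₁] at hd
    have hkey : w₁ * (e + 1) = 2 * (c₁ - 1) := by
      refine Nat.eq_of_mul_eq_mul_left hGpos ?_
      calc Nat.card G * (w₁ * (e + 1)) = w₁ * (Nat.card G * (e + 1)) := by ring
        _ = _ := by rw [← hsum, ← mul_assoc, mul_comm w₁ 2, mul_assoc, hA₁]; ring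
    rcases hw₁ with rfl | rfl
    · have hc : c₁ = e + 2 := by omega
      rw [hc] at hd
      have h2 : e + 2 ∣ 2 := by
        refine (Nat.dvd_add_right (dvd_mul_right (e + 2) e)).1 ?_
        rwa [show (e + 2) * e + 2 = (e + 1) ^ 2 + 1 by ring]
      have := Nat.le_of_dvd (by omega) h2
      omega
    · have hc : c₁ = 2 * e + 3 := by omega
      rw [hc] at hd
      have h5 : 2 * e + 3 ∣ 5 := by
        refine (Nat.dvd_add_right (dvd_mul_right (2 * e + 3) (2 * e + 1))).1 ?_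
        rw [show (2 * e + 3) * (2 * e + 1) + 5 = 4 * ((e + 1) ^ 2 + 1) by ring]
        exact hd.mul_left 4
      have := Nat.le_of_dvd (by omega) h5
      omega
  obtain ⟨x₂, hx₂, hx₂n⟩ := Finset.not_subset.1 hall
  obtain ⟨y₂, ⟨t₂, ht₂⟩, hy₂, w₂, hw₂, hA₂, hT₂⟩ := C.exists_type (Finset.mem_filter.1 hx₂).2
  have hy₂n : y₂ ∉ classOf y₁ := fun h => hx₂n (classOf_conj t₂ (ht₂ ▸ h))
  have hd12 := C.classOf_disjoint hy₁ hy₂ hy₂n
  have hle12 : (classOf y₁).card + (classOf y₂).card ≤ X.card := by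
    rw [← Finset.card_union_of_disjoint hd12]
    exact Finset.card_le_card (Finset.union_subset (hsub y₁ hy₁) (hsub y₂ hy₂))
  have h1a : w₁ = 4 := by rcases hT₁ with h | h <;> rcases hT₂ with h' | h' <;> omega
  have h2a : w₂ = 4 := by rcases hT₁ with h | h <;> rcases hT₂ with h' | h' <;> omega
  have hall2 : X ⊆ classOf y₁ ∪ classOf y₂ := by
    by_contra h
    obtain ⟨x₃, hx₃, hx₃n⟩ := Finset.not_subset.1 h
    rw [Finset.mem_union, not_or] at hx₃n
    obtain ⟨y₃, ⟨t₃, ht₃⟩, hy₃, w₃, -, -, hT₃⟩ := C.exists_type (Finset.mem_filter.1 hx₃).2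
    have h31 : y₃ ∉ classOf y₁ := fun h => hx₃n.1 (classOf_conj t₃ (ht₃ ▸ h))
    have h32 : y₃ ∉ classOf y₂ := fun h => hx₃n.2 (classOf_conj t₃ (ht₃ ▸ h))
    have hle : (classOf y₁).card + (classOf y₂).card + (classOf y₃).card ≤ X.card := by
      rw [← Finset.card_union_of_disjoint hd12, ← Finset.card_union_of_disjoint
        (Finset.disjoint_union_left.2 ⟨C.classOf_disjoint hy₁ hy₃ h31,
          C.classOf_disjoint hy₂ hy₃ h32⟩)]
      exact Finset.card_le_card (Finset.union_subset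
        (Finset.union_subset (hsub y₁ hy₁) (hsub y₂ hy₂)) (hsub y₃ hy₃))
    rcases hT₁ with h | h <;> rcases hT₂ with h' | h' <;> rcases hT₃ with h'' | h'' <;> omega
  subst h1a h2a
  set c₂ := Nat.card (Subgroup.centralizer ({y₂} : Set G)) with hc₂
  obtain ⟨-, h52⟩ := C.cent_card hy₂
  have hXe : X = classOf y₁ ∪ classOf y₂ :=
    Finset.Subset.antisymm hall2 (Finset.union_subset (hsub y₁ hy₁) (hsub y₂ hy₂))
  rw [hXe, Finset.sum_union hd12] at hsum
  have hkey : (c₁ - 1) + (c₂ - 1) = 2 * (e + 1) := by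
    refine Nat.eq_of_mul_eq_mul_left hGpos ?_
    rw [mul_add, ← hA₁, ← hA₂, mul_left_comm (Nat.card G) 2, ← hsum]
    ring
  have hcop := C.cent_coprime hy₁ hy₂ hy₂n
  have hdvd : c₁ * c₂ ∣ (e + 1) ^ 2 + 1 :=
    hcop.mul_dvd_of_dvd_of_dvd (C.card_cent_dvd hy₁) (C.card_cent_dvd hy₂)
  obtain ⟨d, hd⟩ := sq_of_divisors (show 1 ≤ c₁ by omega) (show 1 ≤ c₂ by omega)
    (show c₁ + c₂ = 2 * (e + 1) + 2 by omega) hdvd
  haveI : Fact (Nat.Prime 2) := ⟨Nat.prime_two⟩
  obtain ⟨n, hn⟩ := (C.frame.isPGroup.to_subgroup (Subgroup.center U)).exists_card_eq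
  rw [C.frame.card_center] at hn
  rw [hn, show (8 : ℕ) = 2 ^ 3 by norm_num, ← pow_add] at hd
  obtain ⟨j, -, rfl⟩ := (Nat.dvd_prime_pow Nat.prime_two).1 (show d ∣ 2 ^ (3 + n) from ⟨d, hd⟩)
  rw [← pow_add] at hd
  have hjn := Nat.pow_right_injective le_rfl hd
  have hn2 : 2 ≤ n := by
    by_contra h
    have : 2 ^ n ≤ 2 ^ 1 := Nat.pow_le_pow_right (by norm_num) (by omega)
    omega
  obtain ⟨m, hm⟩ : ∃ m, n = 2 * m + 1 := ⟨j - 2, by omega⟩
  exact ⟨m, by omega, by rw [← hm, hn]⟩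

/-- The order. -/
theorem Cfg.suzuki_order (C : Cfg a b U g₀ α e) :
    ∃ m : ℕ, 1 ≤ m ∧ Nat.card G =
      (2 ^ (2 * m + 1)) ^ 2 * ((2 ^ (2 * m + 1)) ^ 2 + 1) * (2 ^ (2 * m + 1) - 1) := by
  obtain ⟨m, hm1, hm⟩ := C.exists_odd_pow
  refine ⟨m, hm1, ?_⟩
  rw [C.card_group, C.index_eq_q.1, ← hm, Nat.add_sub_cancel]
  ring

end CfsgLib.SuzTop
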