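import Cfsg.Agent.Suz.Series
import Cfsg.Agent.Recog.SingerField

/-!
Field coordinates on a layer of order `e + 1`.
-/

set_option autoImplicit false
set_option linter.unusedSectionVars false
set_option linter.style.haveILetI false

namespace CfsgLib.SuzTop

open Subgroup

variable {U : Type*} [Group U] [Finite U] {α : MulAut U} {e : ℕ} (D : Frame α e)
include D

theorem Frame.exists_coord {A B : Subgroup U} [hAn : A.Normal] (hA : Inv α A) (hB : Inv α B)
    (hAB : A ≤ B) (hcard : A.relIndex B = e + 1) :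
    ∃ (F : Type) (_ : Field F) (_ : Fintype F) (_ : CharP F 2) (f : U → F) (ω : F),
      (∀ x ∈ B, ∀ y ∈ B, f (x * y) = f x + f y) ∧ (∀ x ∈ B, (f x = 0 ↔ x ∈ A)) ∧
      (∀ z : F, ∃ x ∈ B, f x = z) ∧ (∀ x ∈ B, f (α x) = ω * f x) ∧
      (∀ z : F, z ≠ 0 → ∃ i : ℕ, ω ^ i = z) ∧ Fintype.card F = e + 1 := by
  classical
  have hMcard : Nat.card (B ⧸ A.subgroupOf B) = e + 1 := hcard
  haveI : Nontrivial (B ⧸ A.subgroupOf B) := Finite.one_lt_card_iff_nontrivial.1 (by
    rw [hMcard]; have := D.three_le; omega)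
  let g : B →* B :=
    { toFun := fun x => ⟨α x, hB _ x.2⟩
      map_one' := Subtype.ext (map_one α)
      map_mul' := fun x y => Subtype.ext (map_mul α (x : U) y) }
  have hker : A.subgroupOf B ≤ (A.subgroupOf B).comap g := fun x hx => hA _ hx
  let gq := QuotientGroup.map (A.subgroupOf B) (A.subgroupOf B) g hker
  have hgq : Function.Bijective gq := by
    refine Finite.injective_iff_bijective.1 ((injective_iff_map_eq_one gq).2 fun c => ?_)
    induction c using QuotientGroup.induction_on with
    | H x =>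
      intro hx
      rw [QuotientGroup.map_mk, QuotientGroup.eq_one_iff] at hx
      have hx' : α (x : U) ∈ A := hx
      have h := hA.pow (e - 1) _ hx'
      rw [← MulAut.mul_apply, ← pow_succ, Nat.sub_add_cancel D.e_pos, D.pow_e] at h
      exact (QuotientGroup.eq_one_iff x).2 h
  let β := MulEquiv.ofBijective gq hgq
  have hβ : ∀ (i : ℕ) (x : B), (β : MulAut (B ⧸ A.subgroupOf B)) ^ i • (QuotientGroup.mk x : B ⧸ A.subgroupOf B) =
      QuotientGroup.mk ⟨(α ^ i) (x : U), hB.pow i _ x.2⟩ := by
    intro i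
    induction i with
    | zero => intro x; simp
    | succ i ih =>
      intro x
      rw [pow_succ', mul_smul, ih, MulAut.smul_def]
      simp only [β, MulEquiv.ofBijective_apply, gq, QuotientGroup.map_mk]
      refine congrArg QuotientGroup.mk (Subtype.ext ?_)
      show α ((α ^ i) (x : U)) = (α ^ (i + 1)) (x : U)
      rw [pow_succ', MulAut.mul_apply]
  have hmk : ∀ x : B, (QuotientGroup.mk x : B ⧸ A.subgroupOf B) = 1 ↔ (x : U) ∈ A := fun x =>
    QuotientGroup.eq_one_iff x
  have hsq : ∀ c : B ⧸ A.subgroupOf B, c * c = 1 := fun c => by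
    induction c using QuotientGroup.induction_on with
    | H x =>
      rw [← QuotientGroup.mk_mul, hmk]
      exact D.sq_mem hA hB hAB hcard x.2
  have htr : ∀ x y : B ⧸ A.subgroupOf B, x ≠ 1 → y ≠ 1 →
      ∃ i : ℕ, (β : MulAut (B ⧸ A.subgroupOf B)) ^ i • x = y := by
    intro x y
    induction x using QuotientGroup.induction_on with
    | H x =>
      induction y using QuotientGroup.induction_on with
      | H y =>
        intro hx hy
        obtain ⟨i, hi⟩ := D.trans_quot hA hB hAB hcard x.2 (fun h => hx ((hmk x).2 h)) y.2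
          (fun h => hy ((hmk y).2 h))
        exact ⟨i, (hβ i x).trans (QuotientGroup.eq.2 hi)⟩
  obtain ⟨F, iF, iT, iC, ef, ω, hadd, -, hω, hgen⟩ :=
    CfsgLib.Recog.SingerField.exists_field hsq β htr
  letI := iF; letI := iT
  have hone : ef 1 = 0 := by
    have := hadd 1 1
    rw [one_mul] at this
    exact left_eq_add.1 this
  refine ⟨F, iF, iT, iC, fun u => if h : u ∈ B then ef (QuotientGroup.mk ⟨u, h⟩) else 0, ω,
    fun x hx y hy => ?_, fun x hx => ?_, fun z => ?_, fun x hx => ?_, hgen, ?_⟩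
  · simp only
    rw [dif_pos (mul_mem hx hy), dif_pos hx, dif_pos hy, ← hadd, ← QuotientGroup.mk_mul]
    rfl
  · simp only
    rw [dif_pos hx, ← hone, ef.injective.eq_iff, hmk]
  · obtain ⟨x, hx⟩ := Quotient.exists_rep (ef.symm z)
    refine ⟨x, x.2, ?_⟩
    simp only
    rw [dif_pos x.2]
    show ef (Quotient.mk _ x) = z
    rw [hx, Equiv.apply_symm_apply]
  · simp only
    rw [dif_pos hx, dif_pos (hB _ hx), ← hω]
    rfl
  · rw [← Nat.card_eq_fintype_card, ← Nat.card_congr ef, hMcard]

end CfsgLib.SuzTop
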