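import Cfsg.Agent.Suz.IndexQ


/-!
If the derived subgroup has index `(e + 1) ^ 2` and every commutator map is onto then it is the
centre.
-/

set_option autoImplicit false
set_option linter.unusedSectionVars false
set_option linter.style.haveILetI false

namespace CfsgLib.SuzTop

open Subgroup Finset
open scoped commutatorElement

variable {U : Type*} [Group U] [Finite U] {α : MulAut U} {e : ℕ}

theorem Inv.comm_top {A : Subgroup U} (hA : Inv α A) : Inv α ⁅A, (⊤ : Subgroup U)⁆ := by
  intro x hx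
  have hle : ⁅A, (⊤ : Subgroup U)⁆.map α.toMonoidHom ≤ ⁅A, (⊤ : Subgroup U)⁆ := by
    rw [map_commutator]
    refine commutator_mono ?_ le_top
    rintro _ ⟨a, ha, rfl⟩
    exact hA a ha
  exact hle ⟨x, hx, rfl⟩

theorem commutator_top_lt {A : Subgroup U} [Group.IsNilpotent U] [hAn : A.Normal] (hne : A ≠ ⊥) :
    ⁅A, (⊤ : Subgroup U)⁆ < A := by
  classical
  have hle : ⁅A, (⊤ : Subgroup U)⁆ ≤ A := commutator_le_left A ⊤
  refine lt_of_le_of_ne hle fun heq => hne ?_
  obtain ⟨c, hc⟩ := ‹Group.IsNilpotent U›.nilpotent'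
  have hstep : ∀ j, A ≤ Subgroup.upperCentralSeries U (j + 1) → A ≤ Subgroup.upperCentralSeries U j := by
    intro j hj
    rw [← heq, commutator_le]
    intro a ha y _
    exact Subgroup.mem_upperCentralSeries_succ_iff.1 (hj ha) y
  have : ∀ j, A ≤ Subgroup.upperCentralSeries U j → A = ⊥ := by
    intro j
    induction j with
    | zero => intro h; rw [Subgroup.upperCentralSeries_zero] at h; exact le_bot_iff.1 h
    | succ j ih => exact fun h => ih (hstep j h)
  exact this c (hc ▸ le_top)

variable (D : Frame α e)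
include D

theorem Frame.odd_e : Odd e := by
  haveI : Fact (Nat.Prime 2) := ⟨Nat.prime_two⟩
  obtain ⟨k, hk⟩ := (D.isPGroup.to_subgroup (center U)).exists_card_eq
  rw [D.card_center] at hk
  have := D.three_le
  rcases k with _ | k
  · simp at hk; omega
  · exact ⟨2 ^ k - 1, by rw [pow_succ] at hk; omega⟩

theorem Frame.eq_of_dvd_sq {r : ℕ} (hdvd : r ∣ (e + 1) ^ 2) (hmod : e ∣ r - 1)
    (hlt : r < (e + 1) ^ 2) (hge : e + 1 ≤ r) : r = e + 1 := by
  haveI : Fact (Nat.Prime 2) := ⟨Nat.prime_two⟩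
  obtain ⟨n, hn⟩ := (D.isPGroup.to_subgroup (center U)).exists_card_eq
  rw [D.card_center] at hn
  rw [hn, ← pow_mul] at hdvd
  obtain ⟨a, -, rfl⟩ := (Nat.dvd_prime_pow Nat.prime_two).1 hdvd
  have h2a : n ≤ a := (Nat.pow_le_pow_iff_right (by norm_num)).1 (hn ▸ hge)
  obtain ⟨b, rfl⟩ := Nat.exists_eq_add_of_le h2a
  rw [hn]
  rcases Nat.eq_zero_or_pos b with rfl | hb
  · simp
  exfalso
  have hbn : 2 ^ b < e + 1 := by
    rw [hn, ← pow_mul, Nat.pow_lt_pow_iff_right (by norm_num)] at hlt
    rw [hn, Nat.pow_lt_pow_iff_right (by norm_num)]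
    omega
  have h2b : 2 ≤ 2 ^ b := Nat.le_self_pow hb.ne' 2
  obtain ⟨t, ht⟩ := hmod
  rw [pow_add, ← hn] at ht
  have hd : e ∣ 2 ^ b - 1 := by
    have hd' : e ∣ e * 2 ^ b + (2 ^ b - 1) := ⟨t, by
      rw [← ht, add_one_mul]
      omega⟩
    exact (Nat.dvd_add_iff_right (dvd_mul_right e _)).2 hd'
  have := Nat.le_of_dvd (by omega) hd
  omega

/-- The case of index `(e + 1) ^ 2`. -/
theorem Frame.card_of_index_sq (hidx : (commutator U).index = (e + 1) ^ 2)
    (hne : commutator U ≠ ⊥)
    (hfull : ∀ (I : Subgroup U) [I.Normal], I < commutator U →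
      (∀ n ∈ commutator U, ∀ z, ⁅n, z⁆ ∈ I) → ∀ y, y ∉ commutator U → ∃ z, ⁅y, z⁆ ∉ I) :
    Nat.card U = (e + 1) ^ 3 ∧ commutator U = center U ∧ ∀ x : U, x * x ∈ center U := by
  classical
  haveI : Fact (Nat.Prime 2) := ⟨Nat.prime_two⟩
  haveI : Group.IsNilpotent U := D.isPGroup.isNilpotent
  haveI := Fintype.ofFinite U
  set N := commutator U with hNdef
  have hNi : Inv α N := inv_commutator α
  have hcommN : ∀ x y : U, ⁅x, y⁆ ∈ N := fun x y => by
    rw [hNdef, _root_.commutator_def]; exact commutator_mem_commutator (mem_top x) (mem_top y)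
  set K := ⁅N, (⊤ : Subgroup U)⁆ with hKdef
  have hKN : K < N := commutator_top_lt hne
  have hKi : Inv α K := hNi.comm_top
  have hKcomm : ∀ n ∈ N, ∀ z, ⁅n, z⁆ ∈ K := fun n hn z => commutator_mem_commutator hn (mem_top z)
  -- the commutator map at an element outside `N`
  let g : U → U → U ⧸ K := fun y z => QuotientGroup.mk ⁅y, z⁆
  have gmul : ∀ y z z', g y (z * z') = g y z * g y z' := by
    intro y z z'
    simp only [g, ← QuotientGroup.mk_mul]
    rw [show ⁅y, z * z'⁆ = ⁅y, z⁆ * ⁅z, ⁅y, z'⁆⁆ * ⁅y, z'⁆ by simp only [commutatorElement_def]; group]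
    refine QuotientGroup.eq.2 ?_
    have : ⁅z, ⁅y, z'⁆⁆ ∈ K := by
      rw [← commutatorElement_inv]; exact inv_mem (hKcomm _ (hcommN y z') z)
    have h := (inferInstance : K.Normal).conj_mem _ (inv_mem this) (⁅y, z'⁆⁻¹)
    convert h using 1
    group
  let G : U → U →* U ⧸ K := fun y => MonoidHom.mk' (g y) (gmul y)
  have hGN : ∀ y, ∀ n ∈ N, G y n = 1 := fun y n hn => (QuotientGroup.eq_one_iff _).2 (by
    rw [← commutatorElement_inv]; exact inv_mem (hKcomm n hn y))
  have honto : ∀ y, y ∉ N → ∀ n ∈ N, ∃ z, (QuotientGroup.mk n : U ⧸ K) = G y z := by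
    intro y hy n hn
    set I := (G y).range.comap (QuotientGroup.mk' K) with hI
    have hKI : K ≤ I := fun k hk => ⟨1, by
      rw [map_one]; exact ((QuotientGroup.eq_one_iff k).2 hk).symm⟩
    have hIN : I ≤ N := by
      rintro x ⟨z, hz⟩
      have h' : ⁅y, z⁆⁻¹ * x ∈ K := QuotientGroup.eq.1 hz
      rw [show x = ⁅y, z⁆ * (⁅y, z⁆⁻¹ * x) by group]
      exact mul_mem (hcommN y z) (hKN.le h')
    haveI : I.Normal := ⟨fun x hx g => by
      have h : ⁅x⁻¹, g⁆ ∈ I := hKI (hKcomm _ (inv_mem (hIN hx)) g)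
      rw [show g * x * g⁻¹ = x * ⁅x⁻¹, g⁆ by simp [commutatorElement_def, mul_assoc]]
      exact mul_mem hx h⟩
    by_contra hno
    push Not at hno
    have hlt : I < N := lt_of_le_of_ne hIN fun h => by
      obtain ⟨z, hz⟩ := (h ▸ hn : n ∈ I)
      exact hno z hz.symm
    obtain ⟨z, hz⟩ := hfull I hlt (fun n hn z => hKI (hKcomm n hn z)) y hy
    exact hz ⟨z, rfl⟩
  have hrange : ∀ y, y ∉ N → (G y).range = N.map (QuotientGroup.mk' K) := by
    intro y hy
    refine le_antisymm ?_ ?_
    · rintro _ ⟨z, rfl⟩; exact ⟨_, hcommN y z, rfl⟩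
    · rintro _ ⟨n, hn, rfl⟩
      obtain ⟨z, hz⟩ := honto y hy n hn
      exact ⟨z, hz.symm⟩
  have hcardmap : Nat.card (N.map (QuotientGroup.mk' K)) = K.relIndex N := by
    rw [← Subgroup.relIndex_bot_left, ← Subgroup.map_bot (QuotientGroup.mk' K),
      Subgroup.relIndex_map_map, QuotientGroup.ker_mk', bot_sup_eq, sup_eq_left.2 hKN.le]
  obtain ⟨y0, hy0⟩ : ∃ y, y ∉ N := by
    by_contra h
    push Not at h
    rw [show N = ⊤ from eq_top_iff.2 fun x _ => h x, Subgroup.index_top] at hidx
    have := D.three_le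
    nlinarith
  have hr : K.relIndex N = e + 1 := by
    have hker : N ≤ (G y0).ker := fun n hn => hGN y0 n hn
    have hy0k : y0 ∈ (G y0).ker := (QuotientGroup.eq_one_iff _).2 (by
      rw [commutatorElement_self]; exact one_mem K)
    have hidxk : (G y0).ker.index = K.relIndex N := by
      rw [Subgroup.index_ker, hrange y0 hy0, hcardmap]
    refine D.eq_of_dvd_sq ?_ (D.dvd_relIndex_sub_one hKi hNi hKN.le) ?_ (D.lt_relIndex hKi hNi hKN)
    · rw [← hidx, ← hidxk]; exact Subgroup.index_dvd_of_le hker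
    · rw [← hidx, ← hidxk]
      exact Subgroup.index_strictAnti (lt_of_le_of_ne hker fun h => hy0 (h ▸ hy0k))
  have hNsq : ∀ n ∈ N, n * n ∈ K := fun n hn => D.sq_mem hKi hNi hKN.le hr hn
  have hsqN : ∀ y : U, y * y ∈ N := by
    intro y
    by_contra hy
    obtain ⟨z, hz⟩ := hfull K hKN hKcomm _ hy
    refine hz ?_
    rw [show ⁅y * y, z⁆ = ⁅y, ⁅y, z⁆⁆ * (⁅y, z⁆ * ⁅y, z⁆) by simp only [commutatorElement_def]; group]
    refine mul_mem ?_ (hNsq _ (hcommN y z))
    rw [← commutatorElement_inv]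
    exact inv_mem (hKcomm _ (hcommN y z) y)
  -- the derived subgroup is central
  suffices hK : K = ⊥ by
    have hle : N ≤ center U := fun n hn => mem_center_iff.2 fun z => by
      have h := hKcomm n hn z
      rw [hK, mem_bot, commutatorElement_eq_one_iff_mul_comm] at h
      exact h.symm
    have hNc : Nat.card N = e + 1 := by rw [← hr, hK, Subgroup.relIndex_bot_left]
    have heq : N = center U :=
      Subgroup.eq_of_le_of_card_ge hle (le_of_eq (by rw [hNc, D.card_center]))
    refine ⟨?_, heq, fun x => heq ▸ hsqN x⟩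
    rw [← N.card_mul_index, hidx, hNc]
    ring
  by_contra hKne
  set L := ⁅K, (⊤ : Subgroup U)⁆ with hLdef
  have hLK : L < K := commutator_top_lt hKne
  have hLi : Inv α L := hKi.comm_top
  set π := QuotientGroup.mk' L
  have hπ : ∀ x, π x = 1 ↔ x ∈ L := fun x => QuotientGroup.eq_one_iff x
  have hKcen : ∀ k ∈ K, ∀ x : U, Commute (π k) (π x) := by
    intro k hk x
    rw [← commutatorElement_eq_one_iff_commute, ← map_commutatorElement, hπ]
    exact commutator_mem_commutator hk (mem_top x)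
  have hKsq : ∀ k ∈ K, π k * π k = 1 := by
    intro k hk
    rw [hKdef, Subgroup.commutator_def] at hk
    induction hk using Subgroup.closure_induction with
    | mem c hc =>
      obtain ⟨n, hn, z, -, rfl⟩ := hc
      have h1 : π ⁅n * n, z⁆ = 1 := (hπ _).2 (commutator_mem_commutator (hNsq n hn) (mem_top z))
      rw [show ⁅n * n, z⁆ = n * ⁅n, z⁆ * n⁻¹ * ⁅n, z⁆ by simp only [commutatorElement_def]; group,
        map_mul, map_mul, map_mul, map_inv, ← (hKcen _ (hKcomm n hn z) n).eq] at h1
      rwa [mul_inv_cancel_right] at h1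
    | one => simp
    | mul a b ha hb iha ihb =>
      have hab : Commute (π b) (π a) := hKcen b (by rw [hKdef, Subgroup.commutator_def]; exact hb) a
      rw [map_mul, show π a * π b * (π a * π b) = π a * (π b * π a) * π b by group, hab.eq,
        show π a * (π a * π b) * π b = (π a * π a) * (π b * π b) by group, iha, ihb, one_mul]
    | inv a _ iha => rw [map_inv, ← mul_inv_rev, iha, inv_one]
  have hnn : ∀ {a : U}, a ∈ N → ∀ {k : U}, k ∈ K → π (a * k) * π (a * k) = π a * π a := by
    intro a ha k hk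
    have h := (hKcen k hk a).eq
    rw [map_mul, show π a * π k * (π a * π k) = π a * (π k * π a) * π k by group, h,
      show π a * (π a * π k) * π k = (π a * π a) * (π k * π k) by group, hKsq k hk, mul_one]
  have hTk : ∀ (y : U) {k : U}, k ∈ K → π ⁅y, k⁆ = 1 := fun y k hk => (hπ _).2 (by
    rw [← commutatorElement_inv]; exact inv_mem (commutator_mem_commutator hk (mem_top y)))
  have hTmemK : ∀ (y : U) {n : U}, n ∈ N → ⁅y, n⁆ ∈ K := fun y n hn => by
    rw [← commutatorElement_inv]; exact inv_mem (hKcomm n hn y)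
  have hNN : ∀ a ∈ N, ∀ n ∈ N, ⁅a, n⁆ ∈ L := by
    intro a ha n hn
    refine (hπ _).1 ?_
    have hKc : ⁅(⊤ : Subgroup (U ⧸ L)), N.map π⁆ ≤ center _ := by
      rw [commutator_le]
      rintro a' - _ ⟨b, hb, rfl⟩
      obtain ⟨a', rfl⟩ := QuotientGroup.mk'_surjective _ a'
      rw [mem_center_iff]
      intro g
      obtain ⟨g, rfl⟩ := QuotientGroup.mk'_surjective _ g
      rw [← map_commutatorElement]
      exact (hKcen _ (hTmemK a' hb) g).symm.eq
    have h1 : ⁅⁅(⊤ : Subgroup (U ⧸ L)), N.map π⁆, (⊤ : Subgroup (U ⧸ L))⁆ = ⊥ :=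
      eq_bot_iff.2 ((commutator_mono hKc le_rfl).trans (by
        rw [commutator_le]
        intro u hu g _
        rw [mem_bot, commutatorElement_eq_one_iff_mul_comm, mem_center_iff.1 hu g]))
    have h2 : ⁅⁅N.map π, (⊤ : Subgroup (U ⧸ L))⁆, (⊤ : Subgroup (U ⧸ L))⁆ = ⊥ := by
      rw [commutator_comm (N.map π)]; exact h1
    have h3 := commutator_commutator_eq_bot_of_rotate h1 h2
    have hm : π a ∈ ⁅(⊤ : Subgroup (U ⧸ L)), (⊤ : Subgroup (U ⧸ L))⁆ := by
      rw [← Subgroup.map_top_of_surjective π (QuotientGroup.mk'_surjective _), ← map_commutator]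
      exact mem_map_of_mem π (by rwa [← _root_.commutator_def])
    have h4 := commutator_mem_commutator hm (mem_map_of_mem π hn)
    rw [h3, mem_bot, ← map_commutatorElement] at h4
    exact h4
  have hTr : ∀ (y : U) {a b : U}, a ∈ N → b ∈ N → π ⁅y, a * b⁆ = π ⁅y, a⁆ * π ⁅y, b⁆ := by
    intro y a b _ hb
    rw [show ⁅y, a * b⁆ = ⁅y, a⁆ * (a * ⁅y, b⁆ * a⁻¹) by simp only [commutatorElement_def]; group,
      map_mul, map_mul, map_mul, map_inv, ← (hKcen _ (hTmemK y hb) a).eq, mul_inv_cancel_right]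
  have hTl : ∀ (x y : U) {n : U}, n ∈ N → π ⁅x * y, n⁆ = π ⁅x, n⁆ * π ⁅y, n⁆ := by
    intro x y n hn
    rw [show ⁅x * y, n⁆ = (x * ⁅y, n⁆ * x⁻¹) * ⁅x, n⁆ by simp only [commutatorElement_def]; group,
      map_mul, map_mul, map_mul, map_inv, ← (hKcen _ (hTmemK y hn) x).eq, mul_inv_cancel_right,
      (hKcen _ (hTmemK y hn) _).eq]
  have hid : ∀ y z : U, π ⁅y * y, z⁆ = π ⁅y, ⁅y, z⁆⁆ * (π ⁅y, z⁆ * π ⁅y, z⁆) := fun y z => by
    rw [show ⁅y * y, z⁆ = ⁅y, ⁅y, z⁆⁆ * (⁅y, z⁆ * ⁅y, z⁆) by simp only [commutatorElement_def]; group,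
      map_mul, map_mul]
  have hsing : ∀ y, y ∉ N → y * y ∈ K → ∀ n ∈ N, π ⁅y, n⁆ = π n * π n := by
    intro y hy hyy n hn
    obtain ⟨z, hz⟩ := honto y hy n hn
    have hk : ⁅y, z⁆⁻¹ * n ∈ K := QuotientGroup.eq.1 hz.symm
    set c := ⁅y, z⁆ with hc
    rw [show n = c * (c⁻¹ * n) by group, hTr y (hcommN y z) (hKN.le hk), hTk y hk, mul_one,
      ← map_mul π (c * (c⁻¹ * n)), map_mul π, hnn (hcommN y z) hk]
    have h := hid y z
    rw [(hπ _).2 (commutator_mem_commutator hyy (mem_top z)), ← hc] at h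
    have hcc : π c * π c ∈ Subgroup.map π K := ⟨c * c, hNsq c (hcommN y z), map_mul π c c⟩
    obtain ⟨k, hk', hk''⟩ := hcc
    rw [← hk''] at h ⊢
    rw [eq_comm, mul_eq_one_iff_eq_inv] at h
    rw [h, eq_comm, eq_inv_iff_mul_eq_one, hKsq k hk']
  have hsingN : ∀ y, y ∉ N → y * y ∈ K → ∀ n ∈ N, π ⁅y, n⁆ = 1 := by
    intro y hy hyy n hn
    let pr : ℕ → U := fun m => ((List.range m).map fun i => (α ^ i) y).prod
    have hpr : ∀ m, pr (m + 1) = pr m * (α ^ m) y := fun m => by
      simp [pr, List.range_succ]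
    have hval : ∀ m, π ⁅pr m, n⁆ = (π n * π n) ^ m := by
      intro m
      induction m with
      | zero => simp [pr]
      | succ m ih =>
        rw [hpr, hTl _ _ hn, ih, pow_succ]
        congr 1
        refine hsing _ ?_ ?_ n hn
        · intro hmem
          rcases Nat.eq_zero_or_pos m with rfl | hm
          · exact hy (by simpa using hmem)
          obtain ⟨a, ha⟩ : ∃ a, (m + a) % e = 0 := ⟨e * m - m, by
            rw [Nat.add_sub_cancel' (Nat.le_mul_of_pos_left _ D.e_pos), Nat.mul_mod_right]⟩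
          have h' := hNi.pow a _ hmem
          rw [← MulAut.mul_apply, ← pow_add, add_comm a m, ← Nat.div_add_mod (m + a) e, ha, add_zero,
            pow_mul, D.pow_e, one_pow] at h'
          exact hy h'
        · rw [← map_mul]; exact hKi.pow m _ hyy
    have hshift : (pr e)⁻¹ * α (pr e) ∈ N := by
      have hα : α (pr e) = ((List.range e).map fun i => (α ^ (i + 1)) y).prod := by
        simp only [pr, map_list_prod, List.map_map]
        congr 1
        refine List.map_congr_left fun i _ => ?_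
        simp [pow_succ', MulAut.mul_apply]
      have hab : ∀ a b : U ⧸ N, a * b = b * a := fun a b => by
        induction a using QuotientGroup.induction_on with
        | H a =>
          induction b using QuotientGroup.induction_on with
          | H b =>
            rw [← QuotientGroup.mk_mul, ← QuotientGroup.mk_mul]
            refine QuotientGroup.eq.2 ?_
            rw [show (a * b)⁻¹ * (b * a) = ⁅b⁻¹, a⁻¹⁆ by simp only [commutatorElement_def]; group]
            exact hcommN _ _
      letI : CommGroup (U ⧸ N) :=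
        { (inferInstance : Group (U ⧸ N)) with mul_comm := hab }
      refine QuotientGroup.eq.1 ?_
      show QuotientGroup.mk' N (pr e) = QuotientGroup.mk' N (α (pr e))
      rw [hα]
      simp only [pr, map_list_prod, List.map_map]
      have h1 : ∀ (f : ℕ → U ⧸ N) m, ((List.range m).map f).prod = ∏ i ∈ Finset.range m, f i :=
        fun f m => by
          induction m with
          | zero => simp
          | succ m ih => simp [List.range_succ, Finset.prod_range_succ, ih]
      rw [h1, h1]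
      obtain ⟨e', he'⟩ : ∃ e', e = e' + 1 := ⟨e - 1, by have := D.e_pos; omega⟩
      rw [he', Finset.prod_range_succ', Finset.prod_range_succ]
      congr 1
      simp [← he', D.pow_e]
    have hPN : pr e ∈ N := by
      refine (D.free_quot hNi (i := 1) (by rwa [pow_one])).resolve_left fun h => ?_
      have := Nat.le_of_dvd one_pos h
      have := D.three_le
      omega
    have h0 : π ⁅pr e, n⁆ = 1 := by
      exact (hπ _).2 (hNN _ hPN n hn)
    rw [hval] at h0
    rw [hsing y hy hyy n hn]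
    have hsq' : (π n * π n) ^ 2 = 1 := by rw [sq, ← map_mul]; exact hKsq _ (hNsq n hn)
    obtain ⟨r, hr'⟩ := D.odd_e
    rwa [hr', pow_succ, pow_mul, hsq', one_pow, one_mul] at h0
  obtain ⟨z, n0, hn0, hzn⟩ : ∃ z, ∃ n ∈ N, π ⁅z, n⁆ ≠ 1 := by
    by_contra hall
    push Not at hall
    refine hLK.not_ge ?_
    rw [hKdef, commutator_le]
    intro n hn x _
    rw [← commutatorElement_inv]
    exact inv_mem ((hπ _).1 (hall x n hn))
  have hzN : z ∉ N := fun hz => hzn ((hπ _).2 (hNN z hz n0 hn0))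
  -- a character of `N` killing the squares of the centraliser of `z`
  let I : Subgroup U :=
    { carrier := {n | n ∈ N ∧ π ⁅z, n⁆ = 1}
      one_mem' := ⟨one_mem N, by simp⟩
      mul_mem' := fun {a b} ha hb =>
        ⟨mul_mem ha.1 hb.1, by rw [hTr z ha.1 hb.1, ha.2, hb.2, one_mul]⟩
      inv_mem' := fun {a} ha => ⟨inv_mem ha.1, by
        have h := hTr z ha.1 (inv_mem ha.1)
        rw [mul_inv_cancel, ha.2, one_mul] at h
        simpa using h.symm⟩ }
  have hKI : ∀ k ∈ K, k ∈ I := fun k hk => ⟨hKN.le hk, hTk z hk⟩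
  let I' := I.subgroupOf N
  haveI : I'.Normal := ⟨fun a ha g => by
    refine Subgroup.mem_subgroupOf.2 ?_
    have hcom : ⁅((a : U))⁻¹, (g : U)⁆ ∈ I := hKI _ (hKcomm _ (inv_mem a.2) _)
    have := mul_mem (Subgroup.mem_subgroupOf.1 ha) hcom
    convert this using 1
    simp [commutatorElement_def, mul_assoc]⟩
  have hab : ∀ a b : N ⧸ I', a * b = b * a := fun a b => by
    induction a using QuotientGroup.induction_on with
    | H a =>
      induction b using QuotientGroup.induction_on with
      | H b =>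
        rw [← QuotientGroup.mk_mul, ← QuotientGroup.mk_mul]
        refine QuotientGroup.eq.2 (Subgroup.mem_subgroupOf.2 ?_)
        have := hKI _ (hKcomm _ (inv_mem b.2) ((a : U)⁻¹))
        convert this using 1
        simp [commutatorElement_def, mul_assoc]
  letI : CommGroup (N ⧸ I') := { (inferInstance : Group (N ⧸ I')) with mul_comm := hab }
  have hne1 : (QuotientGroup.mk ⟨n0, hn0⟩ : N ⧸ I') ≠ 1 := fun h =>
    hzn (Subgroup.mem_subgroupOf.1 ((QuotientGroup.eq_one_iff _).1 h)).2
  obtain ⟨φ, hφ⟩ := CommGroup.exists_apply_ne_one_of_hasEnoughRootsOfUnity (N ⧸ I') ℂ hne1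
  let ω : N →* ℂˣ := φ.comp (QuotientGroup.mk' I')
  have hω0 : ω ⟨n0, hn0⟩ ≠ 1 := hφ
  have hωI : ∀ n (hn : n ∈ N), n ∈ I → ω ⟨n, hn⟩ = 1 := fun n hn hI => by
    show φ (QuotientGroup.mk' I' ⟨n, hn⟩) = 1
    rw [show QuotientGroup.mk' I' ⟨n, hn⟩ = 1 from
      (QuotientGroup.eq_one_iff _).2 (Subgroup.mem_subgroupOf.2 hI), map_one]
  -- extended by zero
  let w : U → ℂ := fun n => if h : n ∈ N then (ω ⟨n, h⟩ : ℂ) else 0
  have hwmul : ∀ a b, a ∈ N → b ∈ N → w (a * b) = w a * w b := fun a b ha hb => by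
    simp only [w, dif_pos (mul_mem ha hb), dif_pos ha, dif_pos hb]
    rw [← Units.val_mul, ← map_mul]; rfl
  have hw1 : ∀ n ∈ I, w n = 1 := fun n hn => by
    simp only [w, dif_pos hn.1, hωI n hn.1 hn, Units.val_one]
  have hwK : ∀ k ∈ K, w k = 1 := fun k hk => hw1 k (hKI k hk)
  have hwcongr : ∀ a b, a ∈ N → b ∈ N → a⁻¹ * b ∈ K → w a = w b := fun a b ha hb h => by
    conv_rhs => rw [show b = a * (a⁻¹ * b) by group]
    rw [hwmul _ _ ha (hKN.le h), hwK _ h, mul_one]
  have hwconj : ∀ g a : U, a ∈ N → w (g * a * g⁻¹) = w a := fun g a ha => by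
    refine (hwcongr a _ ha ((inferInstance : N.Normal).conj_mem a ha g) ?_).symm
    rw [show a⁻¹ * (g * a * g⁻¹) = ⁅a⁻¹, g⁆ by simp [commutatorElement_def, mul_assoc]]
    exact hKcomm _ (inv_mem ha) g
  set H := (G z).ker with hHdef
  have hHmem : ∀ v, v ∈ H → ⁅z, v⁆ ∈ K := fun v hv => (QuotientGroup.eq_one_iff _).1 hv
  have hf1 : ∀ v, v ∈ H → w (v * v) = 1 := by
    intro v hv
    refine hw1 _ ⟨hsqN v, ?_⟩
    have hc : ⁅v, z⁆ ∈ K := by rw [← commutatorElement_inv]; exact inv_mem (hHmem v hv)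
    have h := hid v z
    rw [hTk v hc, one_mul, hKsq _ hc] at h
    rw [← commutatorElement_inv, map_inv, h, inv_one]
  have hfmul : ∀ y v : U, w (y * v * (y * v)) = w (y * y) * (w (v * v) * w ⁅y⁻¹, v⁆) := by
    intro y v
    have hc : ⁅v, y⁆ ∈ N := hcommN v y
    rw [show y * v * (y * v) = (y * y) * ((y⁻¹ * ⁅v, y⁆ * y⁻¹⁻¹) * (v * v)) by
        simp only [commutatorElement_def]; group,
      hwmul _ _ (hsqN y) (mul_mem ((inferInstance : N.Normal).conj_mem _ hc _) (hsqN v)),
      hwmul _ _ ((inferInstance : N.Normal).conj_mem _ hc _) (hsqN v), hwconj _ _ hc]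
    have he : y⁻¹ * ⁅v, y⁆ * y⁻¹⁻¹ = ⁅y⁻¹, v⁆ := by simp only [commutatorElement_def]; group
    rw [show w ⁅y⁻¹, v⁆ = w ⁅v, y⁆ by rw [← he, hwconj _ _ hc]]
    ring
  have hgl : ∀ v a b : U, w ⁅(a * b)⁻¹, v⁆ = w ⁅a⁻¹, v⁆ * w ⁅b⁻¹, v⁆ := by
    intro v a b
    rw [show ⁅(a * b)⁻¹, v⁆ = (b⁻¹ * ⁅a⁻¹, v⁆ * b⁻¹⁻¹) * ⁅b⁻¹, v⁆ by
        simp only [commutatorElement_def]; group,
      hwmul _ _ ((inferInstance : N.Normal).conj_mem _ (hcommN _ v) _) (hcommN _ v),
      hwconj _ _ (hcommN _ v)]
  have hgr : ∀ y a b : U, w ⁅y, a * b⁆ = w ⁅y, a⁆ * w ⁅y, b⁆ := by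
    intro y a b
    rw [show ⁅y, a * b⁆ = ⁅y, a⁆ * (a * ⁅y, b⁆ * a⁻¹) by simp only [commutatorElement_def]; group,
      hwmul _ _ (hcommN y a) ((inferInstance : N.Normal).conj_mem _ (hcommN y b) _),
      hwconj _ _ (hcommN y b)]
  have hHcard : Nat.card H * (e + 1) = Nat.card U := by
    rw [← H.card_mul_index, hHdef, Subgroup.index_ker, hrange z hzN, hcardmap, hr]
  have hUcard : Nat.card U = Nat.card N * (e + 1) ^ 2 := by rw [← N.card_mul_index, hidx]
  have hHN : Nat.card H = Nat.card N * (e + 1) :=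
    Nat.eq_of_mul_eq_mul_right (show 0 < e + 1 by omega) (by rw [hHcard, hUcard]; ring)
  haveI := Fintype.ofFinite H
  let β : U → H → ℂ := fun y v => w ⁅y⁻¹, (v : U)⁆
  have hsumH : ∀ y, ∑ v : H, β y v = if ∀ v : H, β y v = 1 then (Nat.card H : ℂ) else 0 := by
    intro y
    split_ifs with h
    · simp [h, Finset.card_univ, Nat.card_eq_fintype_card]
    · let F : H →* ℂ := { toFun := β y
                          map_one' := by
                            simp only [β, OneMemClass.coe_one, commutatorElement_one_right]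
                            exact hwK 1 (one_mem K)
                          map_mul' := fun a b => hgr _ a b }
      exact sum_hom_units_eq_zero F fun hF => h fun v => DFunLike.congr_fun hF v
  have hsumU : ∀ v : H, (v : U) ∉ N → ∑ y : U, β y v = 0 := by
    intro v hv
    let F : U →* ℂ := { toFun := fun y => β y v
                        map_one' := by
                          simp only [β, inv_one, commutatorElement_one_left]
                          exact hwK 1 (one_mem K)
                        map_mul' := fun a b => hgl _ a b }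
    refine sum_hom_units_eq_zero F fun hF => ?_
    obtain ⟨u, hu⟩ := honto _ hv n0 hn0
    have h1 := DFunLike.congr_fun hF u⁻¹
    have hmem : ⁅(v : U), u⁆⁻¹ * n0 ∈ K := QuotientGroup.eq.1 hu.symm
    change w ⁅u⁻¹⁻¹, (v : U)⁆ = 1 at h1
    rw [inv_inv, ← commutatorElement_inv] at h1
    have h2 : w ⁅(v : U), u⁆ = 1 := by
      have := hwmul _ _ (inv_mem (hcommN (v : U) u)) (hcommN (v : U) u)
      rw [inv_mul_cancel, hwK 1 (one_mem K), h1, one_mul] at this
      exact this.symm
    rw [hwcongr _ _ (hcommN (v : U) u) hn0 hmem] at h2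
    refine hω0 (Units.ext ?_)
    simpa [w, hn0] using h2
  -- the perpendicular of `H` is `H`
  have hperp : ∀ y, (∀ v : H, β y v = 1) ↔ y ∈ H := by
    have hHsub : ∀ y ∈ H, ∀ v : H, β y v = 1 := fun y hy v => by
      have h := hfmul y v
      rw [hf1 _ (mul_mem hy v.2), hf1 _ hy, hf1 _ v.2, one_mul, one_mul] at h
      exact h.symm
    let P := Finset.univ.filter fun y : U => ∀ v : H, β y v = 1
    have hPcard : (P.card : ℂ) * Nat.card H = (Nat.card N : ℂ) * Nat.card U := by
      have h1 : ∑ y : U, ∑ v : H, β y v = (P.card : ℂ) * Nat.card H := by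
        simp only [hsumH]
        rw [← Finset.sum_filter, Finset.sum_const, nsmul_eq_mul]
      have h2 : ∑ v : H, ∑ y : U, β y v = (Nat.card N : ℂ) * Nat.card U := by
        have : ∀ v : H, ∑ y : U, β y v = if (v : U) ∈ N then (Nat.card U : ℂ) else 0 := by
          intro v
          split_ifs with hv
          · have : ∀ y, β y v = 1 := fun y => hwK _ (by
              rw [← commutatorElement_inv]; exact inv_mem (hKcomm _ hv _))
            simp [this, Finset.card_univ, Nat.card_eq_fintype_card]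
          · exact hsumU v hv
        rw [Finset.sum_congr rfl fun v _ => this v, ← Finset.sum_filter, Finset.sum_const,
          nsmul_eq_mul]
        congr 2
        rw [← Fintype.card_subtype, ← Nat.card_eq_fintype_card]
        exact Nat.card_congr
          { toFun := fun v => ⟨(v.1 : U), v.2⟩
            invFun := fun n => ⟨⟨n.1, hGN z n.1 n.2⟩, n.2⟩
            left_inv := fun v => rfl
            right_inv := fun n => rfl }
      rw [← h1, Finset.sum_comm, h2]
    have hPH : P.card = Nat.card H := by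
      have hH0 : (Nat.card H : ℂ) ≠ 0 := Nat.cast_ne_zero.2 Nat.card_pos.ne'
      refine Nat.cast_injective (R := ℂ) (mul_right_cancel₀ hH0 (hPcard.trans ?_))
      rw [hHN, hUcard]; push_cast; ring
    intro y
    refine ⟨fun h => ?_, hHsub y⟩
    have heq : (Finset.univ.filter fun u : U => u ∈ H) = P := Finset.eq_of_subset_of_card_le
      (fun u hu => Finset.mem_filter.2 ⟨Finset.mem_univ _, hHsub u (Finset.mem_filter.1 hu).2⟩)
      (by rw [hPH, ← Fintype.card_subtype, Nat.card_eq_fintype_card])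
    have hmem : y ∈ P := Finset.mem_filter.2 ⟨Finset.mem_univ _, h⟩
    rw [← heq] at hmem
    exact (Finset.mem_filter.1 hmem).2
  have hgauss : ∑ y : U, w (y * y) = (Nat.card H : ℂ) := by
    have h1 : (Nat.card H : ℂ) * ∑ y : U, w (y * y) =
        ∑ y : U, ∑ v : H, w (y * y) * β y v := by
      rw [Finset.sum_comm]
      have : ∀ v : H, ∑ y : U, w (y * y) * β y v = ∑ y : U, w (y * y) := fun v => by
        refine Fintype.sum_equiv (Equiv.mulRight (v : U)) _ _ fun y => ?_
        show _ = w (y * v * (y * v))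
        rw [hfmul, hf1 _ v.2, one_mul]
      rw [Finset.sum_congr rfl fun v _ => this v, Finset.sum_const, Finset.card_univ, nsmul_eq_mul,
        Nat.card_eq_fintype_card]
    have h2 : ∑ y : U, ∑ v : H, w (y * y) * β y v = (Nat.card H : ℂ) * Nat.card H := by
      simp only [← Finset.mul_sum, hsumH, hperp, mul_ite, mul_zero]
      rw [← Finset.sum_filter, Finset.sum_congr rfl fun y hy => by
        rw [hf1 _ (Finset.mem_filter.1 hy).2, one_mul], Finset.sum_const, nsmul_eq_mul]
      congr 1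
      rw [← Fintype.card_subtype, Nat.card_eq_fintype_card]
    exact mul_left_cancel₀ (Nat.cast_ne_zero.2 Nat.card_pos.ne') (h1.trans h2)
  -- summing over the automorphisms
  set Z := Finset.univ.filter fun y : U => y * y ∈ K with hZ
  have horb : ∀ y : U, ∑ i : Fin e, w ((α ^ (i : ℕ)) (y * y)) =
      if y * y ∈ K then (e : ℂ) else -1 := by
    intro y
    split_ifs with hy
    · rw [Finset.sum_eq_card_nsmul (b := (1 : ℂ)) fun (i : Fin e) _ => hwK _ (hKi.pow (i : ℕ) _ hy)]
      simp
    · set x := y * y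
      let Q := N ⧸ K.subgroupOf N
      have hQcard : Nat.card Q = e + 1 := hr
      haveI := Fintype.ofFinite Q
      let cs : Fin e → {c : Q // c ≠ 1} := fun i =>
        ⟨QuotientGroup.mk ⟨(α ^ (i : ℕ)) x, hNi.pow i _ (hsqN y)⟩, fun h => by
          have h' : (α ^ (i : ℕ)) x ∈ K := Subgroup.mem_subgroupOf.1 ((QuotientGroup.eq_one_iff _).1 h)
          have h'' := hKi.pow (e - i) _ h'
          rw [← MulAut.mul_apply, ← pow_add, show e - (i : ℕ) + i = e by omega, D.pow_e] at h''
          exact hy h''⟩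
      have hinj : Function.Injective cs := fun i j h =>
        D.inj_pow hKi hy (Subgroup.mem_subgroupOf.1 (QuotientGroup.eq.1 (congrArg Subtype.val h)))
      have hbij := hinj.bijective_of_nat_card_le (le_of_eq (by
        rw [Nat.card_eq_fintype_card, Fintype.card_subtype_compl, Fintype.card_subtype_eq,
          ← Nat.card_eq_fintype_card, hQcard, Nat.card_eq_fintype_card, Fintype.card_fin]
        omega))
      let W : Q →* ℂ := QuotientGroup.lift (K.subgroupOf N)
        { toFun := fun n : N => w n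
          map_one' := hwK 1 (one_mem K)
          map_mul' := fun a b => hwmul _ _ a.2 b.2 }
        fun n hn => hwK _ hn
      have hW : W ≠ 1 := fun h => hω0 (Units.ext (by
        have := DFunLike.congr_fun h (QuotientGroup.mk ⟨n0, hn0⟩)
        change w n0 = 1 at this
        simpa [w, hn0] using this))
      have hsum := sum_hom_units_eq_zero W hW
      rw [← Finset.add_sum_erase _ _ (Finset.mem_univ (1 : Q)), map_one] at hsum
      have : ∑ i : Fin e, w ((α ^ (i : ℕ)) x) = ∑ c ∈ Finset.univ.erase (1 : Q), W c := by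
        rw [Finset.sum_subtype (p := fun c : Q => c ≠ 1) _ (fun c => by simp)]
        exact Fintype.sum_equiv (Equiv.ofBijective cs hbij) _ _ fun i => rfl
      rw [this]
      linear_combination hsum
  have hsum : ∑ y : U, ∑ i : Fin e, w ((α ^ (i : ℕ)) (y * y)) = (e : ℂ) * Nat.card H := by
    rw [Finset.sum_comm]
    have : ∀ i : Fin e, ∑ y : U, w ((α ^ (i : ℕ)) (y * y)) = ∑ y : U, w (y * y) := fun i =>
      Fintype.sum_equiv (α ^ (i : ℕ)).toEquiv _ _ fun y => by rw [map_mul]; rfl
    rw [Finset.sum_congr rfl fun i _ => this i, hgauss]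
    simp
  simp only [horb, Finset.sum_ite, Finset.sum_const, nsmul_eq_mul] at hsum
  have hsplit := Finset.card_filter_add_card_filter_not (s := (Finset.univ : Finset U))
    (fun y => y * y ∈ K)
  rw [Finset.card_univ, ← Nat.card_eq_fintype_card] at hsplit
  have hZval : Z.card = Nat.card N * (2 * e + 1) := by
    have hs' : (Z.card : ℂ) + ((Finset.univ.filter fun y : U => ¬ y * y ∈ K).card : ℂ) =
        (Nat.card U : ℂ) := by exact_mod_cast hsplit
    refine Nat.cast_injective (R := ℂ) (mul_left_cancel₀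
      (show ((e + 1 : ℕ) : ℂ) ≠ 0 from Nat.cast_ne_zero.2 (by omega)) ?_)
    rw [hUcard] at hs'
    rw [hHN] at hsum
    push_cast at hs' hsum ⊢
    rw [← hZ] at hsum
    linear_combination hsum + hs'
  -- the singular elements centralise `N` modulo `L`
  let P0 : Subgroup U :=
    { carrier := {y | ∀ n ∈ N, π ⁅y, n⁆ = 1}
      one_mem' := fun n _ => by simp
      mul_mem' := fun {a b} ha hb n hn => by rw [hTl a b hn, ha n hn, hb n hn, one_mul]
      inv_mem' := fun {a} ha n hn => by
        have h := hTl a a⁻¹ hn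
        rw [mul_inv_cancel, ha n hn, one_mul] at h
        simpa using h.symm }
  have hNP : N ≤ P0 := fun a ha n hn => (hπ _).2 (hNN a ha n hn)
  have hZP : Z.card ≤ Nat.card P0 := by
    rw [← Nat.card_eq_finsetCard]
    refine Nat.card_le_card_of_injective (fun y => ⟨y.1, ?_⟩)
      fun a b h => Subtype.ext (congrArg (fun u : P0 => (u : U)) h)
    by_cases hy : y.1 ∈ N
    · exact hNP hy
    · exact hsingN y.1 hy (Finset.mem_filter.1 y.2).2
  have hzP : z ∉ P0 := fun h => hzn (h n0 hn0)
  have hP0i : Inv α P0 := by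
    intro a ha n hn
    obtain ⟨n', hn', rfl⟩ : ∃ n' ∈ N, α n' = n := by
      refine ⟨(α ^ (e - 1)) n, hNi.pow _ _ hn, ?_⟩
      rw [← MulAut.mul_apply, ← pow_succ', Nat.sub_add_cancel D.e_pos, D.pow_e]
      rfl
    rw [← map_commutatorElement, hπ]
    exact hLi _ ((hπ _).1 (ha n' hn'))
  have h1 := D.lt_relIndex hP0i (fun _ _ => mem_top _)
    (lt_top_iff_ne_top.2 fun h => hzP (h ▸ mem_top z))
  rw [Subgroup.relIndex_top_right] at h1
  have h2 := Nat.mul_le_mul_left (Nat.card P0) h1
  rw [P0.card_mul_index, hUcard] at h2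
  have h3 : Nat.card P0 ≤ Nat.card N * (e + 1) := by
    refine Nat.le_of_mul_le_mul_right (c := e + 1) ?_ (by omega)
    exact h2.trans (le_of_eq (by ring))
  have := hZP.trans h3
  rw [hZval] at this
  have := Nat.le_of_mul_le_mul_left this Nat.card_pos
  have := D.three_le
  omega

end CfsgLib.SuzTop
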