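import Cfsg.Agent.Char.LinearTwist
import Cfsg.Agent.Char.DegreeSums
import Cfsg.Agent.Char.Values

/-!
The squared degrees of the twists of a character by linear characters.
-/

set_option autoImplicit false
set_option linter.style.haveILetI false

namespace CfsgLib.SuzTop

open CfsgLib.Char
open scoped ComplexConjugate

/-- The twists of an irreducible character fill up the index of the derived subgroup. -/
theorem twist_bound {K : Type*} [Group K] [Finite K] {θ : K → ℂ} (hθ : Cfsg.IsIrrCharacter K θ) :
    (commutator K).index ≤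
      ∑ ψ ∈ (irrFinset K).filter (fun ψ => cdeg ψ = cdeg θ), cdeg ψ ^ 2 := by
  classical
  haveI := Fintype.ofFinite K
  haveI : Finite (K →* ℂˣ) := Finite.of_equiv _ (linearCharEquiv (G := K)).symm
  haveI := Fintype.ofFinite (K →* ℂˣ)
  let f : (K →* ℂˣ) → K → ℂ := fun lam => θ * fun g => (lam g : ℂ)
  have hf : ∀ lam, Cfsg.IsIrrCharacter K (f lam) := fun lam => IsIrrCharacter.mul_hom hθ lam
  have hdeg : ∀ lam, cdeg (f lam) = cdeg θ := fun lam => cdeg_eq_of_apply_one (by simp [f])
  set d := cdeg θ with hd
  have hcard : Fintype.card (K →* ℂˣ) = (commutator K).index := by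
    rw [← Nat.card_eq_fintype_card, card_hom_eq_index_commutator]
  have hfib : ∀ lam₀ : K →* ℂˣ, (Finset.univ.filter fun lam => f lam = f lam₀).card ≤ d ^ 2 := by
    intro lam₀
    have hrow : ∀ x : K, ∑ lam : K →* ℂˣ, (lam x : ℂ) * conj (lam₀ x : ℂ) =
        if x ∈ commutator K then ((commutator K).index : ℂ) else 0 := by
      intro x
      rw [← Finset.sum_mul]
      split_ifs with hx
      · have h1 : ∀ lam : K →* ℂˣ, lam x = 1 := fun lam =>
          Abelianization.commutator_subset_ker lam hx
        simp [h1, hcard]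
      · obtain ⟨μ, hμ⟩ := exists_hom_ne_one hx
        have hS : (μ x : ℂ) * ∑ lam : K →* ℂˣ, (lam x : ℂ) = ∑ lam : K →* ℂˣ, (lam x : ℂ) := by
          rw [Finset.mul_sum]
          exact Fintype.sum_equiv (Equiv.mulLeft μ) _ _ fun lam => by simp
        have h0 : ∑ lam : K →* ℂˣ, (lam x : ℂ) = 0 := by
          by_contra h
          exact hμ (Units.ext (mul_right_cancel₀ h (hS.trans (one_mul _).symm)))
        rw [h0, zero_mul]
    have hsum : ((Finset.univ.filter fun lam => f lam = f lam₀).card : ℂ) =
        (Nat.card K : ℂ)⁻¹ * ∑ x : K,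
          θ x * conj (θ x) * if x ∈ commutator K then ((commutator K).index : ℂ) else 0 := by
      rw [Finset.card_filter, Nat.cast_sum]
      rw [Finset.sum_congr rfl (g := fun lam => Cfsg.classInner (f lam) (f lam₀)) fun lam _ => by
        rw [IsIrrCharacter.classInner_eq (hf lam) (hf lam₀)]; split_ifs <;> simp]
      simp only [classInner_def, ← Finset.mul_sum]
      rw [Finset.sum_comm]
      congr 1
      refine Finset.sum_congr rfl fun x _ => ?_
      rw [← hrow x, Finset.mul_sum]
      refine Finset.sum_congr rfl fun lam _ => ?_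
      simp only [f, Pi.mul_apply, map_mul]
      ring
    have hnorm : ((Finset.univ.filter fun lam => f lam = f lam₀).card : ℝ) ≤ (d : ℝ) ^ 2 := by
      have h := congrArg (fun z : ℂ => ‖z‖) hsum
      simp only [Complex.norm_natCast, norm_mul, norm_inv] at h
      rw [h]
      refine le_trans (mul_le_mul_of_nonneg_left ((norm_sum_le _ _).trans
        (Finset.sum_le_sum (g := fun x => if x ∈ commutator K then
          (d : ℝ) ^ 2 * (commutator K).index else 0) fun x _ => ?_)) (by positivity)) ?_
      · split_ifs with hx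
        · rw [norm_mul, norm_mul, Complex.norm_conj, Complex.norm_natCast, sq]
          have hb : ‖θ x‖ ≤ (d : ℝ) := by
            have := IsCharacter.norm_apply_le (IsIrrCharacter.isCharacter hθ) x
            rwa [irr_apply_one_eq_cdeg hθ, Complex.natCast_re] at this
          gcongr
        · simp
      · rw [← Finset.sum_filter, Finset.sum_const, nsmul_eq_mul, ← Fintype.card_subtype,
          ← Nat.card_eq_fintype_card]
        have hK : (Nat.card (commutator K) : ℝ) * (commutator K).index = Nat.card K := by
          exact_mod_cast (commutator K).card_mul_index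
        have hK0 : (Nat.card K : ℝ) ≠ 0 := Nat.cast_ne_zero.2 Nat.card_pos.ne'
        refine le_of_eq ?_
        field_simp
        rw [← hK]
        ring
    exact_mod_cast hnorm
  have h1 : (commutator K).index ≤ d ^ 2 * (Finset.univ.image f).card := by
    rw [← hcard, ← Finset.card_univ]
    exact Finset.card_le_mul_card_image _ _ fun ψ hψ => by
      obtain ⟨lam₀, -, rfl⟩ := Finset.mem_image.1 hψ
      exact hfib lam₀
  refine h1.trans ?_
  rw [Finset.card_eq_sum_ones, Finset.mul_sum, mul_one]
  refine le_trans (le_of_eq (Finset.sum_congr rfl fun ψ hψ => ?_))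
    (Finset.sum_le_sum_of_subset (f := fun ψ => cdeg ψ ^ 2) fun ψ hψ => ?_)
  · obtain ⟨lam, -, rfl⟩ := Finset.mem_image.1 hψ
    rw [hdeg]
  · obtain ⟨lam, -, rfl⟩ := Finset.mem_image.1 hψ
    exact Finset.mem_filter.2 ⟨mem_irrFinset.2 (hf lam), hdeg lam⟩

end CfsgLib.SuzTop
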