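import Cfsg.Agent.Suz.Setup
import Cfsg.Agent.Suz.Twist
import Cfsg.Agent.Suz.IndexQSq
import Cfsg.Agent.Char.CoherenceByDegree
import Cfsg.Agent.Char.Inflation

/-!
When the derived subgroup of the kernel has index `(e + 1) ^ 2` every non-linear character of the
kernel has degree at least `e + 1`, and the derived subgroup is the centre.
-/

set_option autoImplicit false
set_option linter.unusedSectionVars false
set_option linter.style.haveILetI false

namespace CfsgLib.SuzTop

open MulAction CfsgLib.Char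
open scoped commutatorElement

/-- The bound needed for coherence when there is a small non-linear character. -/
theorem degree_key {K : Type*} [Group K] [Finite K] (h2 : IsPGroup 2 K) {e : ℕ} (he : 3 ≤ e)
    (hidx : (commutator K).index = (e + 1) ^ 2) {ψ : K → ℂ} (hψ : Cfsg.IsIrrCharacter K ψ)
    (hψ1 : cdeg ψ ≠ 1) (hψe : cdeg ψ < e + 1) {n : ℕ} (hn : 1 ≤ n) {θ : K → ℂ}
    (hθ : Cfsg.IsIrrCharacter K θ) (hd : cdeg θ = n + 1) :
    2 * e * (n + 1) + 1 < ∑ φ ∈ (irrFinset K).filter (fun φ => cdeg φ ≤ n), cdeg φ ^ 2 := by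
  classical
  haveI : Fact (Nat.Prime 2) := ⟨Nat.prime_two⟩
  obtain ⟨j, hj⟩ := h2.exists_card_eq
  obtain ⟨m, -, hm⟩ : ∃ m ≤ j, e + 1 = 2 ^ m := (Nat.dvd_prime_pow Nat.prime_two).1
    (hj ▸ ((dvd_pow_self (e + 1) two_ne_zero).trans
      (hidx ▸ Subgroup.index_dvd_card (commutator K))))
  obtain ⟨i, -, hi⟩ : ∃ i ≤ j, n + 1 = 2 ^ i := by
    obtain ⟨i, hij, hi⟩ := (Nat.dvd_prime_pow Nat.prime_two).1
      (hj ▸ hd ▸ (cdeg_dvd_index_center hθ).trans (Subgroup.index_dvd_card _))
    exact ⟨i, hij, hi⟩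
  have hlin : (e + 1) ^ 2 = ∑ φ ∈ (irrFinset K).filter (fun φ => cdeg φ = 1), cdeg φ ^ 2 := by
    rw [Finset.sum_congr rfl (g := fun _ => 1) fun φ hφ => by
      rw [(Finset.mem_filter.1 hφ).2, one_pow], ← Finset.card_eq_sum_ones, card_filter_cdeg_one,
      hidx]
  rcases lt_trichotomy i m with hlt | rfl | hgt
  · have h3 : 2 * (n + 1) ≤ e + 1 := by
      rw [hi, hm, ← pow_succ']
      exact Nat.pow_le_pow_right (by norm_num) hlt
    refine lt_of_lt_of_le ?_ (hlin.le.trans (Finset.sum_le_sum_of_subset fun φ hφ => ?_))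
    · nlinarith
    · obtain ⟨h1, h2⟩ := Finset.mem_filter.1 hφ
      exact Finset.mem_filter.2 ⟨h1, h2.le.trans hn⟩
  · have hn' : n = e := by omega
    subst hn'
    have htw := twist_bound hψ
    rw [hidx] at htw
    refine lt_of_lt_of_le (b := (n + 1) ^ 2 + (n + 1) ^ 2) (by nlinarith) ?_
    refine (Nat.add_le_add hlin.le htw).trans ?_
    rw [← Finset.sum_union (Finset.disjoint_filter.2 fun φ _ ha hb => hψ1 (hb.symm.trans ha))]
    refine Finset.sum_le_sum_of_subset fun φ hφ => ?_
    rcases Finset.mem_union.1 hφ with h | h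
    · exact Finset.mem_filter.2 ⟨(Finset.mem_filter.1 h).1, (Finset.mem_filter.1 h).2.le.trans hn⟩
    · exact Finset.mem_filter.2
        ⟨(Finset.mem_filter.1 h).1, (Finset.mem_filter.1 h).2.le.trans (by omega)⟩
  · have h3 : 2 * (e + 1) ≤ n + 1 := by
      rw [hi, hm, ← pow_succ']
      exact Nat.pow_le_pow_right (by norm_num) hgt
    have hdvd := sq_cdeg_dvd_sum_lt h2 hθ
    rw [hd] at hdvd
    have hfilter : (irrFinset K).filter (fun φ => cdeg φ ≤ n) =
        (irrFinset K).filter (fun φ => cdeg φ < n + 1) :=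
      Finset.filter_congr fun φ _ => by omega
    rw [hfilter]
    refine lt_of_lt_of_le ?_ (Nat.le_of_dvd ?_ hdvd)
    · nlinarith [Nat.mul_le_mul_right (n + 1) h3]
    · refine lt_of_lt_of_le Nat.zero_lt_one ?_
      refine le_trans ?_ (Finset.single_le_sum (f := fun φ => cdeg φ ^ 2) (fun _ _ => Nat.zero_le _)
        (a := fun _ : K => (1 : ℂ)) (Finset.mem_filter.2 ⟨mem_irrFinset.2 isIrrCharacter_one, ?_⟩))
      · simp [cdeg]
      · simp [cdeg]; omega

variable {G Ω : Type*} [Group G] [Fintype G] [IsSimpleGroup G] [MulAction G Ω] [Fintype Ω]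
variable {a b : Ω} {U : Subgroup G} {g₀ : G} {α : MulAut U} {e : ℕ}

/-- Non-linear characters of the kernel have degree at least `e + 1`. -/
theorem Cfg.degree_ge (C : Cfg a b U g₀ α e) (hidx : (commutator U).index = (e + 1) ^ 2)
    {θ : U → ℂ} (hθ : Cfsg.IsIrrCharacter U θ) (h1 : cdeg θ ≠ 1) : e + 1 ≤ cdeg θ := by
  classical
  by_contra hlt'
  have hlt' : cdeg θ < e + 1 := not_le.1 hlt'
  haveI := Fintype.ofFinite (stabilizer G a)
  set A := U.subgroupOf (stabilizer G a) with hAdef
  obtain ⟨hTI0, hN0⟩ := zassenhaus_kernel_TI C.zass a U C.le C.card C.fix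
  haveI : A.Normal := by
    rw [hAdef, ← hN0]; exact Subgroup.normal_in_normalizer
  have he3 := C.frame.three_le
  have hlt := C.lt
  have hC : ∀ k ∈ A, k ≠ 1 → Subgroup.centralizer ({k} : Set (stabilizer G a)) ≤ A :=
    fun k hk hk1 x hx => zass_kernel_centralizer C.zass U C.le C.card C.fix x.2 hk
      (fun h => hk1 (Subtype.ext h))
      (congrArg Subtype.val (Subgroup.mem_centralizer_singleton_iff.1 hx))
  have hNcard : Nat.card (stabilizer G a) = Nat.card U * e := by
    rw [zass_card_stab C.zass C.hab, ← C.card, Nat.add_sub_cancel, C.card_pair]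
  let φ : A ≃* U := Subgroup.subgroupOfEquivOfLe C.le
  have hAcard : Nat.card A = Nat.card U := Nat.card_congr φ.toEquiv
  have hAidx : A.index = e := by
    refine Nat.eq_of_mul_eq_mul_left (show 0 < Nat.card A from Nat.card_pos) ?_
    rw [A.card_mul_index, hNcard, hAcard]
  have hA1 : A ≠ ⊥ := fun h => by rw [h, Subgroup.card_bot] at hAcard; omega
  have hAtop : A ≠ ⊤ := fun h => by rw [h, Subgroup.index_top] at hAidx; omega
  have hrel := inducedIrrAbove_bot_eq hC
  obtain ⟨hτ, hτ1⟩ := indFun_TI_isometry (H := U) (L := stabilizer G a)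
    (fun g hg t ht hgt => hTI0 g hg t ht hgt)
  rw [← hAdef, hrel] at hτ hτ1
  have hA2 : IsPGroup 2 A := C.frame.isPGroup.of_equiv φ.symm
  have hAc : (commutator A).index = (e + 1) ^ 2 := by
    have hmap : (commutator A).map φ.toMonoidHom = commutator U := by
      rw [_root_.commutator_def, Subgroup.map_commutator,
        Subgroup.map_top_of_surjective _ φ.surjective, ← _root_.commutator_def]
    rw [← hidx, ← hmap]
    exact (Subgroup.index_map_equiv _ φ).symm
  refine zass_coherence_false C.zass C.hab C.odd U C.le C.card C.fix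
    (by rw [C.card_pair]; exact hlt) (coherent_by_degree hA1 hAtop hC _ hτ hτ1 ?_ ?_)
  · rw [hAidx, hAc]
    nlinarith
  · intro n hn η hη hd
    rw [hAidx]
    refine degree_key hA2 he3 hAc (ψ := fun x : A => θ (φ x))
      (IsIrrCharacter.comp_surjective hθ φ.toMonoidHom φ.surjective) ?_ ?_ hn hη hd
    · rwa [cdeg, show θ (φ 1) = θ 1 by rw [map_one], ← cdeg]
    · rwa [cdeg, show θ (φ 1) = θ 1 by rw [map_one], ← cdeg]

/-- The commutator maps are onto, whence the derived subgroup is the centre. -/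
theorem Cfg.card_of_sq (C : Cfg a b U g₀ α e) (hidx : (commutator U).index = (e + 1) ^ 2) :
    Nat.card U = (e + 1) ^ 3 ∧ commutator U = Subgroup.center U ∧
      ∀ x : U, x * x ∈ Subgroup.center U := by
  classical
  refine C.frame.card_of_index_sq hidx C.ne_bot fun I hIn hI hcen y hy => ?_
  by_contra hno
  push Not at hno
  obtain ⟨θ, hθ, hθ1⟩ : ∃ θ, Cfsg.IsIrrCharacter (U ⧸ I) θ ∧ θ 1 ≠ 1 := by
    by_contra hall
    push Not at hall
    refine hI.not_ge ?_
    rw [_root_.commutator_def, Subgroup.commutator_le]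
    intro u _ v _
    refine (QuotientGroup.eq_one_iff _).1 ?_
    show QuotientGroup.mk' I ⁅u, v⁆ = 1
    rw [map_commutatorElement, commutatorElement_eq_one_iff_mul_comm]
    exact (abelian_iff_degree_one).2 hall _ _
  set π := QuotientGroup.mk' I with hπ
  have hinf : cdeg (fun x : U => θ (π x)) = cdeg θ := by
    rw [cdeg, cdeg, map_one]
  have hge := C.degree_ge hidx (IsIrrCharacter.comp_surjective hθ π
    (QuotientGroup.mk'_surjective I)) (by
      rw [hinf]
      intro h
      exact hθ1 (by rw [irr_apply_one_eq_cdeg hθ, h, Nat.cast_one]))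
  rw [hinf] at hge
  have hsub : (commutator U).map π < Subgroup.center (U ⧸ I) := by
    refine SetLike.lt_iff_le_and_exists.2 ⟨?_, π y, ?_, ?_⟩
    · rintro _ ⟨n, hn, rfl⟩
      refine Subgroup.mem_center_iff.2 fun g => ?_
      obtain ⟨g, rfl⟩ := QuotientGroup.mk'_surjective I g
      rw [eq_comm, ← commutatorElement_eq_one_iff_mul_comm, ← map_commutatorElement]
      exact (QuotientGroup.eq_one_iff _).2 (hcen n hn g)
    · refine Subgroup.mem_center_iff.2 fun g => ?_
      obtain ⟨g, rfl⟩ := QuotientGroup.mk'_surjective I g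
      rw [eq_comm, ← commutatorElement_eq_one_iff_mul_comm, ← map_commutatorElement]
      exact (QuotientGroup.eq_one_iff _).2 (hno g)
    · rintro ⟨n, hn, he⟩
      refine hy ?_
      have h : n⁻¹ * y ∈ I := QuotientGroup.eq.1 he
      rw [show y = n * (n⁻¹ * y) by group]
      exact mul_mem hn (hI.le h)
  have h1 := cdeg_sq_le_index_center hθ
  have h2 := Subgroup.index_strictAnti hsub
  rw [Subgroup.index_map_eq _ (QuotientGroup.mk'_surjective I)
    (by rw [QuotientGroup.ker_mk']; exact hI.le), hidx] at h2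
  have h3 : (e + 1) ^ 2 ≤ cdeg θ ^ 2 := Nat.pow_le_pow_left hge 2
  omega

end CfsgLib.SuzTop
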