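import Mathlib

/-!
A two-group with a fixed-point-free cyclic group of automorphisms whose order is one less than that
of the centre, the centre consisting of the involutions.
-/

set_option autoImplicit false
set_option linter.unusedSectionVars false
set_option linter.style.haveILetI false

namespace CfsgLib.SuzTop

open Subgroup
open scoped commutatorElement

variable {U : Type*} [Group U] [Finite U] {α : MulAut U} {e : ℕ}

/-- The setting of the kernel of a point stabiliser with non-abelian kernel. -/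
structure Frame (α : MulAut U) (e : ℕ) : Prop where
  isPGroup : IsPGroup 2 U
  pow_e : α ^ e = 1
  free : ∀ (i : ℕ) (x : U), (α ^ i) x = x → e ∣ i ∨ x = 1
  center_iff : ∀ x : U, x ∈ center U ↔ x * x = 1
  card_center : Nat.card (center U) = e + 1
  three_le : 3 ≤ e

/-- Invariance of a subgroup. -/
def Inv (α : MulAut U) (A : Subgroup U) : Prop := ∀ x ∈ A, α x ∈ A

theorem Inv.pow {A : Subgroup U} (hA : Inv α A) (i : ℕ) : ∀ x ∈ A, (α ^ i) x ∈ A := by
  induction i with
  | zero => intro x hx; simpa using hx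
  | succ i ih => intro x hx; rw [pow_succ', MulAut.mul_apply]; exact hA _ (ih x hx)

theorem inv_of_characteristic (A : Subgroup U) [hA : A.Characteristic] : Inv α A := fun x hx => by
  have h := hA.fixed α
  rw [← h] at hx
  exact hx

variable (D : Frame α e)
include D

theorem Frame.e_pos : 0 < e := by have := D.three_le; omega

/-- Fixed-point-freeness on quotients. -/
theorem Frame.free_quot {A : Subgroup U} (hA : Inv α A) {i : ℕ} {x : U}
    (h : x⁻¹ * (α ^ i) x ∈ A) : e ∣ i ∨ x ∈ A := by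
  by_cases hi : e ∣ i
  · exact Or.inl hi
  have hinj : ∀ u v : U, u⁻¹ * (α ^ i) u = v⁻¹ * (α ^ i) v → u = v := by
    intro u v huv
    have h1 : (α ^ i) (u * v⁻¹) = u * v⁻¹ := by
      rw [map_mul, map_inv]
      have := congrArg (fun w => u * w * ((α ^ i) v)⁻¹) huv
      simp only [mul_assoc, mul_inv_cancel_left] at this
      rw [this]; simp
    exact mul_inv_eq_one.1 ((D.free i _ h1).resolve_left hi)
  let f : A → A := fun a => ⟨(a : U)⁻¹ * (α ^ i) (a : U), mul_mem (inv_mem a.2) (hA.pow i _ a.2)⟩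
  have hf : Function.Bijective f := by
    haveI := Fintype.ofFinite A
    exact Finite.injective_iff_bijective.1 fun a b hab =>
      Subtype.ext (hinj _ _ (congrArg Subtype.val hab))
  obtain ⟨a, ha⟩ := hf.2 ⟨_, h⟩
  exact Or.inr (hinj _ _ (congrArg Subtype.val ha).symm ▸ a.2)

theorem Frame.inj_pow {A : Subgroup U} (hA : Inv α A) {x : U} (hx : x ∉ A) {i j : Fin e}
    (h : ((α ^ (i : ℕ)) x)⁻¹ * (α ^ (j : ℕ)) x ∈ A) : i = j := by
  wlog hij : (i : ℕ) ≤ j generalizing i j
  · refine (this ?_ (by omega)).symm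
    simpa using inv_mem h
  obtain ⟨d, hd⟩ := Nat.exists_eq_add_of_le hij
  rw [hd, pow_add, MulAut.mul_apply, ← map_inv, ← map_mul] at h
  have h' : x⁻¹ * (α ^ d) x ∈ A := by
    have := hA.pow (e - i) _ h
    rwa [← MulAut.mul_apply, ← pow_add, show e - (i : ℕ) + i = e by omega, D.pow_e] at this
  rcases D.free_quot hA h' with h'' | h''
  · have := j.2
    rcases Nat.eq_zero_or_pos d with rfl | hd0
    · exact Fin.ext (by omega)
    · have := Nat.le_of_dvd hd0 h''
      omega
  · exact absurd h'' hx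

/-- Invariant subgroups have order congruent to one. -/
theorem Frame.dvd_card_sub_one {A : Subgroup U} (hA : Inv α A) : e ∣ Nat.card A - 1 := by
  classical
  haveI := Fintype.ofFinite U
  let β : Subgroup (MulAut U) := zpowers α
  have hpow : ∀ g : β, ∃ i : ℕ, (g : MulAut U) = α ^ i := fun g => by
    obtain ⟨i, hi⟩ := (mem_powers_iff_mem_zpowers).2 g.2
    exact ⟨i, hi.symm⟩
  let S := {x : U // x ∈ A ∧ x ≠ 1}
  letI : MulAction β S :=
    { smul := fun g x => ⟨(g : MulAut U) x.1, by
        obtain ⟨i, hi⟩ := hpow g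
        rw [hi]
        exact ⟨hA.pow i _ x.2.1, fun h => x.2.2 ((EmbeddingLike.map_eq_one_iff (f := α ^ i)).1 h)⟩⟩
      one_smul := fun x => rfl
      mul_smul := fun g h x => rfl }
  have hfree : ∀ x : S, MulAction.stabilizer β x = ⊥ := by
    intro x
    rw [Subgroup.eq_bot_iff_forall]
    intro g hg
    obtain ⟨i, hi⟩ := hpow g
    have h : (α ^ i) x.1 = x.1 := by
      rw [← hi]; exact congrArg Subtype.val (MulAction.mem_stabilizer_iff.1 hg)
    obtain ⟨k, hk⟩ := (D.free i _ h).resolve_right x.2.2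
    refine Subtype.ext ?_
    rw [hi, hk, pow_mul, D.pow_e, one_pow]; rfl
  have hord : Nat.card β = e := by
    have hz : ∃ z : U, z ≠ 1 := by
      by_contra hn
      push Not at hn
      have : Nat.card (center U) ≤ 1 := Finite.card_le_one_iff_subsingleton.2
        ⟨fun a b => Subtype.ext ((hn a).trans (hn b).symm)⟩
      rw [D.card_center] at this
      have := D.three_le
      omega
    obtain ⟨z, hz⟩ := hz
    rw [Nat.card_zpowers]
    refine Nat.dvd_antisymm (orderOf_dvd_of_pow_eq_one D.pow_e) ?_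
    exact (D.free _ z (by rw [pow_orderOf_eq_one]; rfl)).resolve_right hz
  have hcard : Nat.card S = Nat.card A - 1 := by
    have e1 : S ≃ {a : A // a ≠ 1} :=
      { toFun := fun x => ⟨⟨x.1, x.2.1⟩, fun h => x.2.2 (congrArg Subtype.val h)⟩
        invFun := fun a => ⟨a.1.1, a.1.2, fun h => a.2 (Subtype.ext h)⟩
        left_inv := fun x => rfl
        right_inv := fun a => rfl }
    rw [Nat.card_congr e1, Nat.card_eq_fintype_card, Fintype.card_subtype_compl,
      Fintype.card_subtype_eq, Nat.card_eq_fintype_card]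
  rw [← hcard, Nat.card_congr (MulAction.selfEquivSigmaOrbitsQuotientStabilizer β S), Nat.card_sigma]
  refine Finset.dvd_sum fun o _ => ?_
  rw [hfree]
  exact dvd_of_eq (hord.symm.trans (Nat.card_congr (QuotientGroup.quotientBot).toEquiv).symm)

theorem Frame.dvd_relIndex_sub_one {A B : Subgroup U} (hA : Inv α A) (hB : Inv α B) (hAB : A ≤ B) :
    e ∣ A.relIndex B - 1 := by
  obtain ⟨a, ha⟩ := D.dvd_card_sub_one hA
  obtain ⟨b, hb⟩ := D.dvd_card_sub_one hB
  have hmul : Nat.card A * A.relIndex B = Nat.card B := by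
    rw [← Subgroup.relIndex_bot_left, ← Subgroup.relIndex_bot_left]
    exact Subgroup.relIndex_mul_relIndex _ _ _ bot_le hAB
  have hA0 := Nat.card_pos (α := A)
  have hB0 := Nat.card_pos (α := B)
  have hr0 : 1 ≤ A.relIndex B := Nat.one_le_iff_ne_zero.2 fun h => by
    rw [h, mul_zero] at hmul; omega
  have : e ∣ A.relIndex B * (e * a) + (A.relIndex B - 1) := by
    refine ⟨b, ?_⟩
    rw [← hb, ← hmul, ← ha]
    obtain ⟨r, hr⟩ := Nat.exists_eq_add_of_le hr0
    obtain ⟨c, hc⟩ := Nat.exists_eq_add_of_le hA0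
    rw [hr, hc, Nat.add_sub_cancel_left, Nat.add_sub_cancel_left]
    rw [show (1 + c) * (1 + r) = 1 + ((1 + r) * c + r) by ring, Nat.add_sub_cancel_left]
  exact (Nat.dvd_add_iff_right (dvd_mul_of_dvd_right (dvd_mul_right e a) _)).2 this

/-- A proper layer has at least `e + 1` elements. -/
theorem Frame.lt_relIndex {A B : Subgroup U} (hA : Inv α A) (hB : Inv α B) (hlt : A < B) :
    e + 1 ≤ A.relIndex B := by
  have h1 : A.relIndex B ≠ 1 := fun h => hlt.not_ge (Subgroup.relIndex_eq_one.1 h)
  have h0 : A.relIndex B ≠ 0 := Subgroup.FiniteIndex.index_ne_zero (H := A.subgroupOf B)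
  have := Nat.le_of_dvd (by omega) (D.dvd_relIndex_sub_one hA hB hlt.le)
  omega

/-- On a layer of order `e + 1` the automorphism is transitive. -/
theorem Frame.trans_quot {A B : Subgroup U} (hA : Inv α A) (hB : Inv α B) (hAB : A ≤ B)
    (hcard : A.relIndex B = e + 1) {x y : U} (hx : x ∈ B) (hxA : x ∉ A) (hy : y ∈ B) (hyA : y ∉ A) :
    ∃ i : ℕ, ((α ^ i) x)⁻¹ * y ∈ A := by
  classical
  let Q := B ⧸ A.subgroupOf B
  let p : U → Prop := fun u => u ∈ B
  let f : Fin e → {c : Q // c ≠ QuotientGroup.mk 1} := fun i =>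
    ⟨QuotientGroup.mk ⟨(α ^ (i : ℕ)) x, hB.pow i _ hx⟩, fun h => by
      rw [QuotientGroup.eq, Subgroup.mem_subgroupOf] at h
      simp only [Subgroup.coe_mul, InvMemClass.coe_inv, OneMemClass.coe_one, mul_one] at h
      have h' := hA.pow (e - i) _ (inv_mem h)
      rw [inv_inv, ← MulAut.mul_apply, ← pow_add, show e - (i : ℕ) + i = e by omega, D.pow_e] at h'
      exact hxA h'⟩
  have hinj : Function.Injective f := fun i j h => by
    have h' := congrArg Subtype.val h
    exact D.inj_pow hA hxA (Subgroup.mem_subgroupOf.1 (QuotientGroup.eq.1 h'))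
  have hsurj := (hinj.bijective_of_nat_card_le (by
    haveI := Fintype.ofFinite Q
    rw [Nat.card_eq_fintype_card, Fintype.card_subtype_compl, Fintype.card_subtype_eq,
      ← Nat.card_eq_fintype_card, Nat.card_eq_fintype_card (α := Fin e), Fintype.card_fin]
    have : Nat.card Q = e + 1 := hcard
    omega)).2
  obtain ⟨i, hi⟩ := hsurj ⟨QuotientGroup.mk ⟨y, hy⟩, fun h => by
    rw [QuotientGroup.eq, Subgroup.mem_subgroupOf] at h
    simp only [Subgroup.coe_mul, InvMemClass.coe_inv, OneMemClass.coe_one, mul_one] at h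
    exact hyA (inv_mem_iff.1 h)⟩
  refine ⟨i, ?_⟩
  have := congrArg Subtype.val hi
  exact Subgroup.mem_subgroupOf.1 (QuotientGroup.eq.1 this)

/-- A layer of order `e + 1` is elementary abelian. -/
theorem Frame.sq_mem {A B : Subgroup U} (hA : Inv α A) (hB : Inv α B) (hAB : A ≤ B) [hAn : A.Normal]
    (hcard : A.relIndex B = e + 1) {x : U} (hx : x ∈ B) : x * x ∈ A := by
  by_cases hxA : x ∈ A
  · exact mul_mem hxA hxA
  obtain ⟨k, hk⟩ := D.isPGroup x
  classical
  have hex : ∃ j, x ^ 2 ^ (j + 1) ∈ A := by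
    refine ⟨k, ?_⟩
    rw [pow_succ, pow_mul, hk, one_pow]; exact one_mem A
  obtain ⟨z, hz, hzA, hzz⟩ : ∃ z ∈ B, z ∉ A ∧ z * z ∈ A := by
    refine ⟨x ^ 2 ^ Nat.find hex, pow_mem hx _, ?_, ?_⟩
    · rcases Nat.eq_zero_or_pos (Nat.find hex) with h | h
      · rw [h, pow_zero, pow_one]; exact hxA
      · intro hc
        refine Nat.find_min hex (m := Nat.find hex - 1) (by omega) ?_
        rwa [Nat.sub_add_cancel h]
    · rw [← pow_add, ← two_mul, mul_comm, ← pow_succ]
      exact Nat.find_spec hex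
  obtain ⟨i, hi⟩ := D.trans_quot hA hB hAB hcard hz hzA hx hxA
  set w := (α ^ i) z
  have hw : w * w ∈ A := by
    have := hA.pow i _ hzz
    rwa [map_mul] at this
  obtain ⟨a, ha, rfl⟩ : ∃ a ∈ A, x = w * a := ⟨_, hi, by group⟩
  have : w * a * (w * a) = w * w * ((w⁻¹ * a * w) * a) := by group
  rw [this]
  refine mul_mem hw (mul_mem ?_ ha)
  simpa using hAn.conj_mem a ha w⁻¹

end CfsgLib.SuzTop
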