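import Mathlib

/-!
Many sets of size `k` meeting pairwise in `k - 1` points form a sunflower.
-/

set_option autoImplicit false

namespace CfsgLib.SuzTop

theorem exists_sunflower {β ι : Type*} [DecidableEq β] [Fintype ι] (S : ι → Finset β) (r : ℕ)
    (hcard : ∀ i, (S i).card = r + 1) (hint : ∀ i j, i ≠ j → (S i ∩ S j).card = r)
    (hι : r + 2 < Fintype.card ι) :
    ∃ (C : Finset β) (x : ι → β), C.card = r ∧ Function.Injective x ∧
      ∀ i, x i ∉ C ∧ S i = insert (x i) C := by
  classical
  have hinj : Function.Injective S := fun i j h => by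
    by_contra hij
    have := hint i j hij
    rw [h, Finset.inter_self, hcard] at this
    omega
  obtain ⟨i, j, hij⟩ := Fintype.one_lt_card_iff.1 (show 1 < Fintype.card ι by omega)
  set C := S i ∩ S j
  have hC : C.card = r := hint i j hij
  set T := S i ∪ S j
  have hT : T.card = r + 2 := by
    have h := Finset.card_union_add_card_inter (S i) (S j)
    rw [hcard, hcard, hint i j hij] at h
    change T.card + r = _ at h
    omega
  have hor : ∀ l, C ⊆ S l ∨ S l ⊆ T := by
    intro l
    refine or_iff_not_imp_left.2 fun hC' => ?_
    have hlt : (S l ∩ C).card < r := by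
      rw [← hC]
      refine Finset.card_lt_card (Finset.inter_subset_right.ssubset_of_ne fun h => hC' ?_)
      rw [← h]; exact Finset.inter_subset_left
    have hli : l ≠ i := fun h => hC' (by rw [h]; exact Finset.inter_subset_left)
    have hlj : l ≠ j := fun h => hC' (by rw [h]; exact Finset.inter_subset_right)
    have h := Finset.card_union_add_card_inter (S l ∩ S i) (S l ∩ S j)
    rw [hint l i hli, hint l j hlj, ← Finset.inter_union_distrib_left,
      ← Finset.inter_inter_distrib_left] at h
    have hle : (S l ∩ T).card ≤ (S l).card := Finset.card_le_card Finset.inter_subset_left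
    rw [hcard] at hle
    change (S l ∩ T).card + (S l ∩ C).card = _ at h
    exact Finset.inter_eq_left.1
      (Finset.eq_of_subset_of_card_le Finset.inter_subset_left (by rw [hcard]; omega))
  have hall : ∀ l, C ⊆ S l := by
    intro j₀
    by_contra hj₀
    have hj₀T := (hor j₀).resolve_left hj₀
    have hsub : ∀ l, S l ⊆ T := by
      intro l
      by_contra hl
      have hCl := (hor l).resolve_right hl
      obtain ⟨y, hy, hyT⟩ := Finset.not_subset.1 hl
      have hCy : insert y C = S l := Finset.eq_of_subset_of_card_le
        (Finset.insert_subset hy hCl) (by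
          rw [hcard, Finset.card_insert_of_notMem fun h => hyT
            (Finset.mem_union_left _ (Finset.mem_of_mem_inter_left h)), hC])
      have hne : j₀ ≠ l := fun h => hj₀ (h ▸ hCl)
      have h := hint j₀ l hne
      rw [← hCy, Finset.inter_insert_of_notMem fun h' => hyT (hj₀T h')] at h
      refine hj₀ ?_
      rw [← Finset.eq_of_subset_of_card_le (Finset.inter_subset_right (s₁ := S j₀) (s₂ := C))
        (by rw [h, hC])]
      exact Finset.inter_subset_left
    have hle := Finset.card_le_card_of_injOn S (s := Finset.univ) (t := T.powersetCard (r + 1))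
      (fun l _ => Finset.mem_powersetCard.2 ⟨hsub l, hcard l⟩) hinj.injOn
    rw [Finset.card_univ, Finset.card_powersetCard, hT, Nat.choose_succ_self_right] at hle
    omega
  have hx : ∀ l, ∃ y, y ∉ C ∧ S l = insert y C := fun l => by
    obtain ⟨y, hy⟩ := Finset.card_eq_one.1 (show (S l \ C).card = 1 by
      rw [Finset.card_sdiff_of_subset (hall l), hcard, hC]; omega)
    refine ⟨y, (Finset.mem_sdiff.1 (hy ▸ Finset.mem_singleton_self y)).2, ?_⟩
    rw [Finset.insert_eq, ← hy, Finset.sdiff_union_of_subset (hall l)]
  choose x hx using hx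
  exact ⟨C, x, hC, fun l m h => hinj (by rw [(hx l).2, (hx m).2, h]), hx⟩

end CfsgLib.SuzTop
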