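import Cfsg.Agent.Suz.Known
import Cfsg.Agent.Suz.Sunflower
import Cfsg.Agent.Suz.DegreeQ
import Cfsg.Agent.Char.Galois

/-!
The derived subgroup of the kernel has index `e + 1`.
-/

set_option autoImplicit false
set_option linter.unusedSectionVars false
set_option linter.style.haveILetI false

namespace CfsgLib.SuzTop

open MulAction CfsgLib.Char

variable {G Ω : Type*} [Group G] [Fintype G] [IsSimpleGroup G] [MulAction G Ω] [Fintype Ω]
variable {a b : Ω} {U : Subgroup G} {g₀ : G} {α : MulAut U} {e : ℕ}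

/-- The degree is congruent to the linear part modulo `e + 1`. -/
theorem Cfg.deg_linear [Fintype U] [Fintype (U →* ℂˣ)] (C : Cfg a b U g₀ α e)
    (hidx : (commutator U).index = (e + 1) ^ 2) {χ : G → ℂ} (hχ : Cfsg.IsIrrCharacter G χ) :
    ∃ L : ℕ, (cdeg χ : ℂ) = (∑ μ : U →* ℂˣ, linMult χ μ) + ((e + 1) * L : ℕ) := by
  classical
  haveI : Fact (Nat.Prime 2) := ⟨Nat.prime_two⟩
  obtain ⟨n, hn⟩ := (C.frame.isPGroup.to_subgroup (Subgroup.center U)).exists_card_eq
  rw [C.frame.card_center] at hn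
  set f : U → ℂ := fun u => χ u with hf
  have hfc : Cfsg.IsCharacter U f := IsCharacter.restrict (IsIrrCharacter.isCharacter hχ) U
  have hexp := congrFun (eq_sum_irr (IsCharacter.isClassFunction hfc)) 1
  rw [Finset.sum_apply, show f 1 = χ 1 from rfl, irr_apply_one_eq_cdeg hχ] at hexp
  have hlin : ∀ θ ∈ irrFinset U, ∃ k : ℕ, Cfsg.classInner f θ = k := fun θ hθ =>
    IsCharacter.exists_classInner_eq_natCast hfc (mem_irrFinset.1 hθ)
  choose! k hk using hlin
  have hdvd : e + 1 ∣ ∑ θ ∈ (irrFinset U).filter (fun θ => cdeg θ ≠ 1), k θ * cdeg θ := by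
    refine Finset.dvd_sum fun θ hθ => dvd_mul_of_dvd_right ?_ _
    obtain ⟨hθ1, hθ2⟩ := Finset.mem_filter.1 hθ
    have hge := C.degree_ge hidx (mem_irrFinset.1 hθ1) hθ2
    obtain ⟨j, hj⟩ := C.frame.isPGroup.exists_card_eq
    obtain ⟨i, -, hi⟩ := (Nat.dvd_prime_pow Nat.prime_two).1
      (hj ▸ (cdeg_dvd_index_center (mem_irrFinset.1 hθ1)).trans (Subgroup.index_dvd_card _))
    rw [hi, hn] at hge ⊢
    exact pow_dvd_pow 2 ((Nat.pow_le_pow_iff_right (by norm_num)).1 hge)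
  obtain ⟨L, hL⟩ := hdvd
  refine ⟨L, ?_⟩
  rw [← hL, hexp, ← Finset.sum_filter_add_sum_filter_not (irrFinset U) (fun θ => cdeg θ = 1)]
  congr 1
  · refine (Finset.sum_bij (fun μ _ => fun u : U => (μ u : ℂ)) (fun μ _ => ?_) (fun μ _ ν _ h => ?_)
      (fun θ hθ => ?_) fun μ _ => ?_).symm
    · exact Finset.mem_filter.2 ⟨mem_irrFinset.2 (isIrrCharacter_ofHom μ), by simp [cdeg]⟩
    · exact MonoidHom.ext fun u => Units.ext (congrFun h u)
    · obtain ⟨h1, h2⟩ := Finset.mem_filter.1 hθ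
      obtain ⟨μ, rfl⟩ := IsCharacter.exists_hom (IsIrrCharacter.isCharacter (mem_irrFinset.1 h1))
        (by rw [irr_apply_one_eq_cdeg (mem_irrFinset.1 h1), h2, Nat.cast_one])
      exact ⟨μ, Finset.mem_univ _, rfl⟩
    · rw [Pi.smul_apply, smul_eq_mul, map_one, Units.val_one, mul_one]
      rfl
  · rw [Nat.cast_sum]
    refine Finset.sum_congr rfl fun θ hθ => ?_
    have h1 := (Finset.mem_filter.1 hθ).1
    rw [Pi.smul_apply, smul_eq_mul, hk θ h1, irr_apply_one_eq_cdeg (mem_irrFinset.1 h1)]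
    push_cast
    ring

set_option maxHeartbeats 1000000 in
theorem Cfg.index_ne_sq (C : Cfg a b U g₀ α e) : (commutator U).index ≠ (e + 1) ^ 2 := by
  classical
  intro hidx
  obtain ⟨hh, hNZ, hsq⟩ := C.card_of_sq hidx
  haveI := Fintype.ofFinite U
  haveI : Finite (U →* ℂˣ) := Finite.of_equiv _ (linearCharEquiv (G := U)).symm
  haveI := Fintype.ofFinite (U →* ℂˣ)
  obtain ⟨r, hr, hr1, ⟨D⟩⟩ := C.exists_rest hh
  have he3 := C.frame.three_le
  have hμsq : ∀ (μ : U →* ℂˣ) (x : U), μ (x * x) = 1 := fun μ x =>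
    Abelianization.commutator_subset_ker μ (hNZ ▸ hsq x)
  have hlinind : ∀ χ ∈ D.R, ∀ μ ν : U →* ℂˣ, linInd μ = linInd ν → D.M χ μ = D.M χ ν := by
    intro χ hχ μ ν h
    refine Nat.cast_injective (R := ℂ) ?_
    rw [← D.hM χ hχ, ← D.hM χ hχ, linMult_eq (IsIrrCharacter.isClassFunction (D.irr χ hχ).1),
      linMult_eq (IsIrrCharacter.isClassFunction (D.irr χ hχ).1), h]
  have hself : ∀ μ : U →* ℂˣ, μ ≠ 1 → (∑ χ ∈ D.R, D.M χ μ * D.M χ μ) = r + 1 := by
    intro μ hμ
    refine Nat.cast_injective (R := ℂ) ?_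
    have h := D.gram μ μ hμ hμ
    rw [C.classInner_linInd_self hμ] at h
    have her : (e : ℂ) = 2 * r + 1 := by rw [hr]; push_cast; ring
    push_cast
    linear_combination h + her
  -- the multiplicities are zero or one
  have h01 : ∀ χ ∈ D.R, ∀ μ : U →* ℂˣ, μ ≠ 1 →
      D.M χ μ ≤ 1 ∧ D.N χ * (D.M χ μ : ℤ) = D.M χ μ := by
    intro χ hχ μ hμ
    have hnn : ∀ ψ ∈ D.R, (0 : ℤ) ≤ (D.M ψ μ : ℤ) * D.M ψ μ - D.N ψ * D.M ψ μ := by
      intro ψ hψ
      have := (D.hN ψ hψ).2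
      rcases Nat.eq_zero_or_pos (D.M ψ μ) with h | h
      · simp [h]
      · have h' : (1 : ℤ) ≤ (D.M ψ μ : ℤ) := by exact_mod_cast h
        nlinarith
    have h0 : ∑ ψ ∈ D.R, ((D.M ψ μ : ℤ) * D.M ψ μ - D.N ψ * D.M ψ μ) = 0 := by
      rw [Finset.sum_sub_distrib, D.fs μ hμ (hμsq μ)]
      have := hself μ hμ
      have : ((∑ χ ∈ D.R, D.M χ μ * D.M χ μ : ℕ) : ℤ) = r + 1 := by rw [this]; push_cast; rfl
      push_cast at this
      rw [this, sub_self]
    have hz := (Finset.sum_eq_zero_iff_of_nonneg hnn).1 h0 χ hχ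
    have := (D.hN χ hχ).2
    rcases Nat.eq_zero_or_pos (D.M χ μ) with h | h
    · simp [h]
    · have h' : (1 : ℤ) ≤ (D.M χ μ : ℤ) := by exact_mod_cast h
      have hM1 : (D.M χ μ : ℤ) = D.N χ := by
        refine mul_right_cancel₀ (show (D.M χ μ : ℤ) ≠ 0 by omega) ?_
        linarith
      refine ⟨by omega, ?_⟩
      rw [show D.N χ = 1 by omega, one_mul]
  -- the orbits
  set L := Finset.univ.filter fun μ : U →* ℂˣ => μ ≠ 1 with hL
  set P := L.image linInd with hP
  have hrep : ∀ φ : {φ // φ ∈ P}, ∃ μ : U →* ℂˣ, μ ≠ 1 ∧ linInd μ = φ.1 := fun φ => by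
    obtain ⟨μ, hμ, h⟩ := Finset.mem_image.1 φ.2
    exact ⟨μ, (Finset.mem_filter.1 hμ).2, h⟩
  choose rep hrep1 hrep2 using hrep
  let sh : (U →* ℂˣ) → Fin e → (U →* ℂˣ) := fun μ i => μ.comp (α ^ (i : ℕ)).toMonoidHom
  have hsh : ∀ μ i, linInd (sh μ i) = linInd μ := by
    intro μ i
    refine eq_of_classInner_eq (isClassFunction_indFun _ _) (isClassFunction_indFun _ _) fun χ hχ => ?_
    rw [← classInner_conj]
    conv_rhs => rw [← classInner_conj]
    congr 1
    show Cfsg.classInner χ (linInd (sh μ i)) = Cfsg.classInner χ (linInd μ)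
    rw [← linMult_eq (IsIrrCharacter.isClassFunction hχ),
      ← linMult_eq (IsIrrCharacter.isClassFunction hχ), linMult, linMult, classInner_def,
      classInner_def]
    congr 1
    refine Fintype.sum_equiv (α ^ (i : ℕ)).toEquiv _ _ fun u => ?_
    show _ = χ (((α ^ (i : ℕ)) u : U) : G) * (starRingEnd ℂ) (μ ((α ^ (i : ℕ)) u) : ℂ)
    rw [C.conj_mem_class (IsIrrCharacter.isClassFunction hχ)]
    rfl
  have horb : ∀ μ ν : U →* ℂˣ, μ ≠ 1 → linInd μ = linInd ν → ∃ i, sh μ i = ν := by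
    intro μ ν hμ h
    by_contra hno
    push Not at hno
    have h1 := C.classInner_linInd_of_ne (μ := μ) (ν := ν) hno
    rw [← h, C.classInner_linInd_self hμ] at h1
    exact one_ne_zero (add_eq_left.1 h1)
  have hfib : ∀ φ : {φ // φ ∈ P}, (L.filter fun ν => linInd ν = φ.1).card = e := by
    intro φ
    have : (L.filter fun ν => linInd ν = φ.1) = Finset.univ.image (sh (rep φ)) := by
      ext ν
      simp only [Finset.mem_filter, hL, Finset.mem_univ, true_and, Finset.mem_image]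
      refine ⟨fun h => horb _ _ (hrep1 φ) (by rw [hrep2, h.2]), ?_⟩
      rintro ⟨i, rfl⟩
      refine ⟨fun h => hrep1 φ (MonoidHom.ext fun u => ?_), by rw [hsh, hrep2]⟩
      have h' := DFunLike.congr_fun h ((α ^ (i : ℕ)).symm u)
      simpa [sh] using h'
    rw [this, Finset.card_image_of_injective _ fun i j h => C.hom_free (hrep1 φ)
      fun u => DFunLike.congr_fun h u, Finset.card_univ, Fintype.card_fin]
  have hLcard : L.card = (e + 1) ^ 2 - 1 := by
    rw [hL, Finset.filter_ne', Finset.card_erase_of_mem (Finset.mem_univ _), Finset.card_univ,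
      ← Nat.card_eq_fintype_card, card_hom_eq_index_commutator, hidx]
  have hι : Fintype.card {φ // φ ∈ P} = e + 2 := by
    have h := Finset.card_eq_sum_card_fiberwise (f := linInd) (s := L) (t := P)
      fun μ hμ => Finset.mem_image_of_mem _ hμ
    rw [← Finset.sum_attach, Finset.sum_congr rfl fun φ _ => hfib φ, Finset.sum_const, smul_eq_mul,
      Finset.card_attach, hLcard] at h
    rw [Fintype.card_coe]
    refine Nat.eq_of_mul_eq_mul_right (show 0 < e by omega) ?_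
    rw [← h]
    have : (e + 1) ^ 2 = (e + 2) * e + 1 := by ring
    omega
  -- the sunflower
  let S : {φ // φ ∈ P} → Finset (G → ℂ) := fun φ => D.R.filter fun χ => D.M χ (rep φ) = 1
  have hScard : ∀ φ, (S φ).card = r + 1 := fun φ => by
    rw [← hself _ (hrep1 φ), Finset.card_filter]
    refine Finset.sum_congr rfl fun χ hχ => ?_
    rcases Nat.le_one_iff_eq_zero_or_eq_one.1 (h01 χ hχ _ (hrep1 φ)).1 with h | h <;> simp [h]
  have hSint : ∀ φ φ', φ ≠ φ' → (S φ ∩ S φ').card = r := by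
    intro φ φ' hne
    have hempty : ∀ i, sh (rep φ) i ≠ rep φ' := fun i hi => hne (Subtype.ext (by
      rw [← hrep2 φ, ← hrep2 φ', ← hi, hsh]))
    have h := D.gram _ _ (hrep1 φ) (hrep1 φ')
    rw [C.classInner_linInd_of_ne hempty] at h
    have her : (e : ℂ) = 2 * r + 1 := by rw [hr]; push_cast; ring
    have h' : ∑ χ ∈ D.R, D.M χ (rep φ) * D.M χ (rep φ') = r := by
      refine Nat.cast_injective (R := ℂ) ?_
      push_cast
      linear_combination h + her
    rw [← h', show S φ ∩ S φ' = D.R.filter fun χ => D.M χ (rep φ) = 1 ∧ D.M χ (rep φ') = 1 from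
      Finset.filter_and _ _ _ |>.symm, Finset.card_filter]
    refine Finset.sum_congr rfl fun χ hχ => ?_
    rcases Nat.le_one_iff_eq_zero_or_eq_one.1 (h01 χ hχ _ (hrep1 φ)).1 with h | h <;>
      rcases Nat.le_one_iff_eq_zero_or_eq_one.1 (h01 χ hχ _ (hrep1 φ')).1 with h' | h' <;>
      simp [h, h']
  obtain ⟨Cc, x, hCc, hxinj, hx⟩ := exists_sunflower S r hScard hSint (by rw [hι]; omega)
  have hne0 : 0 < Fintype.card {φ // φ ∈ P} := by omega
  obtain ⟨φ₀⟩ := Fintype.card_pos_iff.1 hne0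
  have hSR : ∀ φ, S φ ⊆ D.R := fun φ => Finset.filter_subset _ _
  set X := (Finset.univ : Finset {φ // φ ∈ P}).image x with hX
  have hCR : Cc ⊆ D.R := fun χ hχ => hSR φ₀ (by rw [(hx φ₀).2]; exact Finset.mem_insert_of_mem hχ)
  have hXR : X ⊆ D.R := fun χ hχ => by
    obtain ⟨φ, -, rfl⟩ := Finset.mem_image.1 hχ
    exact hSR φ (by rw [(hx φ).2]; exact Finset.mem_insert_self _ _)
  have hdis : Disjoint Cc X := Finset.disjoint_left.2 fun χ hχ hχ' => by
    obtain ⟨φ, -, rfl⟩ := Finset.mem_image.1 hχ'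
    exact (hx φ).1 hχ
  -- the number of orbits through a character
  let s : (G → ℂ) → ℕ := fun χ => (Finset.univ.filter fun φ => χ ∈ S φ).card
  have hsC : ∀ χ ∈ Cc, s χ = e + 2 := fun χ hχ => by
    show (Finset.univ.filter fun φ => χ ∈ S φ).card = _
    rw [Finset.filter_true_of_mem fun φ _ => by rw [(hx φ).2]; exact Finset.mem_insert_of_mem hχ,
      Finset.card_univ, hι]
  have hsX : ∀ φ, s (x φ) = 1 := fun φ => by
    show (Finset.univ.filter fun ψ => x φ ∈ S ψ).card = 1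
    rw [Finset.card_eq_one]
    refine ⟨φ, Finset.ext fun ψ => ?_⟩
    simp only [Finset.mem_filter, Finset.mem_univ, true_and, Finset.mem_singleton, (hx ψ).2,
      Finset.mem_insert, (hx φ).1, or_false]
    exact ⟨fun h => (hxinj h).symm, fun h => by rw [h]⟩
  have hs0 : ∀ χ, χ ∈ D.R \ (Cc ∪ X) → s χ = 0 := fun χ hχ => by
    rw [Finset.mem_sdiff, Finset.mem_union, not_or] at hχ
    refine Finset.card_eq_zero.2 (Finset.filter_false_of_mem fun φ _ h => ?_)
    rw [(hx φ).2, Finset.mem_insert] at h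
    rcases h with h | h
    · exact hχ.2.2 (h ▸ Finset.mem_image_of_mem x (Finset.mem_univ φ))
    · exact hχ.2.1 h
  have hsum : ∀ χ ∈ D.R, ∑ μ : U →* ℂˣ, D.M χ μ = e * s χ := by
    intro χ hχ
    rw [← Finset.sum_filter_add_sum_filter_not Finset.univ (fun μ : U →* ℂˣ => μ ≠ 1), ← hL,
      Finset.sum_eq_zero (s := Finset.univ.filter fun μ : U →* ℂˣ => ¬ μ ≠ 1) (fun μ hμ => by
        rw [not_not.1 (Finset.mem_filter.1 hμ).2]; exact D.M_one χ hχ), add_zero,
      ← Finset.sum_fiberwise_of_maps_to (g := linInd) (t := P)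
        fun μ hμ => Finset.mem_image_of_mem _ hμ, ← Finset.sum_attach]
    show _ = e * (Finset.univ.filter fun φ => χ ∈ S φ).card
    rw [Finset.card_filter, Finset.mul_sum, Finset.univ_eq_attach]
    refine Finset.sum_congr rfl fun φ _ => ?_
    rw [Finset.sum_congr rfl fun μ hμ => hlinind χ hχ μ (rep φ) (by
      rw [hrep2, (Finset.mem_filter.1 hμ).2]), Finset.sum_const, hfib, smul_eq_mul]
    congr 1
    rcases Nat.le_one_iff_eq_zero_or_eq_one.1 (h01 χ hχ _ (hrep1 φ)).1 with h | h <;>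
      simp [S, hχ, h]
  -- degrees and values at an involution
  obtain ⟨t, htN, ht1⟩ := (Subgroup.ne_bot_iff_exists_ne_one (H := commutator U)).1 C.ne_bot |> fun ⟨t, ht⟩ => (⟨t.1, t.2, fun h => ht (Subtype.ext h)⟩ : ∃ t : U, t ∈ commutator U ∧ t ≠ 1)
  have hdeg : ∀ χ ∈ D.R, ∃ Q : ℕ, cdeg χ = e * (s χ + (e + 1) * Q) ∧
      χ (t : U) = ((e : ℂ) * s χ) - ((e : ℂ) + 1) * Q := by
    intro χ hχ
    have hχi := (D.irr χ hχ).1
    have hlin : ∑ μ : U →* ℂˣ, linMult χ μ = ((e * s χ : ℕ) : ℂ) := by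
      rw [← hsum χ hχ, Nat.cast_sum]
      exact Finset.sum_congr rfl fun μ _ => D.hM χ hχ μ
    obtain ⟨L', hL'⟩ := C.deg_linear hidx hχi
    rw [hlin] at hL'
    have hdegN : cdeg χ = e * s χ + (e + 1) * L' := by exact_mod_cast hL'
    have ht2 : t * t = 1 := (C.frame.center_iff t).1 (hNZ ▸ htN)
    obtain ⟨c, hc⟩ : ∃ c : ℤ, χ (t : U) = c := by
      refine IsCharacter.exists_int_apply (IsIrrCharacter.isCharacter hχi) fun j hj => ?_
      have hev : 2 ∣ Nat.card G := by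
        have h2 : orderOf (t : G) = 2 := orderOf_eq_prime
          (by rw [sq, ← Subgroup.coe_mul, ht2, Subgroup.coe_one]) fun h => ht1 (Subtype.ext h)
        exact h2 ▸ orderOf_dvd_natCard _
      have hodd : Odd j := Nat.coprime_two_right.1 (hj.coprime_dvd_right hev)
      obtain ⟨i, rfl⟩ := hodd
      rw [pow_succ, pow_mul, sq, ← Subgroup.coe_mul, ht2, Subgroup.coe_one, one_pow, one_mul]
    have hmean : (cdeg χ : ℤ) + e * c = ((e : ℤ) + 1) * (e * s χ) := by
      refine Int.cast_injective (α := ℂ) ?_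
      have h := sum_linMult (U := U) χ
      rw [hlin, hidx, hh] at h
      have hval : ∑ z ∈ Finset.univ.filter (fun u : U => u ∈ commutator U), χ z =
          (cdeg χ : ℂ) + (e : ℂ) * c := by
        rw [← Finset.add_sum_erase _ _ (show (1 : U) ∈ _ from
          Finset.mem_filter.2 ⟨Finset.mem_univ _, one_mem _⟩), OneMemClass.coe_one,
          irr_apply_one_eq_cdeg hχi, Finset.sum_congr rfl (g := fun _ => (c : ℂ)), Finset.sum_const,
          nsmul_eq_mul, Finset.card_erase_of_mem (Finset.mem_filter.2 ⟨Finset.mem_univ _, one_mem _⟩),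
          ← Fintype.card_subtype, ← Nat.card_eq_fintype_card]
        · congr 2
          rw [show Nat.card {u : U // u ∈ commutator U} = Nat.card (commutator U) from rfl, hNZ,
            C.frame.card_center, Nat.add_sub_cancel]
        · intro z hz
          obtain ⟨hz1, hzN⟩ := Finset.mem_erase.1 hz
          obtain ⟨i, hi⟩ := C.frame.trans_quot (A := ⊥) (B := commutator U)
            (fun x hx => by simp [Subgroup.mem_bot.1 hx]) (inv_of_characteristic (commutator U))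
            bot_le (by rw [Subgroup.relIndex_bot_left, hNZ, C.frame.card_center]) htN
            (fun h => ht1 (Subgroup.mem_bot.1 h)) (Finset.mem_filter.1 hzN).2
            (fun h => hz1 (Subgroup.mem_bot.1 h))
          rw [← inv_mul_eq_one.1 (Subgroup.mem_bot.1 hi),
            C.conj_mem_class (IsIrrCharacter.isClassFunction hχi), hc]
      rw [hval] at h
      push_cast at h ⊢
      refine mul_left_cancel₀ (show ((e : ℂ) + 1) ^ 2 ≠ 0 from pow_ne_zero _ (by
        exact_mod_cast (show e + 1 ≠ 0 by omega))) ?_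
      linear_combination -h
    have hdvd : e ∣ L' := by
      have h1 : (e : ℤ) ∣ ((e : ℤ) + 1) * L' := ⟨((e : ℤ) + 1) * s χ - c - s χ, by
        rw [hdegN] at hmean; push_cast at hmean; linarith⟩
      have h2 : (e : ℤ) ∣ L' := by
        have := dvd_sub h1 (dvd_mul_right (e : ℤ) L')
        simpa [add_mul] using this
      exact_mod_cast h2
    obtain ⟨Q, rfl⟩ := hdvd
    refine ⟨Q, by rw [hdegN]; ring, ?_⟩
    rw [hc]
    have h1 : c = (e : ℤ) * s χ - ((e : ℤ) + 1) * Q := by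
      refine mul_left_cancel₀ (show (e : ℤ) ≠ 0 by omega) ?_
      rw [hdegN] at hmean
      push_cast at hmean
      linarith
    rw [h1]
    push_cast
    ring
  choose! Q hQ using hdeg
  have hN1 : ∀ φ, ∀ χ ∈ S φ, D.N χ = 1 := fun φ χ hχ => by
    obtain ⟨hχR, hM⟩ := Finset.mem_filter.1 hχ
    have := (h01 χ hχR _ (hrep1 φ)).2
    rw [hM] at this
    simpa using this
  -- the algebra
  set q : ℤ := 2 * (r : ℤ) + 2 with hq
  set E : ℤ := 2 * (r : ℤ) + 1 with hE
  have heE : (e : ℤ) = E := by rw [hr, hE]; push_cast; ring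
  have hE0 : E ≠ 0 := by omega
  have hhq : (Nat.card U : ℤ) = q ^ 3 := by rw [hh, hr, hq]; push_cast; ring
  set SC := ∑ χ ∈ Cc, (Q χ : ℤ) with hSC
  have hd : ∀ χ ∈ D.R, (cdeg χ : ℤ) = E * (s χ + q * Q χ) := fun χ hχ => by
    rw [(hQ χ hχ).1]; push_cast; rw [heE, show E + 1 = q by omega]
  have hsum0 : ∀ φ, SC + Q (x φ) = (r : ℤ) * q := by
    intro φ
    have h := D.deg _ (hrep1 φ)
    have hpart : ∑ χ ∈ D.R, (D.M χ (rep φ) : ℤ) * cdeg χ = ∑ χ ∈ S φ, (cdeg χ : ℤ) := by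
      rw [Finset.sum_filter]
      refine Finset.sum_congr rfl fun χ hχ => ?_
      rcases Nat.le_one_iff_eq_zero_or_eq_one.1 (h01 χ hχ _ (hrep1 φ)).1 with h | h <;> simp [h]
    rw [hpart, (hx φ).2, Finset.sum_insert (hx φ).1,
      hd _ (hXR (Finset.mem_image_of_mem x (Finset.mem_univ φ))),
      Finset.sum_congr rfl (g := fun χ => E * ((e + 2 : ℕ) : ℤ) + E * q * Q χ) fun χ hχ => by
        rw [hd χ (hCR hχ), hsC χ hχ]; ring, Finset.sum_add_distrib, Finset.sum_const, hCc,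
      ← Finset.mul_sum, ← hSC, hsX, nsmul_eq_mul, hhq, heE] at h
    push_cast at h
    rw [heE] at h
    refine mul_left_cancel₀ (mul_ne_zero hE0 (show q ≠ 0 by omega)) ?_
    simp only [hq, hE] at h ⊢
    linear_combination h
  set m : ℤ := ((Q (x φ₀) : ℕ) : ℤ) with hm
  have hmconst : ∀ φ, (Q (x φ) : ℤ) = m := fun φ => by
    have h1 := hsum0 φ
    have h2 := hsum0 φ₀
    omega
  set R0 := D.R \ (Cc ∪ X) with hR0
  have hsplit : ∀ f : (G → ℂ) → ℤ,
      ∑ χ ∈ D.R, f χ = (∑ χ ∈ R0, f χ) + ((∑ χ ∈ Cc, f χ) + ∑ φ, f (x φ)) := by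
    intro f
    rw [← Finset.sum_sdiff (Finset.union_subset hCR hXR), Finset.sum_union hdis,
      Finset.sum_image fun φ _ ψ _ h => hxinj h]
  set W := ∑ χ ∈ R0, D.N χ * (Q χ : ℤ) with hW
  set V := ∑ χ ∈ R0, (Q χ : ℤ) ^ 2 with hV
  set SC2 := ∑ χ ∈ Cc, (Q χ : ℤ) ^ 2 with hSC2
  have hxR : ∀ φ, x φ ∈ D.R := fun φ => hXR (Finset.mem_image_of_mem x (Finset.mem_univ φ))
  have hι' : (Fintype.card {φ // φ ∈ P} : ℤ) = q + 1 := by rw [hι]; push_cast; omega
  have hW1 : W = -(1 + q * m) := by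
    have h := D.fs_deg
    rw [hsplit, Finset.sum_congr (s₁ := R0) rfl (g := fun χ => E * q * (D.N χ * (Q χ : ℤ)))
      (fun χ hχ => by
        rw [hd χ (Finset.mem_sdiff.1 hχ).1, hs0 χ hχ]; push_cast; ring),
      Finset.sum_congr (s₁ := Cc) rfl (g := fun χ => E * (q + 1) + E * q * (Q χ : ℤ))
      (fun χ hχ => by
        rw [hd χ (hCR hχ), hsC χ hχ, hN1 φ₀ χ (by rw [(hx φ₀).2]; exact Finset.mem_insert_of_mem hχ)]
        push_cast; rw [heE, show E + 2 = q + 1 by omega]; ring),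
      Finset.sum_congr (s₁ := (Finset.univ : Finset {φ // φ ∈ P})) rfl (g := fun _ => E * (1 + q * m))
      (fun φ _ => by
        rw [hd _ (hxR φ), hsX, hN1 φ (x φ) (by rw [(hx φ).2]; exact Finset.mem_insert_self _ _),
          hmconst]; push_cast; ring),
      Finset.sum_add_distrib] at h
    simp only [← Finset.mul_sum, ← hW, ← hSC, Finset.sum_const, hCc, Finset.card_univ, nsmul_eq_mul,
      hι', hhq, heE] at h
    have h2 := hsum0 φ₀
    rw [← hm] at h2
    refine mul_left_cancel₀ (mul_ne_zero hE0 (show q ≠ 0 by omega)) ?_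
    simp only [hq, hE] at h h2 ⊢
    linear_combination h - (2 * (r : ℤ) + 1) * (2 * (r : ℤ) + 2) * h2
  have hVW : -W ≤ V := by
    rw [hW, hV, ← Finset.sum_neg_distrib]
    refine Finset.sum_le_sum fun χ hχ => ?_
    obtain ⟨hlo, -⟩ := D.hN χ (Finset.mem_sdiff.1 hχ).1
    have h1 : (Q χ : ℤ) ≤ (Q χ : ℤ) ^ 2 := Int.le_self_sq _
    nlinarith
  have hC2 : 2 * q * SC - r * q ^ 2 ≤ SC2 := by
    have h : 0 ≤ ∑ χ ∈ Cc, ((Q χ : ℤ) - q) ^ 2 := Finset.sum_nonneg fun χ _ => sq_nonneg _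
    simp only [sub_sq, Finset.sum_add_distrib, Finset.sum_sub_distrib, Finset.sum_const, hCc,
      nsmul_eq_mul, ← Finset.sum_mul, ← Finset.mul_sum, ← hSC, ← hSC2] at h
    linarith
  have hsq' : r * (q + 1) ^ 2 + 2 * q * (q + 1) * SC + q ^ 2 * SC2 +
      (q + 1) * (1 + q * m) ^ 2 + q ^ 2 * V =
      r * (q + 1) ^ 2 + (q + 1) + 2 * q * (q + 1) * (r * q) + q ^ 2 * (r * q ^ 2 + 1) := by
    have h := D.sq
    rw [hsplit, Finset.sum_congr (s₁ := R0) rfl (g := fun χ => E ^ 2 * q ^ 2 * (Q χ : ℤ) ^ 2)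
      (fun χ hχ => by
        rw [hd χ (Finset.mem_sdiff.1 hχ).1, hs0 χ hχ]; push_cast; ring),
      Finset.sum_congr (s₁ := Cc) rfl (g := fun χ => E ^ 2 * (q + 1) ^ 2 +
        (2 * E ^ 2 * q * (q + 1) * (Q χ : ℤ) + E ^ 2 * q ^ 2 * (Q χ : ℤ) ^ 2))
      (fun χ hχ => by
        rw [hd χ (hCR hχ), hsC χ hχ]
        push_cast; rw [heE, show E + 2 = q + 1 by omega]; ring),
      Finset.sum_congr (s₁ := (Finset.univ : Finset {φ // φ ∈ P})) rfl
      (g := fun _ => E ^ 2 * (1 + q * m) ^ 2)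
      (fun φ _ => by rw [hd _ (hxR φ), hsX, hmconst]; push_cast; ring),
      Finset.sum_add_distrib, Finset.sum_add_distrib] at h
    simp only [← Finset.mul_sum, ← hV, ← hSC, ← hSC2, Finset.sum_const, hCc, Finset.card_univ,
      nsmul_eq_mul, hι', hhq, heE] at h
    refine mul_left_cancel₀ (pow_ne_zero 2 hE0) ?_
    simp only [hq, hE] at h ⊢
    linear_combination h
  have hm0 : m = 0 := by
    have h2 := hsum0 φ₀
    rw [← hm] at h2
    have hmnn : 0 ≤ m := Int.natCast_nonneg _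
    have hq0 : 0 < q := by omega
    have key : q ^ 2 * ((q + 1) * m ^ 2 - q * m) ≤ 0 := by
      have e1 : SC = r * q - m := by linarith
      have hA : q ^ 2 * (2 * q * SC - r * q ^ 2) ≤ q ^ 2 * SC2 :=
        mul_le_mul_of_nonneg_left hC2 (sq_nonneg q)
      have hB : q ^ 2 * (1 + q * m) ≤ q ^ 2 * V :=
        mul_le_mul_of_nonneg_left (by rw [hW1] at hVW; linarith) (sq_nonneg q)
      rw [e1] at hA hsq'
      linarith
    have h3 : (q + 1) * m ^ 2 - q * m ≤ 0 := by
      by_contra hc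
      nlinarith [mul_pos (pow_pos hq0 2) (not_le.1 hc)]
    by_contra hne
    have hm1 : 1 ≤ m := by omega
    have h4 : 0 ≤ (q + 1) * m * (m - 1) :=
      mul_nonneg (mul_nonneg (by omega) hmnn) (by omega)
    linarith
  -- a character of degree `e` with the involution in its kernel
  have hQ0 : Q (x φ₀) = 0 := by rw [hm] at hm0; exact_mod_cast hm0
  obtain ⟨hd0, ht0⟩ := hQ _ (hxR φ₀)
  rw [hsX, hQ0, mul_zero, add_zero, mul_one] at hd0
  refine ht1 (Subtype.ext (eq_one_of_apply_eq (D.irr _ (hxR φ₀)).1 (D.irr _ (hxR φ₀)).2 ?_))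
  rw [ht0, irr_apply_one_eq_cdeg (D.irr _ (hxR φ₀)).1, hd0, hsX, hQ0]
  simp

end CfsgLib.SuzTop
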