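import Mathlib
import Cfsg.Agent.Recog.SingerField

/-!
There is no equivariant class three configuration over a field of characteristic two.
-/

set_option autoImplicit false
set_option linter.unusedSectionVars false
set_option linter.style.haveILetI false

namespace CfsgLib.SuzTop

open CfsgLib.Recog

variable {F : Type*} [Field F] [Fintype F] [CharP F 2]

/-- A symmetrically cancelling quadratic expression reduces to its diagonal. -/
theorem sum_eq_diag {ι : Type*} [Fintype ι] [DecidableEq ι] (C : ι → ι → F)
    (hC : ∀ i j, C i j + C j i = 0) (v : ι → F) :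
    ∑ i, ∑ j, C i j * (v i * v j) = ∑ i, C i i * (v i * v i) := by
  have h : ∑ p ∈ Finset.univ.filter (fun p : ι × ι => p.1 ≠ p.2), C p.1 p.2 * (v p.1 * v p.2) = 0 := by
    refine Finset.sum_involution (fun p _ => (p.2, p.1)) (fun p _ => ?_) (fun p hp _ => ?_)
      (fun p hp => ?_) (fun p _ => rfl)
    · show C p.1 p.2 * (v p.1 * v p.2) + C p.2 p.1 * (v p.2 * v p.1) = 0
      linear_combination (v p.1 * v p.2) * hC p.1 p.2
    · intro e
      exact (Finset.mem_filter.1 hp).2 (congrArg Prod.fst e).symm
    · exact Finset.mem_filter.2 ⟨Finset.mem_univ _, Ne.symm (Finset.mem_filter.1 hp).2⟩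
  rw [← Finset.sum_product', Finset.univ_product_univ,
    ← Finset.sum_filter_add_sum_filter_not Finset.univ (fun p : ι × ι => p.1 ≠ p.2), h, zero_add]
  refine Finset.sum_nbij' (fun p => p.1) (fun i => (i, i)) ?_ ?_ ?_ ?_ ?_
  · intro p _; exact Finset.mem_univ _
  · intro i _; simp
  · intro p hp
    have : p.1 = p.2 := not_not.1 (Finset.mem_filter.1 hp).2
    exact Prod.ext rfl this
  · intro i _; rfl
  · intro p hp
    have : p.1 = p.2 := not_not.1 (Finset.mem_filter.1 hp).2
    rw [this]

variable {ω : F} (hgen : ∀ x : F, x ≠ 0 → ∃ i : ℕ, ω ^ i = x)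
include hgen

/-- An identity of products of automorphisms at a generator holds everywhere. -/
theorem mul_ext_gen (s t s' t' : F ≃+* F) (h : s ω * t ω = s' ω * t' ω) (x : F) :
    s x * t x = s' x * t' x :=
  SingerField.pow_ext hgen
    (f := (s : F →+* F).toMonoidWithZeroHom * (t : F →+* F).toMonoidWithZeroHom)
    (g := (s' : F →+* F).toMonoidWithZeroHom * (t' : F →+* F).toMonoidWithZeroHom) h x

theorem eq_of_gen {s t : F ≃+* F} (h : s ω = t ω) : s = t :=
  RingEquiv.ext fun x => SingerField.pow_ext hgen (f := (s : F →+* F).toMonoidWithZeroHom)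
    (g := (t : F →+* F).toMonoidWithZeroHom) h x

theorem class_three_false (hcard : Fintype.card F ≠ 2) (B T : F →+ F →+ F) (Q : F → F) (ν : F)
    (hpolar : ∀ x y, Q (x + y) = Q x + Q y + B x y) (hB0 : B ≠ 0)
    (hB : ∀ x y, B (ω * x) (ω * y) = ν * B x y) (hQ : ∀ x, Q (ω * x) = ν * Q x)
    (hT : ∀ x a, T (ω * x) (ν * a) = ν * T x a)
    (hid : ∀ y z, B y z + T y (B y z) = T z (Q y)) : False := by
  classical
  haveI : Finite (F ≃+* F) := Finite.of_injective _ DFunLike.coe_injective
  letI := Fintype.ofFinite (F ≃+* F)
  let fr : F ≃+* F := frobeniusEquiv F 2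
  have hfr : ∀ x : F, fr x = x * x := fun x => by
    show frobenius F 2 x = x * x
    rw [frobenius_def, pow_two]
  have hω0 : ω ≠ 0 := by
    intro h
    obtain ⟨x, hx⟩ : ∃ x : F, x ≠ 0 ∧ x ≠ 1 := by
      by_contra hn
      push Not at hn
      have : Fintype.card F ≤ Fintype.card Bool :=
        Fintype.card_le_of_injective (fun x : F => decide (x = 0)) fun a b e => by
          by_cases ha : a = 0 <;> by_cases hb : b = 0 <;> simp_all
      have := Fintype.one_lt_card (α := F)
      simp only [Fintype.card_bool] at *
      omega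
    obtain ⟨i, hi⟩ := hgen x hx.1
    subst h
    rcases Nat.eq_zero_or_pos i with rfl | hi0
    · exact hx.2 (by simpa using hi.symm)
    · exact hx.1 (by rw [← hi, zero_pow hi0.ne'])
  have hQ0 : Q 0 = 0 := by
    have := hpolar 0 0
    simp at this
    exact this
  have hBself : ∀ x, B x x = 0 := fun x => by
    have := hpolar x x
    rw [CharTwo.add_self_eq_zero, hQ0, CharTwo.add_self_eq_zero, zero_add] at this
    exact this.symm
  -- a pair of distinct automorphisms carrying the weight
  obtain ⟨σ, τ, hστ, hν⟩ : ∃ σ τ : F ≃+* F, σ ≠ τ ∧ σ ω * τ ω = ν := by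
    obtain ⟨d, hd⟩ := FieldSpan.exists_biadditive B
    by_contra hn
    push Not at hn
    have hdiag : ∀ σ τ, σ ≠ τ → d σ τ = 0 := fun σ τ h => by
      by_contra hne
      exact hn σ τ h (SingerField.coeff_scale hd hB σ τ hne)
    have hz : (fun σ => d σ σ) = (fun _ => (0 : F)) := by
      refine FieldSpan.coeff_unique fun u => ?_
      obtain ⟨x, rfl⟩ := fr.surjective u
      have h := hBself x
      rw [hd] at h
      simp only [zero_mul, Finset.sum_const_zero]
      refine Eq.trans ?_ h
      refine Finset.sum_congr rfl fun σ _ => ?_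
      rw [Finset.sum_eq_single σ (fun τ _ hne => by rw [hdiag σ τ (Ne.symm hne), zero_mul])
        (fun h => absurd (Finset.mem_univ σ) h), hfr, map_mul]
    refine hB0 (AddMonoidHom.ext fun x => AddMonoidHom.ext fun y => ?_)
    rw [hd]
    refine Finset.sum_eq_zero fun σ _ => Finset.sum_eq_zero fun τ _ => ?_
    rcases eq_or_ne σ τ with rfl | hne
    · rw [congrFun hz σ, zero_mul]
    · rw [hdiag σ τ hne, zero_mul]
  set φ : F ≃+* F := τ.trans σ.symm with hφdef
  have hφ1 : φ ≠ RingEquiv.refl F := fun h => hστ (RingEquiv.ext fun x => by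
    have := RingEquiv.congr_fun h x
    rw [hφdef] at this
    simp only [RingEquiv.trans_apply, RingEquiv.refl_apply] at this
    conv_lhs => rw [← this]
    simp)
  set b : F := σ.symm (Q 1) with hbdef
  -- the normalised forms
  have hνpow : ∀ i : ℕ, Q (ω ^ i) = ν ^ i * Q 1 := by
    intro i
    induction i with
    | zero => simp
    | succ i ih => rw [pow_succ', hQ, ih]; ring
  have hQ' : ∀ y, σ.symm (Q y) = b * (y * φ y) := by
    intro y
    by_cases hy : y = 0
    · rw [hy, hQ0]; simp
    obtain ⟨i, rfl⟩ := hgen y hy
    rw [hνpow, map_mul, map_pow, ← hν, map_mul, mul_pow]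
    simp only [hφdef, RingEquiv.trans_apply, map_pow, RingEquiv.symm_apply_apply, ← hbdef]
    ring
  have hB' : ∀ y z, σ.symm (B y z) = b * (y * φ z + φ y * z) := by
    intro y z
    have h := hpolar y z
    apply_fun σ.symm at h
    rw [map_add, map_add, hQ', hQ', hQ', map_add] at h
    linear_combination -h
  have hb : b ≠ 0 := fun h => hB0 (AddMonoidHom.ext fun x => AddMonoidHom.ext fun y => by
    have := hB' x y
    rw [h, zero_mul, EmbeddingLike.map_eq_zero_iff] at this
    simpa using this)
  let T' : F →+ F →+ F := AddMonoidHom.mk'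
    (fun y => (σ.symm : F →+* F).toAddMonoidHom.comp ((T y).comp (σ : F →+* F).toAddMonoidHom))
    (fun y y' => AddMonoidHom.ext fun a => by simp)
  have hT'app : ∀ y a, T' y a = σ.symm (T y (σ a)) := fun _ _ => rfl
  obtain ⟨e, he⟩ := FieldSpan.exists_biadditive T'
  have hweight : ∀ s t, e s t ≠ 0 → s ω * (t ω * t (φ ω)) = ω * φ ω := by
    intro s t hne
    have hν' : σ.symm ν = ω * φ ω := by
      rw [← hν, map_mul, hφdef]; simp
    have hsc : ∀ y a, T' (ω * y) ((ω * φ ω) * a) = (ω * φ ω) * T' y a := fun y a => by
      rw [hT'app, hT'app, ← hν', map_mul σ, RingEquiv.apply_symm_apply, hT, map_mul]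
    have h := congrFun (congrFun (FieldSpan.bicoeff_unique
      (d := fun s t => e s t * (s ω * t (ω * φ ω))) (d' := fun s t => (ω * φ ω) * e s t)
      fun y a => by
        have := hsc y a
        rw [he, he, Finset.mul_sum] at this
        refine Eq.trans ?_ (this.trans ?_)
        · exact Finset.sum_congr rfl fun s _ => Finset.sum_congr rfl fun t _ => by
            simp only [map_mul]; ring
        · exact Finset.sum_congr rfl fun s _ => by
            rw [Finset.mul_sum]; exact Finset.sum_congr rfl fun t _ => by ring) s) t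
    rw [← map_mul]
    exact mul_left_cancel₀ hne (h.trans (mul_comm _ _))
  have hid' : ∀ y, b * (y + φ y) + T' y (b * (y + φ y)) = T' 1 (b * (y * φ y)) := by
    intro y
    have h := congrArg σ.symm (hid y 1)
    rw [map_add] at h
    have e1 : σ.symm (B y 1) = b * (y + φ y) := by rw [hB', map_one, mul_one, mul_one]
    have e2 : B y 1 = σ (b * (y + φ y)) := by rw [← e1, RingEquiv.apply_symm_apply]
    have e3 : Q y = σ (b * (y * φ y)) := by rw [← hQ', RingEquiv.apply_symm_apply]
    rw [e1] at h
    rw [hT'app, hT'app, ← e2, ← e3]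
    exact h
  -- the quadratic coefficients
  let C : (F ≃+* F) → (F ≃+* F) → F := fun s r => ∑ t, e s t * t b *
    ((if t = r then 1 else 0) + if φ.trans t = r then 1 else 0) +
    ∑ s', ∑ t, if t = s ∧ φ.trans t = r then e s' t * t b else 0
  have hexp : ∀ y, b * (y + φ y) = ∑ s, ∑ r, C s r * (s y * r y) := by
    intro y
    have h := hid' y
    rw [← CharTwo.add_eq_zero, add_assoc, CharTwo.add_eq_zero] at h
    rw [h, he, he]
    simp only [C, add_mul, Finset.sum_add_distrib]
    refine congrArg₂ (· + ·) ?_ ?_
    · refine Finset.sum_congr rfl fun s _ => ?_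
      simp only [Finset.sum_mul]
      rw [Finset.sum_comm]
      refine Finset.sum_congr rfl fun t _ => ?_
      simp only [mul_add, add_mul, Finset.sum_add_distrib, mul_ite, ite_mul, mul_one, mul_zero,
        zero_mul, Finset.sum_ite_eq, Finset.mem_univ, if_true, map_mul, map_add,
        RingEquiv.trans_apply]
      ring
    · simp only [Finset.sum_mul, ite_mul, zero_mul, map_one, one_mul, map_mul]
      conv_rhs =>
        rw [Finset.sum_congr rfl fun s _ => Finset.sum_comm]
        rw [Finset.sum_comm]
      refine Finset.sum_congr rfl fun s' _ => ?_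
      conv_rhs => rw [Finset.sum_congr rfl fun s _ => Finset.sum_comm]
      rw [Finset.sum_comm]
      refine Finset.sum_congr rfl fun t _ => ?_
      rw [Finset.sum_eq_single t, Finset.sum_eq_single (φ.trans t)]
      · simp only [and_self, if_true, RingEquiv.trans_apply]; ring
      · intro r _ hr
        rw [if_neg fun h => hr h.2.symm]
      · intro h; exact absurd (Finset.mem_univ _) h
      · intro s _ hs
        exact Finset.sum_eq_zero fun r _ => by rw [if_neg fun h => hs h.1.symm]
      · intro h; exact absurd (Finset.mem_univ _) h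
  have hsym : ∀ s r, C s r + C r s = 0 := by
    have hfun : (fun s r => C s r + C r s) = fun (_ _ : F ≃+* F) => (0 : F) := by
      refine FieldSpan.bicoeff_unique fun y y' => ?_
      have h := hexp (y + y')
      rw [show b * (y + y' + φ (y + y')) = b * (y + φ y) + b * (y' + φ y') by rw [map_add]; ring,
        hexp y, hexp y'] at h
      have hx : ∀ s r : F ≃+* F, C s r * (s (y + y') * r (y + y')) = C s r * (s y * r y) +
          C s r * (s y' * r y') + (C s r * (s y * r y') + C s r * (s y' * r y)) := fun s r => by
        rw [map_add, map_add]; ring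
      simp only [hx, Finset.sum_add_distrib] at h
      simp only [zero_mul, Finset.sum_const_zero, add_mul, Finset.sum_add_distrib]
      have hsw : ∑ s, ∑ r, C r s * (s y * r y') = ∑ s, ∑ r, C s r * (s y' * r y) := by
        rw [Finset.sum_comm]
        exact Finset.sum_congr rfl fun s _ => Finset.sum_congr rfl fun r _ => by ring
      rw [hsw]
      linear_combination -h
    exact fun s r => congrFun (congrFun hfun s) r
  have hlin : (fun s : F ≃+* F => C (fr.symm.trans s) (fr.symm.trans s)) =
      fun s => b * ((if s = RingEquiv.refl F then 1 else 0) + if s = φ then 1 else 0) := by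
    refine FieldSpan.coeff_unique fun y => ?_
    have h := hexp y
    rw [sum_eq_diag C hsym (fun s => s y)] at h
    refine Eq.trans ?_ (h.symm.trans ?_)
    · refine Fintype.sum_equiv ⟨fun s => fr.symm.trans s, fun s => fr.trans s,
        fun s => RingEquiv.ext fun x => by simp, fun s => RingEquiv.ext fun x => by simp⟩ _ _
        fun s => ?_
      show _ = C _ _ * ((fr.symm.trans s) y * (fr.symm.trans s) y)
      rw [← map_mul, ← hfr, RingEquiv.trans_apply, RingEquiv.symm_apply_apply]
      rfl
    · simp [mul_add, add_mul, Finset.sum_add_distrib]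
  -- where diagonal coefficients come from
  have horigin : ∀ g : F ≃+* F, C g g ≠ 0 →
      ∃ t, (t = g ∨ φ.trans t = g) ∧ e g t ≠ 0 := by
    intro g hg
    by_contra hn
    push Not at hn
    refine hg ?_
    simp only [C]
    rw [Finset.sum_eq_zero, Finset.sum_eq_zero, add_zero]
    · intro s' _
      refine Finset.sum_eq_zero fun t _ => if_neg ?_
      rintro ⟨rfl, h⟩
      refine hφ1 (RingEquiv.ext fun x => ?_)
      exact t.injective (RingEquiv.congr_fun h x)
    · intro t _
      by_cases he0 : e g t = 0
      · rw [he0, zero_mul, zero_mul]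
      · rw [if_neg fun h => he0 (hn t (Or.inl h)), if_neg fun h => he0 (hn t (Or.inr h)), add_zero,
          mul_zero]
  set γ : F ≃+* F := fr.symm with hγ
  have hγ2 : ∀ x, γ x * γ x = x := fun x => by
    rw [← map_mul, ← hfr, hγ, RingEquiv.symm_apply_apply]
  have hφω : φ ω ≠ 0 := fun h => hω0 ((EmbeddingLike.map_eq_zero_iff (f := φ)).1 h)
  have hfr1 : fr ≠ RingEquiv.refl F := fun h => by
    refine hcard ?_
    have hall : ∀ x : F, x = 0 ∨ x = 1 := fun x => by
      have := RingEquiv.congr_fun h x
      rw [hfr, RingEquiv.refl_apply] at this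
      by_cases hx : x = 0
      · exact Or.inl hx
      · exact Or.inr (mul_left_cancel₀ hx (this.trans (mul_one x).symm))
    have : Fintype.card F ≤ Fintype.card Bool :=
      Fintype.card_le_of_injective (fun x : F => decide (x = 0)) fun a b e => by
        rcases hall a with rfl | rfl <;> rcases hall b with rfl | rfl <;>
          first | rfl | (simp at e)
    have := Fintype.one_lt_card (α := F)
    simp only [Fintype.card_bool] at *
    omega
  -- the coefficient of `y`
  have h1 : φ.trans φ = γ := by
    have hC : C γ γ ≠ 0 := by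
      have := congrFun hlin (RingEquiv.refl F)
      rw [if_pos rfl, if_neg (Ne.symm hφ1), add_zero, mul_one] at this
      rw [show γ.trans (RingEquiv.refl F) = γ from RingEquiv.ext fun x => rfl] at this
      rw [this]; exact hb
    obtain ⟨t, ht, hne⟩ := horigin γ hC
    have hw := hweight γ t hne
    rcases ht with rfl | ht
    · exfalso
      rw [← mul_assoc, hγ2] at hw
      have h := mul_left_cancel₀ hω0 hw
      refine hfr1 (RingEquiv.ext fun x => ?_)
      have hg : γ = RingEquiv.refl F := RingEquiv.ext fun z => by
        obtain ⟨z', rfl⟩ := φ.surjective z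
        exact RingEquiv.congr_fun (eq_of_gen hgen (s := φ.trans γ) (t := φ) h) z'
      have h2 := RingEquiv.congr_fun hg (fr x)
      rw [hγ, RingEquiv.symm_apply_apply] at h2
      exact h2.symm
    · rw [show t (φ ω) = γ ω from RingEquiv.congr_fun ht ω, mul_comm (t ω), ← mul_assoc, hγ2] at hw
      have h := eq_of_gen hgen (mul_left_cancel₀ hω0 hw)
      rw [h] at ht
      exact ht
  -- the coefficient of `φ y`
  have h2 : φ.trans φ = fr := by
    have hC : C (φ.trans γ) (φ.trans γ) ≠ 0 := by
      have := congrFun hlin φ
      rw [if_neg hφ1, if_pos rfl, zero_add, mul_one] at this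
      have hcomm : fr.symm.trans φ = φ.trans γ := RingEquiv.ext fun x => by
        show φ (fr.symm x) = fr.symm (φ x)
        apply fr.injective
        rw [RingEquiv.apply_symm_apply, hfr, ← map_mul, ← hfr, RingEquiv.apply_symm_apply]
      rw [hcomm] at this
      rw [this]; exact hb
    obtain ⟨t, ht, hne⟩ := horigin _ hC
    have hw := hweight _ t hne
    rcases ht with rfl | ht
    · simp only [RingEquiv.trans_apply] at hw
      rw [← mul_assoc, hγ2, mul_comm ω] at hw
      have h := eq_of_gen hgen (s := (φ.trans φ).trans γ) (t := RingEquiv.refl F)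
        (mul_left_cancel₀ hφω hw)
      refine RingEquiv.ext fun x => ?_
      have := congrArg fr (RingEquiv.congr_fun h x)
      rw [RingEquiv.trans_apply, hγ, RingEquiv.apply_symm_apply] at this
      exact this
    · exfalso
      rw [show t (φ ω) = γ (φ ω) from RingEquiv.congr_fun ht ω] at hw
      simp only [RingEquiv.trans_apply] at hw
      rw [mul_comm (t ω), ← mul_assoc, hγ2, mul_comm ω] at hw
      have h := eq_of_gen hgen (s := t) (t := RingEquiv.refl F) (mul_left_cancel₀ hφω hw)
      rw [h] at ht
      refine hfr1 (RingEquiv.ext fun x => ?_)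
      obtain ⟨z, hz⟩ := φ.surjective (fr x)
      have hzz := RingEquiv.congr_fun ht z
      simp only [RingEquiv.trans_apply, RingEquiv.refl_apply] at hzz
      rw [hz, hγ, RingEquiv.symm_apply_apply] at hzz
      exact hzz
  -- so the field has four elements
  have hF2 : ∀ x, fr (fr x) = x := fun x => by
    conv_lhs => arg 2; rw [← RingEquiv.congr_fun h2 x, RingEquiv.congr_fun h1 x, hγ]
    rw [RingEquiv.apply_symm_apply]
  refine hfr1 (RingEquiv.ext fun x => ?_)
  rw [RingEquiv.refl_apply]
  have hphi : φ x = x ∨ φ x = fr x := by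
    have hsq : (fr x + x) * (fr x + x) = fr x + x := by
      have h4 : fr x * fr x = x := by rw [← hfr, hF2]
      have h3 : x * x = fr x := (hfr x).symm
      have h2' : (fr x + x) * (fr x + x) = fr x * fr x + x * x := by
        have := CharTwo.add_self_eq_zero (x * fr x)
        linear_combination this
      rw [h2', h4, h3, add_comm]
    have hfix : φ (fr x + x) = fr x + x := by
      rcases eq_or_ne (fr x + x) 0 with h0 | h0
      · rw [h0, map_zero]
      · rw [mul_left_cancel₀ h0 (hsq.trans (mul_one _).symm), map_one]
    rw [map_add, show φ (fr x) = fr (φ x) by rw [hfr, hfr, map_mul], hfr, hfr] at hfix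
    have : (φ x + x) * (φ x + x + 1) = 0 := by
      have h1' := CharTwo.add_self_eq_zero (x * x + x)
      have h2' := CharTwo.add_self_eq_zero (φ x * x)
      linear_combination hfix + h1' + h2'
    rcases mul_eq_zero.1 this with h | h
    · exact Or.inl (CharTwo.add_eq_zero.1 h)
    · rw [add_assoc, CharTwo.add_eq_zero] at h
      rcases eq_or_ne (fr x) x with hx | hx
      · left
        exfalso
        have hxx : x * x = x := (hfr x).symm.trans hx
        have h01 : x = 0 ∨ x = 1 := by
          rcases eq_or_ne x 0 with h0 | h0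
          · exact Or.inl h0
          · exact Or.inr (mul_left_cancel₀ h0 (hxx.trans (mul_one x).symm))
        rcases h01 with rfl | rfl <;> simp at h
      · right
        have h0 : fr x + x ≠ 0 := fun e => hx (CharTwo.add_eq_zero.1 e)
        rw [h, ← mul_left_cancel₀ h0 (hsq.trans (mul_one _).symm)]
        have := CharTwo.add_self_eq_zero x
        linear_combination this
  have hφfr : φ (φ x) = fr x := RingEquiv.congr_fun h2 x
  rcases hphi with h | h
  · rw [h, h] at hφfr
    exact hφfr.symm
  · rw [h, show φ (fr x) = fr (φ x) by rw [hfr, hfr, map_mul], h, hF2] at hφfr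
    exact hφfr.symm

end CfsgLib.SuzTop
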