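import Cfsg.Agent.Suz.Coord
import Cfsg.Agent.Suz.Monomial

/-!
If the derived subgroup has index `e + 1` then it is the centre.
-/

set_option autoImplicit false
set_option linter.unusedSectionVars false
set_option linter.style.haveILetI false

namespace CfsgLib.SuzTop

open Subgroup
open scoped commutatorElement

variable {U : Type*} [Group U]

local notation "ζ" => Subgroup.upperCentralSeries U

theorem ucs_stable {j : ℕ} (h : ζ (j + 1) ≤ ζ j) : ∀ i, ζ (j + i) ≤ ζ j := by
  intro i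
  induction i with
  | zero => exact le_rfl
  | succ i ih =>
    intro x hx
    refine h (Subgroup.mem_upperCentralSeries_succ_iff.2 fun y => ih ?_)
    exact Subgroup.mem_upperCentralSeries_succ_iff.1 hx y

theorem commutator_le_ucs_of_top {j : ℕ} (h : ζ (j + 1) = ⊤) : commutator U ≤ ζ j := by
  rw [_root_.commutator_def, commutator_le]
  intro x _ y _
  exact Subgroup.mem_upperCentralSeries_succ_iff.1 (h ▸ mem_top x) y

variable [Finite U] {α : MulAut U} {e : ℕ}

theorem inv_commutator (α : MulAut U) : Inv α (commutator U) :=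
  haveI : (commutator U).Characteristic := Subgroup.commutator_characteristic ⊤ ⊤
  inv_of_characteristic _

theorem inv_ucs (α : MulAut U) (j : ℕ) : Inv α (ζ j) := inv_of_characteristic _

variable (D : Frame α e)
include D

/-- Squaring bounds each layer by the one below. -/
theorem Frame.relIndex_ucs_le {j : ℕ} (hN : ζ (j + 2) ≤ commutator U) :
    (ζ (j + 1)).relIndex (ζ (j + 2)) ≤ (ζ j).relIndex (ζ (j + 1)) := by
  classical
  show Nat.card (ζ (j + 2) ⧸ (ζ (j + 1)).subgroupOf (ζ (j + 2))) ≤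
    Nat.card (ζ (j + 1) ⧸ (ζ j).subgroupOf (ζ (j + 1)))
  refine Nat.card_le_card_of_injective (fun c => QuotientGroup.mk
    (⟨(c.out : U) * c.out, D.ucs_sq (j + 1) c.out.2⟩ : ζ (j + 1))) fun c d h => ?_
  have h' : ((c.out : U) * c.out)⁻¹ * ((d.out : U) * d.out) ∈ ζ j :=
    Subgroup.mem_subgroupOf.1 (QuotientGroup.eq.1 h)
  rw [← Quotient.out_eq c, ← Quotient.out_eq d]
  refine QuotientGroup.eq.2 (Subgroup.mem_subgroupOf.2 ?_)
  set x : U := (c.out : U)
  set y : U := (d.out : U)
  have hx : x ∈ ζ (j + 2) := c.out.2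
  have hy : y ∈ ζ (j + 2) := d.out.2
  refine D.ucs_sq_inj j (mul_mem (inv_mem (hN hx)) (hN hy)) (mul_mem (inv_mem hx) hy) ?_
  set π := QuotientGroup.mk' (ζ j)
  have hcomm : π x * π y = π y * π x := by
    rw [← commutatorElement_eq_one_iff_mul_comm]
    exact (map_commutatorElement π x y).symm.trans
      ((QuotientGroup.eq_one_iff _).2 (commutator_comm_ucs j (hN hx) hy))
  have hc' : (π x)⁻¹ * π y = π y * (π x)⁻¹ := by
    have hh := congrArg (fun z => (π x)⁻¹ * z * (π x)⁻¹) hcomm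
    simp only [mul_assoc, inv_mul_cancel_left, mul_inv_cancel, mul_one] at hh
    exact hh.symm
  refine (QuotientGroup.eq_one_iff _).1 ?_
  show π (x⁻¹ * y * (x⁻¹ * y)) = 1
  have h1 : π ((x * x)⁻¹ * (y * y)) = 1 := (QuotientGroup.eq_one_iff _).2 h'
  rw [← h1]
  simp only [map_mul, map_inv]
  calc (π x)⁻¹ * π y * ((π x)⁻¹ * π y) = (π x)⁻¹ * (π y * (π x)⁻¹) * π y := by group
    _ = (π x)⁻¹ * ((π x)⁻¹ * π y) * π y := by rw [← hc']
    _ = (π x * π x)⁻¹ * (π y * π y) := by group

/-- The top configuration of class three does not occur. -/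
theorem Frame.no_class_three (hidx : (commutator U).index = e + 1) {k : ℕ}
    (hN : ζ (k + 2) = commutator U) (hlt : ¬ commutator U ≤ ζ (k + 1))
    (hX : (ζ k).relIndex (ζ (k + 1)) = e + 1)
    (hW : (ζ (k + 1)).relIndex (ζ (k + 2)) = e + 1) : False := by
  classical
  set N := commutator U with hNdef
  have hNi : Inv α N := inv_commutator α
  obtain ⟨F, iF, iT, iC, fV, ω, hVadd, hVker, hVsurj, hVα, hgen, hFcard⟩ :=
    D.exists_coord (A := N) (B := ⊤) hNi (fun _ _ => mem_top _) le_top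
      (by rw [Subgroup.relIndex_top_right, hidx])
  letI := iF; letI := iT
  haveI : (ζ (k + 1)).Normal := inferInstance
  obtain ⟨F', iF', iT', iC', fW', ω', hWadd, hWker, hWsurj, hWα, -, hFcard'⟩ :=
    D.exists_coord (A := ζ (k + 1)) (B := ζ (k + 2)) (inv_ucs α _) (inv_ucs α _)
      (ucs_le_succ (k + 1)) hW
  letI := iF'; letI := iT'
  let θ : F' ≃+* F := FiniteField.ringEquivOfCardEq (hFcard'.trans hFcard.symm)
  let fW : U → F := fun u => θ (fW' u)
  set ν : F := θ ω'
  have hN' : ∀ {x : U}, x ∈ N → x ∈ ζ (k + 2) := fun hx => hN.symm ▸ hx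
  have wadd : ∀ {x y : U}, x ∈ N → y ∈ N → fW (x * y) = fW x + fW y := fun hx hy => by
    simp only [fW]; rw [hWadd _ (hN' hx) _ (hN' hy), map_add]
  have wker : ∀ {x : U}, x ∈ N → (fW x = 0 ↔ x ∈ ζ (k + 1)) := fun {x} hx => by
    simp only [fW]; rw [EmbeddingLike.map_eq_zero_iff, hWker x (hN' hx)]
  have wα : ∀ {x : U}, x ∈ N → fW (α x) = ν * fW x := fun {x} hx => by
    simp only [fW, ν]; rw [hWα x (hN' hx), map_mul]
  have wone : fW 1 = 0 := (wker (one_mem N)).2 (one_mem _)
  have wcongr : ∀ {x y : U}, x ∈ N → y ∈ N → x⁻¹ * y ∈ ζ (k + 1) → fW x = fW y := by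
    intro x y hx hy h
    conv_rhs => rw [show y = x * (x⁻¹ * y) by group]
    rw [wadd hx (mul_mem (inv_mem hx) hy), (wker (mul_mem (inv_mem hx) hy)).2 h, add_zero]
  have winv : ∀ {x : U}, x ∈ N → fW x⁻¹ = fW x := fun {x} hx => by
    have h := wadd (inv_mem hx) hx
    rw [inv_mul_cancel, wone] at h
    exact CharTwo.add_eq_zero.1 h.symm
  have hcommN : ∀ x y : U, ⁅x, y⁆ ∈ N := fun x y => by
    rw [hNdef, _root_.commutator_def]; exact commutator_mem_commutator (mem_top x) (mem_top y)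
  have hsqN : ∀ x : U, x * x ∈ N := fun x =>
    D.sq_mem hNi (B := ⊤) (fun _ _ => mem_top _) le_top (by rw [Subgroup.relIndex_top_right, hidx])
      (mem_top x)
  -- the layer `X`
  have hroot : ∀ z ∈ ζ (k + 1), ∃ b ∈ N, (b * b)⁻¹ * z ∈ ζ k := by
    let sq : ζ (k + 2) ⧸ (ζ (k + 1)).subgroupOf (ζ (k + 2)) →
        ζ (k + 1) ⧸ (ζ k).subgroupOf (ζ (k + 1)) := fun c =>
      QuotientGroup.mk ⟨(c.out : U) * c.out, D.ucs_sq (k + 1) c.out.2⟩
    have hinj : Function.Injective sq := by
      intro c d h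
      have h' : ((c.out : U) * c.out)⁻¹ * ((d.out : U) * d.out) ∈ ζ k :=
        Subgroup.mem_subgroupOf.1 (QuotientGroup.eq.1 h)
      rw [← Quotient.out_eq c, ← Quotient.out_eq d]
      refine QuotientGroup.eq.2 (Subgroup.mem_subgroupOf.2 ?_)
      have hx : (c.out : U) ∈ ζ (k + 2) := c.out.2
      have hy : (d.out : U) ∈ ζ (k + 2) := d.out.2
      refine D.ucs_sq_inj k (mul_mem (inv_mem (hN.le hx)) (hN.le hy)) (mul_mem (inv_mem hx) hy) ?_
      set π := QuotientGroup.mk' (ζ k)
      set x : U := (c.out : U)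
      set y : U := (d.out : U)
      have hcomm : Commute (π x) (π y) := by
        rw [← commutatorElement_eq_one_iff_commute]
        exact (map_commutatorElement π x y).symm.trans
          ((QuotientGroup.eq_one_iff _).2 (commutator_comm_ucs k (hN.le hx) hy))
      refine (QuotientGroup.eq_one_iff _).1 ?_
      show π (x⁻¹ * y * (x⁻¹ * y)) = 1
      rw [← (show π ((x * x)⁻¹ * (y * y)) = 1 from (QuotientGroup.eq_one_iff _).2 h')]
      simp only [map_mul, map_inv]
      calc (π x)⁻¹ * π y * ((π x)⁻¹ * π y) = (π x)⁻¹ * (π y * (π x)⁻¹) * π y := by group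
        _ = (π x)⁻¹ * ((π x)⁻¹ * π y) * π y := by rw [hcomm.inv_left.eq]
        _ = (π x * π x)⁻¹ * (π y * π y) := by group
    have hsurj := (hinj.bijective_of_nat_card_le (le_of_eq (hX.trans hW.symm))).2
    intro z hz
    obtain ⟨c, hc⟩ := hsurj (QuotientGroup.mk ⟨z, hz⟩)
    exact ⟨(c.out : U), hN.le c.out.2, Subgroup.mem_subgroupOf.1 (QuotientGroup.eq.1 hc)⟩
  choose! rt hrtN hrt using hroot
  let fX : U → F := fun z => fW (rt z)
  have sqcongr : ∀ {x y : U}, x ∈ N → y ∈ N → (x * x)⁻¹ * (y * y) ∈ ζ k → fW x = fW y := by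
    intro x y hx hy h'
    refine wcongr hx hy ?_
    refine D.ucs_sq_inj k (mul_mem (inv_mem hx) hy) (mul_mem (inv_mem (hN' hx)) (hN' hy)) ?_
    set π := QuotientGroup.mk' (ζ k)
    have hcomm : Commute (π x) (π y) := by
      rw [← commutatorElement_eq_one_iff_commute]
      exact (map_commutatorElement π x y).symm.trans
        ((QuotientGroup.eq_one_iff _).2 (commutator_comm_ucs k hx (hN' hy)))
    refine (QuotientGroup.eq_one_iff _).1 ?_
    show π (x⁻¹ * y * (x⁻¹ * y)) = 1
    rw [← (show π ((x * x)⁻¹ * (y * y)) = 1 from (QuotientGroup.eq_one_iff _).2 h')]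
    simp only [map_mul, map_inv]
    calc (π x)⁻¹ * π y * ((π x)⁻¹ * π y) = (π x)⁻¹ * (π y * (π x)⁻¹) * π y := by group
      _ = (π x)⁻¹ * ((π x)⁻¹ * π y) * π y := by rw [hcomm.inv_left.eq]
      _ = (π x * π x)⁻¹ * (π y * π y) := by group
  have xeq : ∀ {b z : U}, b ∈ N → z ∈ ζ (k + 1) → (b * b)⁻¹ * z ∈ ζ k → fX z = fW b := by
    intro b z hb hz h
    refine sqcongr (hrtN z hz) hb ?_
    have := mul_mem (hrt z hz) (inv_mem h)
    rwa [show (rt z * rt z)⁻¹ * z * ((b * b)⁻¹ * z)⁻¹ = (rt z * rt z)⁻¹ * (b * b) by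
      simp [mul_assoc]] at this
  have xsq : ∀ {b : U}, b ∈ N → fX (b * b) = fW b := fun {b} hb =>
    xeq hb (D.ucs_sq (k + 1) (hN' hb)) (by rw [inv_mul_cancel]; exact one_mem _)
  have hkk : ∀ {z : U}, z ∈ ζ k → z ∈ ζ (k + 1) := fun hz => ucs_le_succ k hz
  have xcongr : ∀ {z z' : U}, z ∈ ζ (k + 1) → z' ∈ ζ (k + 1) → z⁻¹ * z' ∈ ζ k → fX z = fX z' := by
    intro z z' hz hz' h
    refine (xeq (hrtN z hz) hz' ?_).symm
    rw [show (rt z * rt z)⁻¹ * z' = (rt z * rt z)⁻¹ * z * (z⁻¹ * z') by group]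
    exact mul_mem (hrt z hz) h
  have xzero : ∀ {z : U}, z ∈ ζ k → fX z = 0 := fun {z} hz => by
    rw [xeq (one_mem N) (hkk hz) (by simpa using hz), wone]
  have xadd : ∀ {z z' : U}, z ∈ ζ (k + 1) → z' ∈ ζ (k + 1) → fX (z * z') = fX z + fX z' := by
    intro z z' hz hz'
    set π := QuotientGroup.mk' (ζ k)
    have hb := hrtN z hz
    have hb' := hrtN z' hz'
    show _ = fW (rt z) + fW (rt z')
    rw [← wadd hb hb']
    refine xeq (mul_mem hb hb') (mul_mem hz hz') ?_
    refine (QuotientGroup.eq_one_iff _).1 ?_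
    show π ((rt z * rt z' * (rt z * rt z'))⁻¹ * (z * z')) = 1
    have e1 : π z = π (rt z) * π (rt z) := by
      rw [← map_mul]; exact (QuotientGroup.eq.2 (hrt z hz)).symm
    have e2 : π z' = π (rt z') * π (rt z') := by
      rw [← map_mul]; exact (QuotientGroup.eq.2 (hrt z' hz')).symm
    have hcomm : Commute (π (rt z)) (π (rt z')) := by
      rw [← commutatorElement_eq_one_iff_commute]
      exact (map_commutatorElement π _ _).symm.trans
        ((QuotientGroup.eq_one_iff _).2 (commutator_comm_ucs k hb (hN' hb')))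
    simp only [map_mul, map_inv, e1, e2]
    rw [show π (rt z) * π (rt z') * (π (rt z) * π (rt z')) =
      π (rt z) * (π (rt z') * π (rt z)) * π (rt z') by group, ← hcomm.eq]
    group
  have xα : ∀ {z : U}, z ∈ ζ (k + 1) → fX (α z) = ν * fX z := by
    intro z hz
    show _ = ν * fW (rt z)
    rw [← wα (hrtN z hz)]
    refine xeq (hNi _ (hrtN z hz)) (inv_ucs α _ _ hz) ?_
    have := inv_ucs α k _ (hrt z hz)
    rwa [map_mul, map_inv, map_mul] at this
  -- commutators on `U`
  have hconjW : ∀ (g : U) {c : U}, c ∈ N → fW (g * c * g⁻¹) = fW c := by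
    intro g c hc
    refine (wcongr hc ?_ ?_).symm
    · exact (inferInstance : N.Normal).conj_mem c hc g
    · rw [show c⁻¹ * (g * c * g⁻¹) = ⁅c⁻¹, g⁆ by simp [commutatorElement_def, mul_assoc]]
      exact Subgroup.mem_upperCentralSeries_succ_iff.1 (hN' (inv_mem hc)) g
  have hconjX : ∀ (g : U) {c : U}, c ∈ ζ (k + 1) → fX (g * c * g⁻¹) = fX c := by
    intro g c hc
    refine (xcongr hc ?_ ?_).symm
    · exact (inferInstance : (ζ (k + 1)).Normal).conj_mem c hc g
    · rw [show c⁻¹ * (g * c * g⁻¹) = ⁅c⁻¹, g⁆ by simp [commutatorElement_def, mul_assoc]]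
      exact Subgroup.mem_upperCentralSeries_succ_iff.1 (inv_mem hc) g
  let Bf : U → U → F := fun x y => fW ⁅x, y⁆
  have hBl : ∀ x y z, Bf (x * y) z = Bf x z + Bf y z := by
    intro x y z
    simp only [Bf]
    rw [show ⁅x * y, z⁆ = (x * ⁅y, z⁆ * x⁻¹) * ⁅x, z⁆ by simp only [commutatorElement_def]; group,
      wadd ((inferInstance : N.Normal).conj_mem _ (hcommN y z) x) (hcommN x z),
      hconjW x (hcommN y z), add_comm]
  have hBr : ∀ x y z, Bf x (y * z) = Bf x y + Bf x z := by
    intro x y z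
    simp only [Bf]
    rw [show ⁅x, y * z⁆ = ⁅x, y⁆ * (y * ⁅x, z⁆ * y⁻¹) by simp only [commutatorElement_def]; group,
      wadd (hcommN x y) ((inferInstance : N.Normal).conj_mem _ (hcommN x z) y),
      hconjW y (hcommN x z)]
  have hBn : ∀ {n : U}, n ∈ N → ∀ z, Bf n z = 0 ∧ Bf z n = 0 := by
    intro n hn z
    exact ⟨(wker (hcommN n z)).2 (Subgroup.mem_upperCentralSeries_succ_iff.1 (hN' hn) z),
      (wker (hcommN z n)).2 (ucs_mem_comm (hN' hn) z)⟩
  have hTmem : ∀ (y : U) {c : U}, c ∈ N → ⁅y, c⁆ ∈ ζ (k + 1) := fun y c hc =>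
    ucs_mem_comm (hN' hc) y
  let Tf : U → U → F := fun y c => fX ⁅y, c⁆
  have hTl : ∀ x y, ∀ {c : U}, c ∈ N → Tf (x * y) c = Tf x c + Tf y c := by
    intro x y c hc
    simp only [Tf]
    rw [show ⁅x * y, c⁆ = (x * ⁅y, c⁆ * x⁻¹) * ⁅x, c⁆ by simp only [commutatorElement_def]; group,
      xadd ((inferInstance : (ζ (k + 1)).Normal).conj_mem _ (hTmem y hc) x) (hTmem x hc),
      hconjX x (hTmem y hc), add_comm]
  have hTr : ∀ y, ∀ {c d : U}, c ∈ N → d ∈ N → Tf y (c * d) = Tf y c + Tf y d := by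
    intro y c d hc hd
    simp only [Tf]
    rw [show ⁅y, c * d⁆ = ⁅y, c⁆ * (c * ⁅y, d⁆ * c⁻¹) by simp only [commutatorElement_def]; group,
      xadd (hTmem y hc) ((inferInstance : (ζ (k + 1)).Normal).conj_mem _ (hTmem y hd) c),
      hconjX c (hTmem y hd)]
  -- the coordinates
  choose sV hsV hsVf using hVsurj
  have hWsurj' : ∀ a : F, ∃ c ∈ N, fW c = a := fun a => by
    obtain ⟨c, hc, hcv⟩ := hWsurj (θ.symm a)
    exact ⟨c, hN.le hc, by simp only [fW]; rw [hcv, RingEquiv.apply_symm_apply]⟩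
  choose sW hsW hsWf using hWsurj'
  have hVcongr : ∀ {x y : U}, fV x = fV y → x⁻¹ * y ∈ N := by
    intro x y h
    refine (hVker _ (mem_top _)).1 ?_
    have h1 := hVadd x (mem_top _) (x⁻¹ * y) (mem_top _)
    rw [mul_inv_cancel_left, ← h] at h1
    exact left_eq_add.1 h1
  have hBcl : ∀ {x x' : U}, fV x = fV x' → ∀ y, Bf x y = Bf x' y ∧ Bf y x = Bf y x' := by
    intro x x' h y
    rw [show x' = x * (x⁻¹ * x') by group, hBl, hBr, (hBn (hVcongr h) y).1, (hBn (hVcongr h) y).2]
    simp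
  have hTcl : ∀ {x x' : U}, fV x = fV x' → ∀ {c : U}, c ∈ N → Tf x c = Tf x' c := by
    intro x x' h c hc
    rw [show x' = x * (x⁻¹ * x') by group, hTl _ _ hc]
    have : Tf (x⁻¹ * x') c = 0 := xzero (commutator_comm_ucs k (hVcongr h) (hN' hc))
    rw [this, add_zero]
  have hTcr : ∀ y, ∀ {c c' : U}, c ∈ N → c' ∈ N → fW c = fW c' → Tf y c = Tf y c' := by
    intro y c c' hc hc' h
    have hcc : c⁻¹ * c' ∈ N := mul_mem (inv_mem hc) hc'
    rw [show c' = c * (c⁻¹ * c') by group, hTr y hc hcc]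
    have hk1 : c⁻¹ * c' ∈ ζ (k + 1) := by
      refine (wker hcc).1 ?_
      rw [wadd (inv_mem hc) hc', winv hc, h, CharTwo.add_self_eq_zero]
    have : Tf y (c⁻¹ * c') = 0 := xzero (ucs_mem_comm hk1 y)
    rw [this, add_zero]
  have vadd : ∀ a b : F, fV (sV (a + b)) = fV (sV a * sV b) := fun a b => by
    rw [hsVf, hVadd _ (mem_top _) _ (mem_top _), hsVf, hsVf]
  have wadd' : ∀ a b : F, fW (sW (a + b)) = fW (sW a * sW b) := fun a b => by
    rw [hsWf, wadd (hsW a) (hsW b), hsWf, hsWf]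
  let B : F →+ F →+ F := AddMonoidHom.mk'
    (fun a => AddMonoidHom.mk' (fun b => Bf (sV a) (sV b))
      fun b b' => by rw [(hBcl (vadd b b') (sV a)).2, hBr])
    fun a a' => AddMonoidHom.ext fun b => by
      show Bf (sV (a + a')) (sV b) = Bf (sV a) (sV b) + Bf (sV a') (sV b)
      rw [(hBcl (vadd a a') (sV b)).1, hBl]
  let T : F →+ F →+ F := AddMonoidHom.mk'
    (fun a => AddMonoidHom.mk' (fun w => Tf (sV a) (sW w))
      fun w w' => by rw [hTcr _ (hsW _) (mul_mem (hsW w) (hsW w')) (wadd' w w'), hTr _ (hsW w) (hsW w')])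
    fun a a' => AddMonoidHom.ext fun w => by
      show Tf (sV (a + a')) (sW w) = Tf (sV a) (sW w) + Tf (sV a') (sW w)
      rw [hTcl (vadd a a') (hsW w), hTl _ _ (hsW w)]
  have hQcl : ∀ {x x' : U}, fV x = fV x' → fW (x * x) = fW (x' * x') := by
    intro x x' h
    set n := x⁻¹ * x'
    have hn : n ∈ N := hVcongr h
    rw [show x' * x' = (x * x) * ((x⁻¹ * n * x⁻¹⁻¹) * n) by simp only [n]; group,
      wadd (hsqN x) (mul_mem ((inferInstance : N.Normal).conj_mem n hn x⁻¹) hn),
      wadd ((inferInstance : N.Normal).conj_mem n hn x⁻¹) hn, hconjW _ hn,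
      CharTwo.add_self_eq_zero, add_zero]
  let Q : F → F := fun a => fW (sV a * sV a)
  have hpolar : ∀ a b, Q (a + b) = Q a + Q b + B a b := by
    intro a b
    show fW (sV (a + b) * sV (a + b)) = fW (sV a * sV a) + fW (sV b * sV b) + Bf (sV a) (sV b)
    rw [hQcl (vadd a b)]
    set x := sV a
    set y := sV b
    rw [show x * y * (x * y) = (x * x) * ((x⁻¹ * ⁅y, x⁆ * x⁻¹⁻¹) * (y * y)) by
        simp only [commutatorElement_def]; group,
      wadd (hsqN x) (mul_mem ((inferInstance : N.Normal).conj_mem _ (hcommN y x) _) (hsqN y)),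
      wadd ((inferInstance : N.Normal).conj_mem _ (hcommN y x) _) (hsqN y), hconjW _ (hcommN y x)]
    show _ = _ + _ + fW ⁅x, y⁆
    rw [← commutatorElement_inv y x, winv (hcommN y x)]
    ring
  have vω : ∀ a, fV (sV (ω * a)) = fV (α (sV a)) := fun a => by
    rw [hsVf, hVα _ (mem_top _), hsVf]
  have hB : ∀ a b, B (ω * a) (ω * b) = ν * B a b := fun a b => by
    show Bf (sV (ω * a)) (sV (ω * b)) = ν * fW ⁅sV a, sV b⁆
    rw [(hBcl (vω a) _).1, (hBcl (vω b) _).2]
    show fW ⁅α (sV a), α (sV b)⁆ = _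
    rw [← map_commutatorElement, wα (hcommN _ _)]
  have hQ : ∀ a, Q (ω * a) = ν * Q a := fun a => by
    show fW (sV (ω * a) * sV (ω * a)) = ν * fW (sV a * sV a)
    rw [hQcl (vω a), ← map_mul, wα (hsqN _)]
  have hT : ∀ a w, T (ω * a) (ν * w) = ν * T a w := fun a w => by
    show Tf (sV (ω * a)) (sW (ν * w)) = ν * fX ⁅sV a, sW w⁆
    rw [hTcl (vω a) (hsW _), hTcr _ (hsW _) (hNi _ (hsW w)) (by rw [hsWf, wα (hsW w), hsWf])]
    show fX ⁅α (sV a), α (sW w)⁆ = _
    rw [← map_commutatorElement, xα (hTmem _ (hsW w))]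
  have hid : ∀ a b, B a b + T a (B a b) = T b (Q a) := by
    intro a b
    set y := sV a
    set z := sV b
    set c := ⁅y, z⁆ with hc
    have hcN : c ∈ N := hcommN y z
    have hQN : y * y ∈ N := hsqN y
    show fW c + Tf y (sW (fW c)) = Tf z (sW (fW (y * y)))
    rw [hTcr y (hsW _) hcN (hsWf _), hTcr z (hsW _) hQN (hsWf _)]
    have h1 : fX ⁅y * y, z⁆ = Tf y c + fW c := by
      rw [show ⁅y * y, z⁆ = ⁅y, c⁆ * (c * c) by rw [hc]; simp only [commutatorElement_def]; group,
        xadd (hTmem y hcN) (D.ucs_sq (k + 1) (hN' hcN)), xsq hcN]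
    have hmem : ⁅z, y * y⁆ ∈ ζ (k + 1) := hTmem z hQN
    have h2 : fX ⁅y * y, z⁆ = fX ⁅z, y * y⁆ := by
      rw [← commutatorElement_inv z (y * y)]
      have h := xadd (inv_mem hmem) hmem
      rw [inv_mul_cancel, xzero (one_mem _)] at h
      exact CharTwo.add_eq_zero.1 h.symm
    show _ = fX ⁅z, y * y⁆
    rw [← h2, h1, add_comm]
  have hB0 : B ≠ 0 := by
    intro h0
    refine hlt ?_
    rw [hNdef, _root_.commutator_def, commutator_le]
    intro x _ y _
    refine (wker (hcommN x y)).1 ?_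
    have e0 : Bf (sV (fV x)) (sV (fV y)) = 0 := by
      show B (fV x) (fV y) = 0
      rw [h0]; rfl
    rwa [(hBcl (hsVf (fV x)) _).1, (hBcl (hsVf (fV y)) _).2] at e0
  exact class_three_false hgen (by rw [hFcard]; have := D.three_le; omega) B T Q ν hpolar hB0 hB hQ
    hT hid

/-- If the derived subgroup has index `e + 1`, it is the centre and the order is a square. -/
theorem Frame.card_of_index_eq (hidx : (commutator U).index = e + 1) (hne : commutator U ≠ ⊥) :
    Nat.card U = (e + 1) ^ 2 ∧ commutator U = center U := by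
  classical
  haveI : Group.IsNilpotent U := by
    haveI : Fact (Nat.Prime 2) := ⟨Nat.prime_two⟩
    exact D.isPGroup.isNilpotent
  have hex : ∃ m, commutator U ≤ ζ m := by
    obtain ⟨c, hc⟩ := ‹Group.IsNilpotent U›.nilpotent'
    exact ⟨c, hc ▸ le_top⟩
  set m := Nat.find hex
  have hm : commutator U ≤ ζ m := Nat.find_spec hex
  rcases Nat.lt_or_ge m 2 with hm2 | hm2
  · have hle : commutator U ≤ center U := by
      rw [← Subgroup.upperCentralSeries_one U]
      exact hm.trans (Subgroup.upperCentralSeries_mono U (by omega))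
    have heq : commutator U = center U := by
      refine le_antisymm hle (Subgroup.relIndex_eq_one.1 ?_)
      by_contra hr
      have hb : Inv α (⊥ : Subgroup U) := fun x hx => by
        rw [mem_bot] at hx ⊢; rw [hx, map_one]
      have h1 := D.lt_relIndex hb (inv_commutator α) (bot_lt_iff_ne_bot.2 hne)
      have h2 := D.lt_relIndex (inv_commutator α) (inv_of_characteristic (center U))
        (lt_of_le_of_ne hle fun h => hr (by rw [h, Subgroup.relIndex_self]))
      have hmul := Subgroup.relIndex_mul_relIndex (⊥ : Subgroup U) (commutator U) (center U) bot_le hle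
      simp only [Subgroup.relIndex_bot_left] at hmul h1
      rw [D.card_center] at hmul
      have := Nat.mul_le_mul h1 h2
      rw [hmul] at this
      have := D.three_le
      nlinarith
    refine ⟨?_, heq⟩
    rw [← (commutator U).card_mul_index, hidx, heq, D.card_center, sq]
  · exfalso
    obtain ⟨k, hk⟩ : ∃ k, m = k + 2 := ⟨m - 2, by omega⟩
    rw [hk] at hm
    have hmin : ∀ j, j < k + 2 → ¬ commutator U ≤ ζ j := fun j hj => Nat.find_min hex (show j < m by omega)
    have hN : ζ (k + 2) = commutator U := by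
      refine le_antisymm (Subgroup.relIndex_eq_one.1 ?_) hm
      have hne' : ζ (k + 2) ≠ ⊤ := fun h =>
        hmin (k + 1) (by omega) (commutator_le_ucs_of_top h)
      have h1 := D.lt_relIndex (inv_ucs α (k + 2)) (fun _ _ => mem_top _) hne'.lt_top
      have hmul := Subgroup.relIndex_mul_relIndex (commutator U) (ζ (k + 2)) ⊤ hm le_top
      simp only [Subgroup.relIndex_top_right] at hmul h1
      rw [hidx] at hmul
      have hr : (commutator U).relIndex (ζ (k + 2)) ≠ 0 := fun h => by rw [h, zero_mul] at hmul; omega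
      have := Nat.mul_le_mul_left ((commutator U).relIndex (ζ (k + 2))) h1
      rw [hmul] at this
      have : (commutator U).relIndex (ζ (k + 2)) ≤ 1 := by
        by_contra hc
        have := Nat.mul_le_mul (show 2 ≤ (commutator U).relIndex (ζ (k + 2)) by omega) (le_refl (e + 1))
        omega
      omega
    have hstrict : ∀ j ≤ k + 1, ζ j < ζ (j + 1) := by
      intro j hj
      refine lt_of_le_of_ne (ucs_le_succ j) fun h => hmin (k + 1) (by omega) ?_
      refine hm.trans (le_trans ?_ (Subgroup.upperCentralSeries_mono U hj))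
      obtain ⟨i, hi⟩ := Nat.exists_eq_add_of_le (show j ≤ k + 2 by omega)
      rw [hi]; exact ucs_stable h.ge i
    have hrel : ∀ j ≤ k + 1, (ζ j).relIndex (ζ (j + 1)) = e + 1 := by
      intro j
      induction j with
      | zero =>
        intro _
        rw [Subgroup.upperCentralSeries_zero, Nat.zero_add, Subgroup.upperCentralSeries_one,
          Subgroup.relIndex_bot_left, D.card_center]
      | succ j ih =>
        intro hj
        refine le_antisymm ?_ (D.lt_relIndex (inv_ucs α _) (inv_ucs α _) (hstrict _ hj))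
        rw [← ih (by omega)]
        exact D.relIndex_ucs_le ((Subgroup.upperCentralSeries_mono U (by omega)).trans hN.le)
    exact D.no_class_three hidx hN (hmin (k + 1) (by omega)) (hrel k (by omega))
      (hrel (k + 1) le_rfl)

end CfsgLib.SuzTop
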