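import Cfsg.Agent.Suz.Setup
import Cfsg.Agent.Char.Linear
import Cfsg.Agent.Char.Kernel

/-!
Characters induced from linear characters of the kernel.
-/

set_option autoImplicit false
set_option linter.unusedSectionVars false
set_option linter.style.haveILetI false

namespace CfsgLib.SuzTop

open MulAction CfsgLib.Char
open scoped ComplexConjugate

variable {G Ω : Type*} [Group G] [Fintype G] [MulAction G Ω] [Fintype Ω]
variable {a b : Ω} {U : Subgroup G} {g₀ : G} {α : MulAut U} {e : ℕ}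

/-- The character induced from a linear character of the kernel. -/
noncomputable def linInd (μ : U →* ℂˣ) : G → ℂ := Cfsg.indFun U fun u => (μ u : ℂ)

/-- The multiplicity of a linear character in a restriction to the kernel. -/
noncomputable def linMult [Fintype U] (χ : G → ℂ) (μ : U →* ℂˣ) : ℂ :=
  Cfsg.classInner (fun u : U => χ u) fun u => (μ u : ℂ)

theorem linMult_eq [Fintype U] {χ : G → ℂ} (hχ : Cfsg.IsClassFunction G χ) (μ : U →* ℂˣ) :
    linMult χ μ = Cfsg.classInner χ (linInd μ) := by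
  rw [linMult, linInd, classInner_indFun_right hχ]

theorem linMult_nat [Fintype U] {χ : G → ℂ} (hχ : Cfsg.IsCharacter G χ) (μ : U →* ℂˣ) :
    ∃ n : ℕ, linMult χ μ = n :=
  IsCharacter.exists_classInner_eq_natCast' (IsCharacter.restrict hχ U)
    (IsIrrCharacter.isCharacter (isIrrCharacter_ofHom μ))

theorem Cfg.card_stab (C : Cfg a b U g₀ α e) : Nat.card (stabilizer G a) = Nat.card U * e := by
  rw [zass_card_stab C.zass C.hab, ← C.card, Nat.add_sub_cancel, C.card_pair]

theorem Cfg.card_group (C : Cfg a b U g₀ α e) :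
    Nat.card G = (Nat.card U + 1) * (Nat.card U * e) := by
  rw [zass_card_group C.zass C.hab, ← C.card, Nat.add_sub_cancel, C.card_pair]

theorem Cfg.index_eq (C : Cfg a b U g₀ α e) : U.index = e * (Nat.card U + 1) := by
  refine Nat.eq_of_mul_eq_mul_left (Nat.card_pos (α := U)) ?_
  rw [U.card_mul_index, C.card_group]
  ring

theorem Cfg.conj_mem_class (C : Cfg a b U g₀ α e) {χ : G → ℂ} (hχ : Cfsg.IsClassFunction G χ)
    (i : ℕ) (u : U) : χ ((α ^ i) u : U) = χ u := by
  rw [conj_pow C.conj, ← hχ u (g₀ ^ i)]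

/-- A linear character fixed by a power of the automorphism is trivial. -/
theorem Cfg.hom_free (C : Cfg a b U g₀ α e) {μ : U →* ℂˣ} (hμ : μ ≠ 1) {i j : Fin e}
    (h : ∀ u, μ ((α ^ (i : ℕ)) u) = μ ((α ^ (j : ℕ)) u)) : i = j := by
  wlog hij : (i : ℕ) ≤ j generalizing i j
  · exact (this (fun u => (h u).symm) (by omega)).symm
  obtain ⟨d, hd⟩ := Nat.exists_eq_add_of_le hij
  rcases Nat.eq_zero_or_pos d with rfl | hd0
  · exact Fin.ext (by omega)
  exfalso
  refine hμ (MonoidHom.ext fun w => ?_)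
  have hinj : Function.Injective (fun x : U => x⁻¹ * (α ^ d) x) := by
    intro u v huv
    have h1 : (α ^ d) (u * v⁻¹) = u * v⁻¹ := by
      rw [map_mul, map_inv]
      have := congrArg (fun z => u * z * ((α ^ d) v)⁻¹) huv
      simp only [mul_assoc, mul_inv_cancel_left] at this
      rw [this]; simp
    refine mul_inv_eq_one.1 ((C.frame.free d _ h1).resolve_left fun hdvd => ?_)
    have := Nat.le_of_dvd hd0 hdvd
    have := j.2
    omega
  obtain ⟨x, hx⟩ := (Finite.injective_iff_surjective.1 hinj) w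
  obtain ⟨y, hy⟩ := (α ^ (i : ℕ)).surjective x
  have h' := h y
  rw [hd, add_comm, pow_add, MulAut.mul_apply, hy] at h'
  rw [← hx, map_mul, ← h', map_inv, inv_mul_cancel, MonoidHom.one_apply]

theorem Cfg.linInd_apply (C : Cfg a b U g₀ α e) (μ : U →* ℂˣ) {u : U} (hu : u ≠ 1) :
    linInd μ (u : G) = ∑ i : Fin e, (μ ((α ^ (i : ℕ)) u) : ℂ) := by
  classical
  haveI := Fintype.ofFinite U
  let f : Fin e × U → G := fun p => (g₀ ^ (p.1 : ℕ))⁻¹ * p.2
  have hga : ∀ i : ℕ, g₀ ^ i ∈ stabilizer G a := fun i => pow_mem C.gen_mem.1 i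
  have hord : orderOf g₀ = e := by
    have h : ∀ x : ↥(stabilizer G a ⊓ stabilizer G b), x ∈ Subgroup.zpowers
        (⟨g₀, C.gen_mem⟩ : ↥(stabilizer G a ⊓ stabilizer G b)) := fun x => by
      obtain ⟨i, hi⟩ := C.gen x x.2
      exact ⟨i, Subtype.ext (by simpa using hi)⟩
    rw [← C.card_pair, ← orderOf_eq_card_of_forall_mem_zpowers h, Subgroup.orderOf_mk]
  have hf : Function.Injective f := by
    rintro ⟨i, v⟩ ⟨j, w⟩ h
    simp only [f] at h
    have h1 : g₀ ^ (j : ℕ) * (g₀ ^ (i : ℕ))⁻¹ = (w : G) * (v : G)⁻¹ := by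
      calc g₀ ^ (j : ℕ) * (g₀ ^ (i : ℕ))⁻¹
          = g₀ ^ (j : ℕ) * ((g₀ ^ (i : ℕ))⁻¹ * v) * (v : G)⁻¹ := by group
        _ = _ := by rw [h]; group
    have h2 : (w : G) * (v : G)⁻¹ = 1 := by
      by_contra hne
      refine C.hab (C.fix _ (U.mul_mem w.2 (U.inv_mem v.2)) hne b ?_).symm
      rw [← h1]
      exact (stabilizer G b).mul_mem ((stabilizer G b).pow_mem C.gen_mem.2 (j : ℕ)) ((stabilizer G b).inv_mem ((stabilizer G b).pow_mem C.gen_mem.2 (i : ℕ)))
    have hvw : w = v := Subtype.ext (mul_inv_eq_one.1 h2)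
    rw [h2, mul_inv_eq_one] at h1
    have hij : (j : ℕ) = i := by
      have := pow_eq_pow_iff_modEq.1 h1
      rwa [hord, Nat.ModEq, Nat.mod_eq_of_lt j.2, Nat.mod_eq_of_lt i.2] at this
    rw [hvw, Fin.ext hij]
  have himg : Finset.univ.image f = Finset.univ.filter fun x : G => x • a = a := by
    refine Finset.eq_of_subset_of_card_le (fun x hx => ?_) (le_of_eq ?_)
    · obtain ⟨p, -, rfl⟩ := Finset.mem_image.1 hx
      refine Finset.mem_filter.2 ⟨Finset.mem_univ _, ?_⟩
      exact (stabilizer G a).mul_mem (inv_mem (hga _)) (C.le p.2.2)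
    · rw [Finset.card_image_of_injective _ hf, Finset.card_univ, Fintype.card_prod,
        Fintype.card_fin, ← Nat.card_eq_fintype_card (α := U), ← Fintype.card_subtype,
        ← Nat.card_eq_fintype_card, mul_comm, ← C.card_stab]
      exact Nat.card_congr (Equiv.refl _)
  rw [linInd, indFun_def, ← Finset.sum_subset (Finset.subset_univ (Finset.univ.image f)),
    Finset.sum_image fun p _ q _ h => hf h]
  · have hval : ∀ p : Fin e × U, Cfsg.extendByZero U (fun u => (μ u : ℂ))
        ((f p)⁻¹ * (u : G) * f p) = (μ ((α ^ (p.1 : ℕ)) u) : ℂ) := by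
      rintro ⟨i, v⟩
      have he : ((v⁻¹ * (α ^ (i : ℕ)) u * v : U) : G) =
          (f (i, v))⁻¹ * (u : G) * f (i, v) := by
        simp only [f, Subgroup.coe_mul, Subgroup.coe_inv, conj_pow C.conj]
        group
      rw [← he, extendByZero_apply]
      simp only [map_mul, map_inv]
      rw [mul_comm (μ v)⁻¹, mul_assoc, inv_mul_cancel, mul_one]
    rw [Finset.sum_congr rfl fun p _ => hval p, Fintype.sum_prod_type]
    simp only [Finset.sum_const, Finset.card_univ, nsmul_eq_mul, ← Nat.card_eq_fintype_card]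
    rw [← Finset.mul_sum, ← mul_assoc,
      inv_mul_cancel₀ (Nat.cast_ne_zero.2 (Nat.card_pos (α := U)).ne'), one_mul]
  · intro x _ hx
    refine extendByZero_of_not_mem _ fun h => hx ?_
    rw [himg]
    refine Finset.mem_filter.2 ⟨Finset.mem_univ _, ?_⟩
    refine C.fix _ u.2 (fun h1 => hu (Subtype.ext h1)) _ ?_
    have h2 : (x⁻¹ * (u : G) * x) • a = a := C.le h
    rwa [mul_smul, mul_smul, inv_smul_eq_iff] at h2

theorem linInd_one (μ : U →* ℂˣ) : linInd μ 1 = (U.index : ℂ) := by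
  haveI := Fintype.ofFinite U
  simp [linInd, indFun_one]

open scoped Classical in
/-- Inner products of the induced characters. -/
theorem Cfg.classInner_linInd (C : Cfg a b U g₀ α e) (μ ν : U →* ℂˣ) :
    Cfsg.classInner (linInd μ) (linInd ν) =
      (e : ℂ) + ((Finset.univ.filter fun i : Fin e => ∀ u, μ ((α ^ (i : ℕ)) u) = ν u).card : ℂ) := by
  classical
  haveI := Fintype.ofFinite U
  rw [← linMult_eq (χ := linInd μ) (isClassFunction_indFun _ _), linMult, classInner_def]
  have hh : (Nat.card U : ℂ) ≠ 0 := Nat.cast_ne_zero.2 Nat.card_pos.ne'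
  have hpt : ∀ u : U, linInd μ (u : G) * conj (ν u : ℂ) =
      (∑ i : Fin e, (μ ((α ^ (i : ℕ)) u) : ℂ) * conj (ν u : ℂ)) +
        if u = 1 then (e : ℂ) * Nat.card U else 0 := by
    intro u
    split_ifs with h
    · subst h
      simp only [OneMemClass.coe_one, linInd_one, C.index_eq, map_one, Units.val_one, mul_one,
        Finset.sum_const, Finset.card_univ, Fintype.card_fin, nsmul_eq_mul]
      push_cast
      ring
    · rw [C.linInd_apply μ h, Finset.sum_mul, add_zero]
  rw [Finset.sum_congr rfl fun u _ => hpt u, Finset.sum_add_distrib,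
    Finset.sum_ite_eq' Finset.univ, if_pos (Finset.mem_univ _), Finset.sum_comm, mul_add]
  have horth : ∀ i : Fin e, (Nat.card U : ℂ)⁻¹ *
      ∑ u : U, (μ ((α ^ (i : ℕ)) u) : ℂ) * conj (ν u : ℂ) =
      if ∀ u, μ ((α ^ (i : ℕ)) u) = ν u then 1 else 0 := by
    intro i
    have h := IsIrrCharacter.classInner_eq
      (isIrrCharacter_ofHom (μ.comp (α ^ (i : ℕ)).toMonoidHom)) (isIrrCharacter_ofHom ν)
    rw [classInner_def] at h
    refine h.trans (if_congr ⟨fun h' u => Units.ext (congrFun h' u), fun h' => ?_⟩ rfl rfl)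
    funext u
    exact congrArg Units.val (h' u)
  rw [Finset.mul_sum, Finset.sum_congr rfl fun i _ => horth i, Finset.sum_boole, mul_comm (e : ℂ),
    ← mul_assoc, inv_mul_cancel₀ hh, one_mul]
  rw [add_comm]
  congr!

theorem Cfg.classInner_linInd_self (C : Cfg a b U g₀ α e) {μ : U →* ℂˣ} (hμ : μ ≠ 1) :
    Cfsg.classInner (linInd μ) (linInd μ) = (e : ℂ) + 1 := by
  classical
  rw [C.classInner_linInd]
  congr 1
  have h0 : (Finset.univ.filter fun i : Fin e => ∀ u, μ ((α ^ (i : ℕ)) u) = μ u) =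
      {⟨0, C.frame.e_pos⟩} := by
    ext i
    simp only [Finset.mem_filter, Finset.mem_univ, true_and, Finset.mem_singleton]
    refine ⟨fun h => C.hom_free hμ fun u => by rw [h u]; simp, ?_⟩
    rintro rfl u
    simp
  rw [h0, Finset.card_singleton, Nat.cast_one]

theorem Cfg.classInner_linInd_of_ne (C : Cfg a b U g₀ α e) {μ ν : U →* ℂˣ}
    (h : ∀ i : Fin e, μ.comp (α ^ (i : ℕ)).toMonoidHom ≠ ν) :
    Cfsg.classInner (linInd μ) (linInd ν) = (e : ℂ) := by
  classical
  rw [C.classInner_linInd, add_eq_left, Nat.cast_eq_zero, Finset.card_eq_zero]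
  exact Finset.filter_eq_empty_iff.2 fun i _ hi => h i (MonoidHom.ext hi)

theorem Cfg.classInner_linInd_one (C : Cfg a b U g₀ α e) :
    Cfsg.classInner (linInd (U := U) 1) (linInd (U := U) 1) = (e : ℂ) + e := by
  classical
  rw [C.classInner_linInd]
  simp

/-- A non-trivial irreducible character of a simple group is faithful. -/
theorem eq_one_of_apply_eq {G : Type*} [Group G] [Fintype G] [IsSimpleGroup G] {χ : G → ℂ}
    (hχ : Cfsg.IsIrrCharacter G χ) (hne : χ ≠ fun _ => 1) {g : G} (hg : χ g = χ 1) : g = 1 := by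
  by_contra hg1
  obtain ⟨n, ρ, hρ, rfl⟩ := hχ
  have hirr : Cfsg.IsIrrCharacter G ρ.character := ⟨n, ρ, hρ, rfl⟩
  let K : Subgroup G := (MonoidHom.toHomUnits ρ).ker
  have hmem : ∀ x, x ∈ K ↔ ρ x = 1 := fun x => by
    show MonoidHom.toHomUnits ρ x = 1 ↔ _
    rw [Units.ext_iff]; rfl
  have hgK : g ∈ K := (hmem g).2 (apply_eq_one_of_character_eq ρ (by rw [hg, ρ.char_one]))
  rcases (inferInstance : K.Normal).eq_bot_or_eq_top with h | h
  · exact hg1 (Subgroup.mem_bot.1 (h ▸ hgK))
  · refine hne (irr_eq_one_of_const hirr fun x => ?_)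
    show LinearMap.trace ℂ _ (ρ x) = LinearMap.trace ℂ _ (ρ 1)
    rw [(hmem x).1 (h ▸ Subgroup.mem_top x), (hmem 1).1 (one_mem _)]

end CfsgLib.SuzTop
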