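import Cfsg.Agent.Suz.Induced
import Cfsg.Agent.Char.FrobeniusSchur

/-!
Moments of the multiplicities of linear characters of the kernel.
-/

set_option autoImplicit false
set_option linter.unusedSectionVars false
set_option linter.style.haveILetI false

namespace CfsgLib.SuzTop

open MulAction CfsgLib.Char
open scoped ComplexConjugate

variable {G Ω : Type*} [Group G] [Fintype G] [MulAction G Ω] [Fintype Ω]
variable {a b : Ω} {U : Subgroup G} {g₀ : G} {α : MulAut U} {e : ℕ}

/-- The number of square roots. -/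
noncomputable def sqCount (g : G) : ℂ := (Nat.card {x : G // x * x = g} : ℂ)

theorem isClassFunction_sqCount : Cfsg.IsClassFunction G (sqCount (G := G)) := by
  intro g h
  refine congrArg Nat.cast (Nat.card_congr ((MulAut.conj h⁻¹).toEquiv.subtypeEquiv fun x => ?_))
  show x * x = h * g * h⁻¹ ↔ MulAut.conj h⁻¹ x * MulAut.conj h⁻¹ x = g
  rw [← map_mul, MulAut.conj_apply, inv_inv]
  constructor
  · intro hx; rw [hx]; group
  · intro hx; rw [← hx]; group

/-- The indicator of a character. -/
noncomputable def fsInd (χ : G → ℂ) : ℂ := Cfsg.classInner sqCount χ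

theorem fsInd_spec {χ : G → ℂ} (hχ : Cfsg.IsIrrCharacter G χ) :
    ∃ n : ℤ, fsInd χ = n ∧ -1 ≤ n ∧ n ≤ 1 := by
  classical
  have h : fsInd χ = conj ((Nat.card G : ℂ)⁻¹ * ∑ x : G, χ (x * x)) := by
    rw [fsInd, classInner_def, map_mul, map_sum, map_inv₀, map_natCast]
    congr 1
    rw [← Finset.sum_fiberwise Finset.univ (fun x : G => x * x) (fun x => conj (χ (x * x)))]
    refine Finset.sum_congr rfl fun g _ => ?_
    rw [Finset.sum_congr rfl fun x hx => by rw [(Finset.mem_filter.1 hx).2], Finset.sum_const,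
      nsmul_eq_mul, sqCount, ← Fintype.card_subtype, ← Nat.card_eq_fintype_card]
  rcases IsIrrCharacter.fs_indicator hχ with ⟨-, h0⟩ | ⟨-, h1 | ⟨h1, -⟩⟩
  · exact ⟨0, by rw [h, h0]; simp, by omega, by omega⟩
  · exact ⟨1, by rw [h, h1]; simp, by omega, by omega⟩
  · exact ⟨-1, by rw [h, h1]; simp, by omega, by omega⟩

theorem sum_fs_deg : ∑ χ ∈ irrFinset G, fsInd χ * χ 1 = sqCount (1 : G) := by
  have h := congrFun (eq_sum_irr (isClassFunction_sqCount (G := G))) 1
  rw [Finset.sum_apply] at h
  rw [h]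
  exact Finset.sum_congr rfl fun χ _ => rfl

variable [Fintype U]

theorem sum_fs_mult (μ : U →* ℂˣ) :
    ∑ χ ∈ irrFinset G, fsInd χ * linMult χ μ = linMult sqCount μ := by
  rw [linMult_eq (χ := sqCount) isClassFunction_sqCount,
    classInner_eq_sum_irr isClassFunction_sqCount]
  refine Finset.sum_congr rfl fun χ hχ => ?_
  rw [fsInd, linMult_eq (IsIrrCharacter.isClassFunction (mem_irrFinset.1 hχ)),
    classInner_conj]

theorem sum_mult_mult (μ ν : U →* ℂˣ) :
    ∑ χ ∈ irrFinset G, linMult χ μ * linMult χ ν = Cfsg.classInner (linInd μ) (linInd ν) := by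
  rw [classInner_eq_sum_irr (φ := linInd μ) (isClassFunction_indFun _ _)]
  refine Finset.sum_congr rfl fun χ hχ => ?_
  have hχ' := mem_irrFinset.1 hχ
  obtain ⟨n, hn⟩ := linMult_nat (IsIrrCharacter.isCharacter hχ') μ
  rw [linMult_eq (IsIrrCharacter.isClassFunction hχ'), ← classInner_conj] at hn
  have hn' := congrArg conj hn
  rw [Complex.conj_conj, map_natCast] at hn'
  rw [hn', linMult_eq (IsIrrCharacter.isClassFunction hχ'),
    linMult_eq (IsIrrCharacter.isClassFunction hχ'), classInner_conj]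
  congr 1
  rw [← classInner_conj, hn', map_natCast]

theorem sum_mult_deg (μ : U →* ℂˣ) :
    ∑ χ ∈ irrFinset G, linMult χ μ * χ 1 = (U.index : ℂ) := by
  have h := congrFun (eq_sum_irr (ψ := linInd μ) (isClassFunction_indFun _ _)) 1
  rw [Finset.sum_apply, linInd_one] at h
  rw [h]
  refine Finset.sum_congr rfl fun χ hχ => ?_
  have hχ' := mem_irrFinset.1 hχ
  obtain ⟨n, hn⟩ := linMult_nat (IsIrrCharacter.isCharacter hχ') μ
  rw [Pi.smul_apply, smul_eq_mul, hn]
  congr 1
  rw [← classInner_conj, ← linMult_eq (IsIrrCharacter.isClassFunction hχ'), hn, map_natCast]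

theorem sum_conj_hom (μ : U →* ℂˣ) [Decidable (μ = 1)] :
    ∑ u : U, conj (μ u : ℂ) = if μ = 1 then (Nat.card U : ℂ) else 0 := by
  have h := IsIrrCharacter.classInner_eq (isIrrCharacter_one (G := U)) (isIrrCharacter_ofHom μ)
    (χ := fun _ : U => (1 : ℂ)) (ψ := fun u : U => (μ u : ℂ))
  classical
  have h' := h
  rw [classInner_def] at h'
  simp only [one_mul] at h'
  have hiff : ((fun _ : U => (1 : ℂ)) = fun u : U => (μ u : ℂ)) ↔ μ = 1 :=
    ⟨fun he => MonoidHom.ext fun u => Units.ext (congrFun he u).symm, fun he => by simp [he]⟩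
  rw [if_congr hiff rfl rfl, inv_mul_eq_iff_eq_mul₀ (Nat.cast_ne_zero.2 Nat.card_pos.ne')] at h'
  rw [h']
  split_ifs <;> simp

theorem linMult_const {χ : G → ℂ} {c : ℂ} (hc : ∀ u : U, u ≠ 1 → χ u = c) (μ : U →* ℂˣ)
    [Decidable (μ = 1)] :
    linMult χ μ = (χ 1 - c) / (Nat.card U : ℂ) + if μ = 1 then c else 0 := by
  classical
  rw [linMult, classInner_def]
  have hpt : ∀ u : U, χ u * conj (μ u : ℂ) = c * conj (μ u : ℂ) +
      if u = 1 then χ 1 - c else 0 := by
    intro u
    split_ifs with h
    · subst h; simp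
    · rw [hc u h, add_zero]
  rw [Finset.sum_congr rfl fun u _ => hpt u, Finset.sum_add_distrib, ← Finset.mul_sum,
    sum_conj_hom μ, Finset.sum_ite_eq' Finset.univ, if_pos (Finset.mem_univ _)]
  have hh : (Nat.card U : ℂ) ≠ 0 := Nat.cast_ne_zero.2 Nat.card_pos.ne'
  split_ifs <;> field_simp <;> ring

/-- The multiplicities of the linear characters add up to a mean over the derived subgroup. -/
theorem sum_linMult [Fintype (U →* ℂˣ)] [DecidablePred fun u : U => u ∈ commutator U]
    (χ : G → ℂ) :
    (Nat.card U : ℂ) * ∑ μ : U →* ℂˣ, linMult χ μ =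
      ((commutator U).index : ℂ) *
        ∑ z ∈ Finset.univ.filter (fun u : U => u ∈ commutator U), χ z := by
  classical
  have hrow : ∀ x : U, ∑ μ : U →* ℂˣ, conj (μ x : ℂ) =
      if x ∈ commutator U then ((commutator U).index : ℂ) else 0 := by
    intro x
    split_ifs with hx
    · have h1 : ∀ μ : U →* ℂˣ, μ x = 1 := fun μ =>
        Abelianization.commutator_subset_ker μ hx
      simp [h1, ← card_hom_eq_index_commutator, Finset.card_univ]
    · obtain ⟨μ₀, hμ⟩ := exists_hom_ne_one hx
      have hS : (μ₀ x : ℂ) * ∑ μ : U →* ℂˣ, (μ x : ℂ) = ∑ μ : U →* ℂˣ, (μ x : ℂ) := by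
        rw [Finset.mul_sum]
        exact Fintype.sum_equiv (Equiv.mulLeft μ₀) _ _ fun μ => by simp
      have h0 : ∑ μ : U →* ℂˣ, (μ x : ℂ) = 0 := by
        by_contra h
        exact hμ (Units.ext (mul_right_cancel₀ h (hS.trans (one_mul _).symm)))
      rw [← map_sum, h0, map_zero]
  simp only [linMult, classInner_def]
  rw [← Finset.mul_sum, ← mul_assoc, mul_inv_cancel₀ (Nat.cast_ne_zero.2 Nat.card_pos.ne'), one_mul,
    Finset.sum_comm, Finset.sum_filter, Finset.mul_sum]
  refine Finset.sum_congr rfl fun u _ => ?_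
  rw [← Finset.mul_sum, hrow]
  split_ifs <;> ring

theorem Cfg.sqCount_one [IsSimpleGroup G] (C : Cfg a b U g₀ α e) :
    sqCount (1 : G) = (e : ℂ) * ((Nat.card U : ℂ) + 1) + 1 := by
  classical
  haveI : Fact (Nat.Prime 2) := ⟨Nat.prime_two⟩
  obtain ⟨k, hk⟩ := C.frame.isPGroup.exists_card_eq
  have hev : Even (Nat.card U) := by
    rcases k with _ | k
    · have := C.lt; rw [hk] at this; simp at this
    · rw [hk]; exact ⟨2 ^ k, by ring⟩
  have hI := zass_card_involutions C.zass C.hab C.odd
  rw [if_pos (show Odd (Fintype.card Ω) by rw [← C.card]; exact hev.add_one), ← C.card,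
    Nat.add_sub_cancel, C.card_pair] at hI
  have hI' : Nat.card {x : G // orderOf x = 2} = (Nat.card U + 1) * e :=
    Nat.eq_of_mul_eq_mul_right Nat.card_pos (hI.trans (by ring))
  have h1 : Nat.card {x : G // x * x = 1} = Nat.card {x : G // orderOf x = 2} + 1 := by
    rw [Nat.card_eq_fintype_card, Nat.card_eq_fintype_card, Fintype.card_subtype,
      Fintype.card_subtype, ← Finset.card_erase_add_one (a := (1 : G)) (by simp)]
    congr 2
    ext u
    simp only [Finset.mem_erase, Finset.mem_filter, Finset.mem_univ, true_and]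
    refine ⟨fun h => orderOf_eq_prime (by rw [sq, h.2]) h.1, fun h => ⟨?_, ?_⟩⟩
    · intro hu; rw [hu, orderOf_one] at h; omega
    · rw [← sq, ← h, pow_orderOf_eq_one]
  rw [sqCount, h1, hI']
  push_cast
  ring

/-- The number of square roots against a linear character killing all squares. -/
theorem Cfg.linMult_sqCount [IsSimpleGroup G] (C : Cfg a b U g₀ α e)
    (hh : Nat.card U = (e + 1) ^ 3) (μ : U →* ℂˣ) (hμ : ∀ x : U, μ (x * x) = 1) :
    linMult sqCount μ = (e : ℂ) + 1 := by
  classical
  have hroot : ∀ u : U, u ≠ 1 → sqCount (u : G) =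
      ((Finset.univ.filter fun x : U => x * x = u).card : ℂ) := by
    intro u hu
    have hu' : (u : G) ≠ 1 := fun h => hu (Subtype.ext h)
    have hmem : ∀ x : G, x * x = (u : G) → x ∈ U := by
      intro x hx
      have hc : x * (u : G) = u * x := by rw [← hx, mul_assoc]
      have hxa : x • a = a := C.fix _ u.2 hu' _ (by
        rw [← mul_smul, ← hc, mul_smul, show (u : G) • a = a from C.le u.2])
      exact zass_kernel_centralizer C.zass U C.le C.card C.fix hxa u.2 hu' hc
    rw [sqCount, ← Fintype.card_subtype, ← Nat.card_eq_fintype_card]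
    exact congrArg Nat.cast (Nat.card_congr
      { toFun := fun x => ⟨⟨x.1, hmem _ x.2⟩, Subtype.ext x.2⟩
        invFun := fun x => ⟨x.1.1, congrArg Subtype.val x.2⟩
        left_inv := fun x => rfl
        right_inv := fun x => rfl })
  rw [linMult, classInner_def]
  have hh0 : (Nat.card U : ℂ) ≠ 0 := Nat.cast_ne_zero.2 Nat.card_pos.ne'
  have hpt : ∀ u : U, sqCount (u : G) * conj (μ u : ℂ) =
      (∑ x ∈ Finset.univ.filter (fun x : U => x * x = u), (1 : ℂ)) +
      if u = 1 then sqCount (1 : G) - ((Finset.univ.filter fun x : U => x * x = 1).card : ℂ)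
      else 0 := by
    intro u
    rw [Finset.sum_const, nsmul_eq_mul, mul_one]
    split_ifs with h
    · subst h; simp
    · rw [hroot u h, add_zero]
      by_cases hx : ∃ x : U, x * x = u
      · obtain ⟨x, rfl⟩ := hx
        simp [hμ]
      · push Not at hx
        rw [Finset.filter_false_of_mem fun x _ => hx x]
        simp
  have hZ : (Finset.univ.filter fun x : U => x * x = 1).card = e + 1 := by
    rw [← C.frame.card_center, Nat.card_eq_fintype_card, Fintype.card_subtype]
    congr 1
    ext x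
    simp [C.frame.center_iff]
  rw [Finset.sum_congr rfl fun u _ => hpt u, Finset.sum_add_distrib,
    Finset.sum_fiberwise Finset.univ (fun x : U => x * x) (fun _ => (1 : ℂ)), Finset.sum_ite_eq'
      Finset.univ, if_pos (Finset.mem_univ _), C.sqCount_one, hZ, Finset.sum_const,
    Finset.card_univ, nsmul_eq_mul, mul_one, ← Nat.card_eq_fintype_card, hh]
  rw [hh] at hh0
  push_cast at hh0 ⊢
  field_simp
  ring

end CfsgLib.SuzTop
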