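import Cfsg.Agent.Suz.Principal
import Cfsg.Agent.Suz.Moments

/-!
The multiplicities of the known characters and the remaining moments.
-/

set_option autoImplicit false
set_option linter.unusedSectionVars false
set_option linter.style.haveILetI false

namespace CfsgLib.SuzTop

open MulAction CfsgLib.Char

variable {G Ω : Type*} [Group G] [Fintype G] [IsSimpleGroup G] [MulAction G Ω] [Fintype Ω]
variable {a b : Ω} {U : Subgroup G} {g₀ : G} {α : MulAut U} {e : ℕ} [Fintype U]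

/-- The remaining characters: multiplicities, indicators and degrees. -/
structure Rest (G : Type*) [Group G] [Fintype G] (U : Subgroup G) [Fintype U] (h e r : ℕ) where
  R : Finset (G → ℂ)
  irr : ∀ χ ∈ R, Cfsg.IsIrrCharacter G χ ∧ χ ≠ fun _ => 1
  M : (G → ℂ) → (U →* ℂˣ) → ℕ
  hM : ∀ χ ∈ R, ∀ μ, linMult χ μ = (M χ μ : ℂ)
  N : (G → ℂ) → ℤ
  hN : ∀ χ ∈ R, -1 ≤ N χ ∧ N χ ≤ 1
  M_one : ∀ χ ∈ R, M χ 1 = 0
  gram : ∀ μ ν : U →* ℂˣ, μ ≠ 1 → ν ≠ 1 →
    (∑ χ ∈ R, (M χ μ : ℂ) * M χ ν) + r + 1 = Cfsg.classInner (linInd μ) (linInd ν)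
  fs : ∀ μ : U →* ℂˣ, μ ≠ 1 → (∀ x : U, μ (x * x) = 1) → ∑ χ ∈ R, N χ * M χ μ = (r : ℤ) + 1
  deg : ∀ μ : U →* ℂˣ, μ ≠ 1 →
    (∑ χ ∈ R, (M χ μ : ℤ) * cdeg χ) + h + r * (h + 1) = e * (h + 1)
  fs_deg : (∑ χ ∈ R, N χ * cdeg χ) + 1 + h + r * (h + 1) = (e : ℤ) * (h + 1) + 1
  sq : (∑ χ ∈ R, (cdeg χ : ℤ) ^ 2) + 1 + (h : ℤ) ^ 2 + r * ((h : ℤ) + 1) ^ 2 = (h + 1) * (h * e)

theorem Cfg.exists_rest (C : Cfg a b U g₀ α e) (hh : Nat.card U = (e + 1) ^ 3) :
    ∃ r : ℕ, e = 2 * r + 1 ∧ 1 ≤ r ∧ Nonempty (Rest G U (Nat.card U) e r) := by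
  classical
  obtain ⟨St, Ψ, hSti, hSt1, hStU, hΨ, hlow⟩ := C.exists_principal
  have hlt := C.lt
  have he3 := C.frame.three_le
  set h := Nat.card U with hhdef
  have hh0 : (h : ℂ) ≠ 0 := Nat.cast_ne_zero.2 (by omega)
  set one : G → ℂ := fun _ => 1 with hone
  -- disjointness
  have hcast : ∀ {m n : ℕ}, (m : ℂ) = n → m = n := fun h => Nat.cast_injective h
  have hne1 : one ≠ St := fun he => by
    have := congrFun he 1
    rw [hSt1] at this
    have := hcast (m := 1) (n := h) (by rw [Nat.cast_one]; exact this)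
    omega
  have hψ1 : one ∉ Ψ := fun hm => by
    have := (hΨ _ hm).2.1
    have := hcast (m := 1) (n := h + 1) (by push_cast; exact this)
    omega
  have hψ2 : St ∉ Ψ := fun hm => by
    have := (hΨ _ hm).2.1
    rw [hSt1] at this
    have := hcast (m := h) (n := h + 1) (by push_cast; exact this)
    omega
  set K := insert one (insert St Ψ) with hK
  have hsub : K ⊆ irrFinset G := by
    intro χ hχ
    simp only [hK, Finset.mem_insert] at hχ
    rw [mem_irrFinset]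
    rcases hχ with rfl | rfl | hχ
    · exact isIrrCharacter_one
    · exact hSti
    · exact (hΨ χ hχ).1
  have hKsum : ∀ {β : Type} [AddCommMonoid β] (f : (G → ℂ) → β),
      ∑ χ ∈ irrFinset G, f χ =
        (∑ χ ∈ irrFinset G \ K, f χ) + (f one + (f St + ∑ ψ ∈ Ψ, f ψ)) := by
    intro β _ f
    rw [← Finset.sum_sdiff hsub, hK, Finset.sum_insert (by simp [hne1, hψ1]),
      Finset.sum_insert hψ2]
  -- multiplicities of the known characters
  have hm1 : ∀ μ : U →* ℂˣ, linMult one μ = if μ = 1 then 1 else 0 := fun μ => by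
    rw [linMult_const (c := (1 : ℂ)) (fun u _ => rfl) μ]; simp [hone]
  have hmSt : ∀ μ : U →* ℂˣ, linMult St μ = 1 := fun μ => by
    rw [linMult_const (c := (0 : ℂ)) hStU μ, hSt1, sub_zero, div_self hh0]; simp
  have hmψ : ∀ ψ ∈ Ψ, ∀ μ : U →* ℂˣ, linMult ψ μ = 1 + if μ = 1 then 1 else 0 := fun ψ hψ μ => by
    rw [linMult_const (c := (1 : ℂ)) (hΨ ψ hψ).2.2 μ, (hΨ ψ hψ).2.1, add_sub_cancel_right,
      div_self hh0]
  have hMex : ∀ χ ∈ irrFinset G, ∀ μ : U →* ℂˣ, ∃ n : ℕ, linMult χ μ = n :=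
    fun χ hχ μ => linMult_nat (IsIrrCharacter.isCharacter (mem_irrFinset.1 hχ)) μ
  choose! M hM using hMex
  have hNex : ∀ χ ∈ irrFinset G, ∃ n : ℤ, fsInd χ = n ∧ -1 ≤ n ∧ n ≤ 1 :=
    fun χ hχ => fsInd_spec (mem_irrFinset.1 hχ)
  choose! N hN using hNex
  have hR : ∀ χ ∈ irrFinset G \ K, χ ∈ irrFinset G := fun χ hχ => (Finset.mem_sdiff.1 hχ).1
  have hK1 : one ∈ irrFinset G := hsub (by simp [hK])
  have hKSt : St ∈ irrFinset G := hsub (by simp [hK])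
  have hKψ : ∀ ψ ∈ Ψ, ψ ∈ irrFinset G := fun ψ hψ => hsub (by simp [hK, hψ])
  -- the number of the principal series characters
  have h00 := C.classInner_linInd_one
  rw [← sum_mult_mult, hKsum, hm1, hmSt, Finset.sum_congr (s₁ := Ψ) rfl fun ψ hψ => by rw [hmψ ψ hψ],
    if_pos rfl, Finset.sum_const, nsmul_eq_mul,
    Finset.sum_congr (s₁ := irrFinset G \ K) rfl fun χ hχ => by rw [hM χ (hR χ hχ)]] at h00
  have h00' : (∑ χ ∈ irrFinset G \ K, M χ 1 * M χ 1) + (1 + (1 + Ψ.card * 4)) = e + e := by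
    apply hcast
    push_cast
    linear_combination h00
  obtain ⟨r₀, hr₀⟩ : Odd e := C.card_pair ▸ C.odd
  have hr : e = 2 * Ψ.card + 1 := by omega
  have hM1 : ∀ χ ∈ irrFinset G \ K, M χ 1 = 0 := fun χ hχ => by
    have := Finset.single_le_sum (f := fun χ => M χ 1 * M χ 1) (fun _ _ => Nat.zero_le _) hχ
    nlinarith
  -- the indicators of the known characters
  have hfs : ∀ μ : U →* ℂˣ, (∀ x : U, μ (x * x) = 1) →
      (∑ χ ∈ irrFinset G \ K, N χ * (M χ μ : ℤ)) + ((if μ = 1 then N one else 0) +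
        (N St + ∑ ψ ∈ Ψ, N ψ * (1 + if μ = 1 then 1 else 0))) = (e : ℤ) + 1 := by
    intro μ hμ
    have h1 := sum_fs_mult (G := G) μ
    rw [C.linMult_sqCount hh μ hμ, hKsum, hm1, hmSt, (hN one hK1).1, (hN St hKSt).1,
      Finset.sum_congr (s₁ := Ψ) rfl fun ψ hψ => by rw [hmψ ψ hψ, (hN ψ (hKψ ψ hψ)).1],
      Finset.sum_congr (s₁ := irrFinset G \ K) rfl fun χ hχ => by rw [hM χ (hR χ hχ), (hN χ (hR χ hχ)).1]] at h1
    apply Int.cast_injective (α := ℂ)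
    push_cast
    split_ifs at h1 ⊢ <;> linear_combination h1
  have h0 := hfs 1 (fun x => by simp)
  rw [Finset.sum_eq_zero (fun χ hχ => by rw [hM1 χ hχ]; simp), zero_add, if_pos rfl, if_pos rfl,
    ← Finset.sum_mul] at h0
  have hNψle : ∑ ψ ∈ Ψ, N ψ ≤ Ψ.card := by
    refine (Finset.sum_le_card_nsmul Ψ N 1 fun ψ hψ => (hN ψ (hKψ ψ hψ)).2.2).trans ?_
    simp
  have hN1le := (hN one hK1).2.2
  have hNStle := (hN St hKSt).2.2
  have hN1 : N one = 1 := by omega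
  have hNSt : N St = 1 := by omega
  have hNψ : ∑ ψ ∈ Ψ, N ψ = Ψ.card := by omega
  have hcd : ∀ χ ∈ irrFinset G, χ 1 = (cdeg χ : ℂ) :=
    fun χ hχ => irr_apply_one_eq_cdeg (mem_irrFinset.1 hχ)
  have hd1 : cdeg one = 1 := by simp [hone, cdeg]
  have hdSt : cdeg St = h := by
    rw [cdeg, hSt1, Complex.natCast_re, Nat.floor_natCast]
  have hdψ : ∀ ψ ∈ Ψ, cdeg ψ = h + 1 := fun ψ hψ => by
    rw [cdeg, (hΨ ψ hψ).2.1, ← Nat.cast_add_one, Complex.natCast_re, Nat.floor_natCast]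
  refine ⟨Ψ.card, hr, by omega, ⟨⟨irrFinset G \ K, fun χ hχ => ⟨mem_irrFinset.1 (hR χ hχ), ?_⟩,
    M, fun χ hχ => hM χ (hR χ hχ), N, fun χ hχ => (hN χ (hR χ hχ)).2, hM1, ?_, ?_, ?_, ?_, ?_⟩⟩⟩
  · intro he
    exact (Finset.mem_sdiff.1 hχ).2 (by simp [hK, hone, he])
  · intro μ ν hμ hν
    rw [← sum_mult_mult, hKsum, hm1, if_neg hμ, hmSt, hmSt,
      Finset.sum_congr (s₁ := Ψ) rfl (fun ψ hψ => show linMult ψ μ * linMult ψ ν = (1 : ℂ) by
        rw [hmψ ψ hψ, hmψ ψ hψ, if_neg hμ, if_neg hν]; ring), Finset.sum_const, nsmul_eq_mul,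
      Finset.sum_congr (s₁ := irrFinset G \ K) rfl fun χ hχ => show linMult χ μ * linMult χ ν = (M χ μ : ℂ) * M χ ν by
        rw [hM χ (hR χ hχ), hM χ (hR χ hχ)]]
    ring
  · intro μ hμ hμ2
    have h1 := hfs μ hμ2
    rw [if_neg hμ, if_neg hμ, hNSt] at h1
    simp only [add_zero, mul_one] at h1
    rw [hNψ] at h1
    rw [hr] at h1
    push_cast at h1
    linarith
  · intro μ hμ
    have h1 := sum_mult_deg (G := G) μ
    rw [C.index_eq, hKsum, hm1, if_neg hμ, hmSt, hSt1,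
      Finset.sum_congr (s₁ := Ψ) rfl (fun ψ hψ => show linMult ψ μ * ψ 1 = ((h : ℂ) + 1) by
        rw [hmψ ψ hψ, if_neg hμ, (hΨ ψ hψ).2.1]; ring), Finset.sum_const, nsmul_eq_mul,
      Finset.sum_congr (s₁ := irrFinset G \ K) rfl fun χ hχ => show linMult χ μ * χ 1 = (M χ μ : ℂ) * cdeg χ by
        rw [hM χ (hR χ hχ), hcd χ (hR χ hχ)]] at h1
    apply Int.cast_injective (α := ℂ)
    push_cast at h1 ⊢
    linear_combination h1
  · have h1 := sum_fs_deg (G := G)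
    rw [C.sqCount_one, Finset.sum_congr rfl fun χ hχ => show fsInd χ * χ 1 = ((N χ * cdeg χ : ℤ) : ℂ)
      by rw [(hN χ hχ).1, hcd χ hχ]; push_cast; rfl] at h1
    rw [← Int.cast_sum, hKsum] at h1
    have h2 : (∑ χ ∈ irrFinset G \ K, N χ * (cdeg χ : ℤ)) +
        (N one * (cdeg one : ℤ) + (N St * (cdeg St : ℤ) + ∑ ψ ∈ Ψ, N ψ * (cdeg ψ : ℤ))) =
        (e : ℤ) * ((h : ℤ) + 1) + 1 := by
      apply Int.cast_injective (α := ℂ)
      push_cast at h1 ⊢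
      exact h1
    rw [hN1, hNSt, hd1, hdSt, Finset.sum_congr (s₁ := Ψ) rfl fun ψ hψ => by rw [hdψ ψ hψ], ← Finset.sum_mul,
      hNψ] at h2
    push_cast at h2 ⊢
    linarith
  · have h1 : ((∑ χ ∈ irrFinset G, cdeg χ ^ 2 : ℕ) : ℤ) = (h + 1) * (h * e) := by
      rw [sum_cdeg_sq, C.card_group, ← hhdef]; push_cast; ring
    rw [hKsum, hd1, hdSt, Finset.sum_congr (s₁ := Ψ) rfl fun ψ hψ => by rw [hdψ ψ hψ], Finset.sum_const,
      smul_eq_mul] at h1
    push_cast at h1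
    linarith

end CfsgLib.SuzTop
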