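import Cfsg.Agent.Suz.Reals

/-!
Counting pairs of involutions by their products.
-/

set_option autoImplicit false
set_option linter.unusedSectionVars false
set_option linter.style.haveILetI false

namespace CfsgLib.SuzTop

open MulAction CfsgLib.Char

variable {G Ω : Type*} [Group G] [Fintype G] [IsSimpleGroup G] [MulAction G Ω] [Fintype Ω]
variable {a b : Ω} {U : Subgroup G} {g₀ : G} {α : MulAut U} {e : ℕ}

open scoped Classical in
/-- The number of ways of writing an element as a product of two involutions. -/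
noncomputable def pairs (g : G) : ℕ :=
  (Finset.univ.filter fun i : G => orderOf i = 2 ∧ orderOf (i⁻¹ * g) = 2).card

theorem pairs_conj (g t : G) : pairs (t * g * t⁻¹) = pairs g := by
  classical
  unfold pairs
  refine (Finset.card_equiv (MulAut.conj t).toEquiv fun i => ?_).symm
  simp only [Finset.mem_filter, Finset.mem_univ, true_and, MulEquiv.toEquiv_eq_coe,
    MulEquiv.coe_toEquiv, MulEquiv.orderOf_eq]
  rw [show (MulAut.conj t i)⁻¹ * (t * g * t⁻¹) = MulAut.conj t (i⁻¹ * g) by simp [mul_assoc],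
    MulEquiv.orderOf_eq]

theorem inv_of_pair {i g : G} (hi : orderOf i = 2) (hj : orderOf (i⁻¹ * g) = 2) :
    i * g * i⁻¹ = g⁻¹ := by
  have h1 : i * i = 1 := by rw [← sq, ← hi, pow_orderOf_eq_one]
  have h2 : i⁻¹ * g * (i⁻¹ * g) = 1 := by rw [← sq, ← hj, pow_orderOf_eq_one]
  have hii : i⁻¹ = i := inv_eq_of_mul_eq_one_left h1
  rw [hii] at h2 ⊢
  refine eq_inv_of_mul_eq_one_left ?_
  rw [← h2]; group

theorem pair_of_inv {i g : G} (hi : orderOf i = 2) (h : i * g * i⁻¹ = g⁻¹) (hne : g ≠ i) :
    orderOf (i⁻¹ * g) = 2 := by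
  have h1 : i * i = 1 := by rw [← sq, ← hi, pow_orderOf_eq_one]
  have hii : i⁻¹ = i := inv_eq_of_mul_eq_one_left h1
  refine orderOf_eq_prime ?_ fun h' => hne (inv_mul_eq_one.1 h').symm
  rw [sq, hii]
  rw [hii] at h
  calc i * g * (i * g) = (i * g * i) * g := by group
    _ = 1 := by rw [h, inv_mul_cancel]

theorem Cfg.rev_of_pairs (C : Cfg a b U g₀ α e) {g : G} (hg : ∀ c : Ω, g • c ≠ c)
    [Decidable (Rev Ω g)] :
    pairs g = if Rev Ω g then Nat.card (Subgroup.centralizer ({g} : Set G)) else 0 := by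
  classical
  split_ifs with hR
  · obtain ⟨-, s, hs, hsg⟩ := hR
    have hss : s * s = 1 := by rw [← sq, ← hs, pow_orderOf_eq_one]
    have hsi : s⁻¹ = s := inv_eq_of_mul_eq_one_left hss
    unfold pairs
    rw [← Fintype.card_subtype, ← Nat.card_eq_fintype_card]
    have hs1 : ∀ d ∈ Subgroup.centralizer ({g} : Set G), orderOf (s * d) = 2 := fun d hd => by
      rw [Subgroup.mem_centralizer_singleton_iff] at hd
      have h := (C.rev_cent hg hs hsg d hd).1
      refine orderOf_eq_prime ?_ fun h' => ?_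
      · rw [sq]
        calc s * d * (s * d) = (s * d * s) * d := by group
          _ = 1 := by rw [show s * d * s = d⁻¹ by rw [← h, hsi], inv_mul_cancel]
      · obtain ⟨p, hp, -⟩ := C.invol_fix hs
        have hd' : d = s := by
          rw [show d = s⁻¹ * (s * d) by group, h', mul_one, hsi]
        rw [hd'] at hd
        refine C.cent_semireg hg hd (fun h1 => ?_) p hp
        rw [h1, orderOf_one] at hs
        omega
    have hsinv : ∀ d ∈ Subgroup.centralizer ({g} : Set G), s * d * g * (s * d)⁻¹ = g⁻¹ :=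
      fun d hd => by
        rw [Subgroup.mem_centralizer_singleton_iff] at hd
        rw [← hsg, show s * d * g * (s * d)⁻¹ = s * (d * g * d⁻¹) * s⁻¹ by group, hd,
          mul_inv_cancel_right]
    have hne : ∀ i, orderOf i = 2 → g ≠ i := fun i hi h => by
      subst h
      obtain ⟨p, hp, -⟩ := C.invol_fix hi
      exact hg p hp
    refine Nat.card_congr
      { toFun := fun i => ⟨s⁻¹ * i.1, ?_⟩
        invFun := fun d => ⟨s * (d : G), hs1 _ d.2, pair_of_inv (hs1 _ d.2) (hsinv _ d.2)
          (hne _ (hs1 _ d.2))⟩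
        left_inv := fun i => Subtype.ext (mul_inv_cancel_left _ _)
        right_inv := fun d => Subtype.ext (inv_mul_cancel_left _ _) }
    rw [Subgroup.mem_centralizer_singleton_iff]
    have hi := inv_of_pair i.2.1 i.2.2
    have hxs : s * g⁻¹ * s⁻¹ = g := by
      rw [show s * g⁻¹ * s⁻¹ = (s * g * s⁻¹)⁻¹ by group, hsg, inv_inv]
    calc s⁻¹ * i.1 * g = s⁻¹ * (i.1 * g * i.1⁻¹) * i.1 := by group
      _ = s⁻¹ * g⁻¹ * i.1 := by rw [hi]
      _ = s * g⁻¹ * s⁻¹ * (s * i.1) := by rw [hsi, mul_assoc (s * g⁻¹) s, ← mul_assoc s s, hss, one_mul]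
      _ = g * (s⁻¹ * i.1) := by rw [hxs, hsi]
  · exact Finset.card_eq_zero.2 (Finset.filter_eq_empty_iff.2 fun i _ hi =>
      hR ⟨hg, i, hi.1, inv_of_pair hi.1 hi.2⟩)

theorem Cfg.pairs_kernel (C : Cfg a b U g₀ α e) {u : U} (hu : u ≠ 1) [Decidable (u * u = 1)] :
    pairs (u : G) = if u * u = 1 then e - 1 else 0 := by
  classical
  haveI := Fintype.ofFinite U
  have hmem : ∀ i : G, orderOf i = 2 → orderOf (i⁻¹ * (u : G)) = 2 →
      ∃ hi : i ∈ U, (⟨i, hi⟩ : U) ∈ Subgroup.center U ∧
        (⟨i, hi⟩ : U)⁻¹ * u ∈ Subgroup.center U := by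
    intro i hi hj
    have h := inv_of_pair hi hj
    have hia : i • a = a := by
      refine C.fix _ u.2 (fun h1 => hu (Subtype.ext h1)) (i • a) ?_
      have h' : (u : G) * i = i * (u : G)⁻¹ := by
        rw [← inv_inj] at h
        rw [show (i * (u : G) * i⁻¹)⁻¹ = i * (u : G)⁻¹ * i⁻¹ by group, inv_inv] at h
        exact (mul_inv_eq_iff_eq_mul.1 h).symm
      rw [← mul_smul, h', mul_smul, show (u : G)⁻¹ • a = a from C.le (inv_mem u.2)]
    have hiU := C.invol_mem (by rw [← sq, ← hi, pow_orderOf_eq_one]) hia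
    refine ⟨hiU, (C.frame.center_iff _).2 (Subtype.ext ?_), (C.frame.center_iff _).2 (Subtype.ext ?_)⟩
    · show i * i = 1
      rw [← sq, ← hi, pow_orderOf_eq_one]
    · show i⁻¹ * u * (i⁻¹ * u) = (1 : G)
      rw [← sq, ← hj, pow_orderOf_eq_one]
  unfold pairs
  split_ifs with h2
  · have hucen := (C.frame.center_iff u).2 h2
    have hZ : ((Finset.univ.filter fun z : U => z * z = 1).erase 1).erase u =
        Finset.univ.filter fun z : U => orderOf (z : G) = 2 ∧ orderOf ((z : G)⁻¹ * (u : G)) = 2 := by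
      ext z
      simp only [Finset.mem_erase, Finset.mem_filter, Finset.mem_univ, true_and]
      constructor
      · rintro ⟨hzu, hz1, hz2⟩
        refine ⟨orderOf_eq_prime (by rw [sq, ← Subgroup.coe_mul, hz2, Subgroup.coe_one])
          (fun h => hz1 (Subtype.ext h)), orderOf_eq_prime ?_ (fun h => hzu (Subtype.ext
          (inv_mul_eq_one.1 h)))⟩
        have h := (C.frame.center_iff _).1 (mul_mem (inv_mem ((C.frame.center_iff z).2 hz2)) hucen)
        rw [sq]
        exact congrArg Subtype.val h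
      · rintro ⟨h1, h3⟩
        refine ⟨fun h => ?_, fun h => ?_, Subtype.ext ?_⟩
        · rw [h, inv_mul_cancel, orderOf_one] at h3; omega
        · rw [h, Subgroup.coe_one, orderOf_one] at h1; omega
        · show (z : G) * z = 1
          rw [← sq, ← h1, pow_orderOf_eq_one]
    have hcard : (Finset.univ.filter fun z : U => z * z = 1).card = e + 1 := by
      rw [← C.frame.card_center, Nat.card_eq_fintype_card, Fintype.card_subtype]
      congr 1
      ext z
      simp [C.frame.center_iff]
    have hc2 : (((Finset.univ.filter fun z : U => z * z = 1).erase 1).erase u).card = e - 1 := by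
      rw [Finset.card_erase_of_mem (by simp [hu, h2]), Finset.card_erase_of_mem (by simp), hcard]
      omega
    rw [← hc2, hZ]
    symm
    refine Finset.card_bij (fun z _ => (z : G)) (fun z hz => ?_)
      (fun z _ z' _ h => Subtype.ext h) fun i hi => ?_
    · exact Finset.mem_filter.2 ⟨Finset.mem_univ _, (Finset.mem_filter.1 hz).2⟩
    · obtain ⟨h1, h3⟩ := (Finset.mem_filter.1 hi).2
      obtain ⟨hiU, -, -⟩ := hmem i h1 h3
      exact ⟨⟨i, hiU⟩, Finset.mem_filter.2 ⟨Finset.mem_univ _, h1, h3⟩, rfl⟩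
  · refine Finset.card_eq_zero.2 (Finset.filter_eq_empty_iff.2 fun i _ hi => h2 ?_)
    obtain ⟨hiU, hz1, hz2⟩ := hmem i hi.1 hi.2
    refine (C.frame.center_iff u).1 ?_
    have := mul_mem hz1 hz2
    rwa [mul_inv_cancel_left] at this

theorem Cfg.pairs_two (C : Cfg a b U g₀ α e) {g : G} {p r : Ω} (hpr : p ≠ r) (hg1 : g ≠ 1)
    (hp : g • p = p) (hr : g • r = r) : pairs g = e := by
  classical
  have hcard : Nat.card ↥(stabilizer G p ⊓ stabilizer G r) = e := by
    rw [CfsgLib.Zass.card_pair C.zass C.hab hpr, C.card_pair]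
  have hodd : Odd (Nat.card ↥(stabilizer G p ⊓ stabilizer G r)) := by
    rw [CfsgLib.Zass.card_pair C.zass C.hab hpr]; exact C.odd
  obtain ⟨-, -, hinv⟩ := zass_simple_pair C.zass hpr hodd
  obtain ⟨s, -, hsp, hsr⟩ := (Cfsg.Agent.S0740.result C.zass hpr).1
  rw [← hcard]
  unfold pairs
  rw [← Fintype.card_subtype, ← Nat.card_eq_fintype_card]
  have hswap : ∀ i : G, orderOf i = 2 → orderOf (i⁻¹ * g) = 2 → i • p = r ∧ i • r = p := by
    intro i hi hj
    have h := inv_of_pair hi hj
    obtain ⟨q, hq, huniq⟩ := C.invol_fix hi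
    have hii : i * i = 1 := by rw [← sq, ← hi, pow_orderOf_eq_one]
    have hmv : ∀ c : Ω, g • c = c → g • i • c = i • c := fun c hc => by
      have h' : g * i = i * g⁻¹ := by
        rw [← inv_inj] at h
        rw [show (i * g * i⁻¹)⁻¹ = i * g⁻¹ * i⁻¹ by group, inv_inv] at h
        exact (mul_inv_eq_iff_eq_mul.1 h).symm
      rw [← mul_smul, h', mul_smul, inv_smul_eq_iff.2 hc.symm]
    have hback : ∀ c : Ω, i • i • c = c := fun c => by rw [← mul_smul, hii, one_smul]
    rcases CfsgLib.Zass.eq_or_eq C.zass hpr hg1 hp hr (hmv p hp) with h1 | h1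
    · exfalso
      have h2 : i • r = r := by
        rcases CfsgLib.Zass.eq_or_eq C.zass hpr hg1 hp hr (hmv r hr) with h2 | h2
        · exact absurd (by rw [← hback r, h2, h1]) hpr
        · exact h2
      exact hpr ((huniq p h1).trans (huniq r h2).symm)
    · exact ⟨h1, by rw [← h1, hback]⟩
  have hsw : ∀ t ∈ stabilizer G p ⊓ stabilizer G r, orderOf (s * t) = 2 ∧
      orderOf ((s * t)⁻¹ * g) = 2 := by
    intro t ht
    have h1 : (s * t) • p = r := by rw [mul_smul, show t • p = p from ht.1, hsp]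
    have h2 : (s * t) • r = p := by rw [mul_smul, show t • r = r from ht.2, hsr]
    have ho := zass_swap_orderOf C.zass hpr hodd h1 h2
    refine ⟨ho, pair_of_inv ho (hinv _ h1 h2 g ⟨hp, hr⟩) fun he => hpr ?_⟩
    rw [← hp, he, h1]
  refine Nat.card_congr
    { toFun := fun i => ⟨s⁻¹ * i.1,
        show (s⁻¹ * i.1) • p = p by rw [mul_smul, (hswap _ i.2.1 i.2.2).1, inv_smul_eq_iff, hsp],
        show (s⁻¹ * i.1) • r = r by rw [mul_smul, (hswap _ i.2.1 i.2.2).2, inv_smul_eq_iff, hsr]⟩
      invFun := fun t => ⟨s * (t : G), hsw _ t.2⟩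
      left_inv := fun i => Subtype.ext (mul_inv_cancel_left _ _)
      right_inv := fun t => Subtype.ext (inv_mul_cancel_left _ _) }

open scoped Classical in
/-- The weighted count of the real elements without fixed points. -/
theorem Cfg.sum_rev (C : Cfg a b U g₀ α e) :
    2 * ∑ x ∈ Finset.univ.filter (fun x : G => Rev Ω x),
        Nat.card (Subgroup.centralizer ({x} : Set G)) = Nat.card G * (e + 1) ∧
      2 * (Finset.univ.filter fun x : G => Rev Ω x).card < Nat.card G := by
  obtain ⟨hh, -⟩ := C.index_eq_q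
  haveI := Fintype.ofFinite U
  haveI := C.zass.1
  set h := Nat.card U with hhdef
  set I := Finset.univ.filter fun i : G => orderOf i = 2 with hI
  have hIc : I.card = e * (h + 1) := by
    have hI' := zass_card_involutions C.zass C.hab C.odd
    rw [if_pos C.odd_points, ← C.card, Nat.add_sub_cancel, C.card_pair] at hI'
    have h' : Nat.card {x : G // orderOf x = 2} = e * (h + 1) :=
      Nat.eq_of_mul_eq_mul_right (Nat.card_pos (α := U)) (hI'.trans (by ring))
    rw [← h', Nat.card_eq_fintype_card, Fintype.card_subtype]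
  have htot : ∑ g : G, pairs g = I.card * I.card := by
    simp only [pairs, Finset.card_filter]
    rw [Finset.sum_comm]
    calc ∑ i : G, ∑ g : G, (if orderOf i = 2 ∧ orderOf (i⁻¹ * g) = 2 then 1 else 0)
        = ∑ i : G, if orderOf i = 2 then I.card else 0 := by
          refine Finset.sum_congr rfl fun i _ => ?_
          split_ifs with hi
          · rw [hI, Finset.card_filter]
            exact Fintype.sum_equiv (Equiv.mulLeft i⁻¹) _ _ fun g => by simp [hi]; congr
          · simp [hi]
      _ = I.card * I.card := by rw [← Finset.sum_filter, Finset.sum_const, smul_eq_mul]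
  set F := Finset.univ.filter fun g : G => ∀ c : Ω, g • c ≠ c with hF
  set S1 := Finset.univ.filter fun g : G => g ≠ 1 ∧ ∃ p : Ω, g • p = p ∧ ∀ c, g • c = c → c = p
    with hS1
  set S2 := Finset.univ.filter fun g : G => g ≠ 1 ∧ ∃ p r : Ω, p ≠ r ∧ g • p = p ∧ g • r = r
    with hS2
  have hsplit : ∀ f : G → ℕ, ∑ g : G, f g =
      f 1 + (∑ g ∈ S1, f g) + (∑ g ∈ S2, f g) + ∑ g ∈ F, f g := by
    intro f
    have hpt : ∀ g : G, f g = (if g = 1 then f g else 0) +
        (if g ≠ 1 ∧ ∃ p : Ω, g • p = p ∧ ∀ c, g • c = c → c = p then f g else 0) +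
        (if g ≠ 1 ∧ ∃ p r : Ω, p ≠ r ∧ g • p = p ∧ g • r = r then f g else 0) +
        (if ∀ c : Ω, g • c ≠ c then f g else 0) := by
      intro g
      by_cases h1 : g = 1
      · subst h1
        have : ¬ ∀ c : Ω, (1 : G) • c ≠ c := fun h => h a (one_smul G a)
        rw [if_pos rfl, if_neg (fun h => h.1 rfl), if_neg (fun h => h.1 rfl), if_neg this]
        simp
      by_cases hf : ∀ c : Ω, g • c ≠ c
      · rw [if_neg h1, if_neg (fun h => by obtain ⟨-, p, hp, -⟩ := h; exact hf p hp),
          if_neg (fun h => by obtain ⟨-, p, r, -, hp, -⟩ := h; exact hf p hp), if_pos hf]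
        simp
      push Not at hf
      obtain ⟨p, hp⟩ := hf
      have hnf : ¬ ∀ c : Ω, g • c ≠ c := fun h => h p hp
      by_cases hu : ∀ c, g • c = c → c = p
      · rw [if_neg h1, if_pos ⟨h1, p, hp, hu⟩, if_neg (fun h => by
          obtain ⟨-, x, y, hxy, hx, hy⟩ := h
          exact hxy ((hu x hx).trans (hu y hy).symm)), if_neg hnf]
        simp
      · push Not at hu
        obtain ⟨r, hr, hrp⟩ := hu
        rw [if_neg h1, if_neg (fun h => by
          obtain ⟨-, x, -, hux⟩ := h
          exact hrp ((hux r hr).trans (hux p hp).symm)),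
          if_pos ⟨h1, p, r, Ne.symm hrp, hp, hr⟩, if_neg hnf]
        simp
    rw [Finset.sum_congr rfl fun g _ => hpt g, Finset.sum_add_distrib, Finset.sum_add_distrib,
      Finset.sum_add_distrib, Finset.sum_ite_eq' Finset.univ, if_pos (Finset.mem_univ _),
      ← Finset.sum_filter, ← Finset.sum_filter, ← Finset.sum_filter, ← hS1, ← hS2, ← hF]
  -- the elements with one fixed point
  have ht : ∀ c : Ω, ∃ t : G, t • a = c := fun c => by
    haveI := C.zass.2.1
    haveI : IsPretransitive G Ω := MulAction.isPretransitive_of_is_two_pretransitive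
    exact exists_smul_eq G a c
  choose t ht using ht
  set J := Finset.univ.filter fun u : U => u ≠ 1 with hJ
  have hone : ∀ f : G → ℕ, (∀ g x, f (x * g * x⁻¹) = f g) →
      ∑ g ∈ S1, f g = (h + 1) * ∑ u ∈ J, f u := by
    intro f hf
    have hc1 : h + 1 = (Finset.univ : Finset Ω).card := by rw [Finset.card_univ, ← C.card]
    rw [hc1, ← smul_eq_mul, ← Finset.sum_const, ← Finset.sum_product']
    refine (Finset.sum_bij (fun p _ => t p.1 * (p.2 : G) * (t p.1)⁻¹) (fun p hp => ?_)
      (fun p hp p' hp' h => ?_) (fun g hg => ?_) fun p _ => (hf _ _).symm).symm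
    · have hu : (p.2 : G) ≠ 1 := fun hu => (Finset.mem_filter.1 (Finset.mem_product.1 hp).2).2
        (Subtype.ext hu)
      refine Finset.mem_filter.2 ⟨Finset.mem_univ _, fun h1 => hu (conj_eq_one_iff.1 h1), p.1,
        ?_, fun c hc => ?_⟩
      · rw [mul_smul, mul_smul, inv_smul_eq_iff.2 (ht p.1).symm, show (p.2 : G) • a = a from
          C.le p.2.2, ht]
      · rw [mul_smul, mul_smul] at hc
        have := C.fix _ p.2.2 hu _ (eq_inv_smul_iff.2 hc)
        rw [inv_smul_eq_iff, ht] at this
        exact this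
    · obtain ⟨c, u⟩ := p
      obtain ⟨c', u'⟩ := p'
      dsimp only at h
      have hu' : (u' : G) ≠ 1 := fun hu => (Finset.mem_filter.1 (Finset.mem_product.1 hp').2).2
        (Subtype.ext hu)
      have hfx : (t c' * (u' : G) * (t c')⁻¹) • c = c := by
        rw [← h, mul_smul, mul_smul, inv_smul_eq_iff.2 (ht c).symm,
          show (u : G) • a = a from C.le u.2, ht]
      rw [mul_smul, mul_smul] at hfx
      have hcc := C.fix _ u'.2 hu' _ (eq_inv_smul_iff.2 hfx)
      rw [inv_smul_eq_iff, ht] at hcc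
      subst hcc
      exact Prod.ext rfl (Subtype.ext (mul_left_cancel (mul_right_cancel h)))
    · obtain ⟨hg1, p, hp, hu⟩ := (Finset.mem_filter.1 hg).2
      have hz : ((t p)⁻¹ * g * t p) • a = a := by
        rw [mul_smul, mul_smul, ht, hp, inv_smul_eq_iff, ht]
      have hzU := zass_mem_kernel C.zass U C.le C.card C.fix hz fun c hc => by
        rw [mul_smul, mul_smul, inv_smul_eq_iff] at hc
        have := hu _ hc
        exact smul_left_cancel (t p) (this.trans (ht p).symm)
      refine ⟨(p, ⟨_, hzU⟩), Finset.mem_product.2 ⟨Finset.mem_univ _, Finset.mem_filter.2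
        ⟨Finset.mem_univ _, fun h1 => hg1 ?_⟩⟩, by group⟩
      have h1' : (t p)⁻¹ * g * t p = 1 := congrArg Subtype.val h1
      calc g = t p * ((t p)⁻¹ * g * t p) * (t p)⁻¹ := by group
        _ = 1 := by rw [h1']; group
  have hJc : J.card = h - 1 := by
    rw [hJ, Finset.filter_ne', Finset.card_erase_of_mem (Finset.mem_univ _), Finset.card_univ,
      hhdef, Nat.card_eq_fintype_card]
  have hS1c : S1.card = (h + 1) * (h - 1) := by
    have := hone (fun _ => 1) fun _ _ => rfl
    simpa [hJc] using this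
  have hS1p : ∑ g ∈ S1, pairs g = (h + 1) * (e * (e - 1)) := by
    rw [hone pairs fun g x => pairs_conj g x]
    congr 1
    rw [Finset.sum_congr rfl fun u hu => C.pairs_kernel (Finset.mem_filter.1 hu).2,
      ← Finset.sum_filter, Finset.sum_const, smul_eq_mul]
    congr 1
    rw [Finset.filter_filter, show (Finset.univ.filter fun u : U => u ≠ 1 ∧ u * u = 1) =
      (Finset.univ.filter fun z : U => z * z = 1).erase 1 by ext z; simp [and_comm],
      Finset.card_erase_of_mem (by simp)]
    have : (Finset.univ.filter fun z : U => z * z = 1).card = e + 1 := by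
      rw [← C.frame.card_center, Nat.card_eq_fintype_card, Fintype.card_subtype]
      congr 1
      ext z
      simp [C.frame.center_iff]
    omega
  have hS2p : ∑ g ∈ S2, pairs g = S2.card * e := by
    rw [Finset.sum_congr rfl (g := fun _ => e), Finset.sum_const, smul_eq_mul]
    intro g hg
    obtain ⟨hg1, p, r, hpr, hp, hr⟩ := (Finset.mem_filter.1 hg).2
    exact C.pairs_two hpr hg1 hp hr
  have hFp : ∑ g ∈ F, pairs g = ∑ x ∈ Finset.univ.filter (fun x : G => Rev Ω x),
      Nat.card (Subgroup.centralizer ({x} : Set G)) := by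
    rw [Finset.sum_congr rfl fun g hg => C.rev_of_pairs (Finset.mem_filter.1 hg).2,
      ← Finset.sum_filter, Finset.filter_filter]
    refine Finset.sum_congr (Finset.filter_congr fun g _ => ⟨fun h => h.2, fun h => ⟨h.1, h⟩⟩)
      fun _ _ => rfl
  have h1p : pairs (1 : G) = I.card := by
    simp only [pairs, mul_one, orderOf_inv, and_self, hI]
  have hF2 := zass_two_mul_fpf C.zass C.hab
  rw [← hF, ← C.card, show Nat.card U + 1 - 1 = h from Nat.add_sub_cancel _ _,
    show Nat.card U + 1 - 2 = h - 1 by omega] at hF2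
  have hcardG : Nat.card G = (h + 1) * (h * e) := C.card_group
  have hall := hsplit fun _ => 1
  simp only [Finset.sum_const, Finset.card_univ, smul_eq_mul, mul_one, ← Nat.card_eq_fintype_card,
    hS1c] at hall
  have hsum := hsplit pairs
  rw [htot, h1p, hS1p, hS2p, hFp, hIc] at hsum
  have hlt := C.lt
  refine ⟨?_, ?_⟩
  · have he3 := C.frame.three_le
    obtain ⟨f, hf⟩ : ∃ f, e = f + 1 := ⟨e - 1, by omega⟩
    obtain ⟨k, hk⟩ : ∃ k, h = k + 1 := ⟨h - 1, by omega⟩
    rw [show e - 1 = f by omega] at hsum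
    rw [show h - 1 = k by omega] at hall hF2
    have hS2c : 2 * S2.card = (h + 1) * h * f := by
      have h1 : 2 * S2.card + 2 * (1 + (h + 1) * k) + (Nat.card G - h * k) = 2 * Nat.card G := by
        omega
      have h2 : h * k ≤ Nat.card G := by omega
      zify [h2] at h1 ⊢
      rw [hcardG] at h1
      push_cast at h1
      rw [hk, hf] at h1
      rw [hk]
      push_cast at h1 ⊢
      linarith
    rw [hcardG]
    have : 2 * (e * (h + 1) * (e * (h + 1))) = 2 * (e * (h + 1)) + 2 * ((h + 1) * (e * f)) +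
        (h + 1) * h * f * e + 2 * ∑ x ∈ Finset.univ.filter (fun x : G => Rev Ω x),
          Nat.card (Subgroup.centralizer ({x} : Set G)) := by
      rw [hsum, ← hS2c]; ring
    rw [hf] at this ⊢
    linarith
  · have hsub : (Finset.univ.filter fun x : G => Rev Ω x).card ≤ F.card :=
      Finset.card_le_card fun x hx =>
        Finset.mem_filter.2 ⟨Finset.mem_univ _, (Finset.mem_filter.1 hx).2.1⟩
    have : 0 < h * (h - 1) := Nat.mul_pos (by omega) (by omega)
    omega

end CfsgLib.SuzTop
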