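import Cfsg.Agent.Suz.Induced
import Cfsg.Agent.Char.FrobeniusMeans
import Cfsg.Agent.Char.ZassenhausFeit

/-!
The constituents of the permutation character on the cosets of the kernel.
-/

set_option autoImplicit false
set_option linter.unusedSectionVars false
set_option linter.style.haveILetI false

namespace CfsgLib.SuzTop

open MulAction CfsgLib.Char
open scoped ComplexConjugate

variable {G Ω : Type*} [Group G] [Fintype G] [IsSimpleGroup G] [MulAction G Ω] [Fintype Ω]
variable {a b : Ω} {H : Subgroup G} {g₀ : G} {α : MulAut H} {e : ℕ}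

/-- The principal series and the Steinberg character. -/
theorem Cfg.exists_principal (C : Cfg a b H g₀ α e) :
    ∃ (St : G → ℂ) (Ψ : Finset (G → ℂ)), Cfsg.IsIrrCharacter G St ∧ St 1 = (Nat.card H : ℂ) ∧
      (∀ u : H, u ≠ 1 → St u = 0) ∧
      (∀ ψ ∈ Ψ, Cfsg.IsIrrCharacter G ψ ∧ ψ 1 = (Nat.card H : ℂ) + 1 ∧
        ∀ u : H, u ≠ 1 → ψ u = 1) ∧
      e ≤ 2 * Ψ.card + 1 := by
  classical
  have hZ := C.zass
  have hab := C.hab
  have hodd := C.odd
  have hHa := C.le
  have hHcard := C.card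
  have hHfix := C.fix
  have hlt := C.lt
  haveI := Fintype.ofFinite (stabilizer G a)
  set A := H.subgroupOf (stabilizer G a) with hAdef
  obtain ⟨hTI0, hN0⟩ := zassenhaus_kernel_TI hZ a H hHa hHcard hHfix
  haveI : A.Normal := by
    rw [hAdef, ← hN0]; exact Subgroup.normal_in_normalizer
  set hn := Nat.card H with hhn
  have he := C.card_pair
  have he3 := C.frame.three_le
  obtain ⟨hcyc, -, -⟩ := zass_simple_pair hZ hab hodd
  have hC : ∀ k ∈ A, k ≠ 1 → Subgroup.centralizer ({k} : Set (stabilizer G a)) ≤ A :=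
    fun k hk hk1 x hx => zass_kernel_centralizer hZ H hHa hHcard hHfix x.2 hk
      (fun h => hk1 (Subtype.ext h))
      (congrArg Subtype.val (Subgroup.mem_centralizer_singleton_iff.1 hx))
  have hAcard : Nat.card A = hn := Nat.card_congr (Subgroup.subgroupOfEquivOfLe hHa).toEquiv
  have hNcard : Nat.card (stabilizer G a) = hn * e := C.card_stab
  have hAidx : A.index = e := by
    refine Nat.eq_of_mul_eq_mul_left (show 0 < Nat.card A from Nat.card_pos) ?_
    rw [A.card_mul_index, hNcard, hAcard]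
  have hG : Nat.card G = (hn + 1) * (hn * e) := C.card_group
  have hNidx : (stabilizer G a).index = hn + 1 := by
    refine Nat.eq_of_mul_eq_mul_left (show 0 < Nat.card (stabilizer G a) from Nat.card_pos) ?_
    rw [(stabilizer G a).card_mul_index, hG, hNcard]; ring
  -- the quotient by the kernel is cyclic
  have hquot : ∀ x y : (stabilizer G a), x * y * x⁻¹ * y⁻¹ ∈ A := by
    set E : Subgroup (stabilizer G a) := (stabilizer G a ⊓ stabilizer G b).subgroupOf (stabilizer G a) with hE
    let f : E →* (stabilizer G a) ⧸ A := (QuotientGroup.mk' A).comp E.subtype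
    have hinj : Function.Injective f := by
      rw [injective_iff_map_eq_one]
      intro z hz
      have h1 : ((z : (stabilizer G a)) : G) ∈ H := (QuotientGroup.eq_one_iff (z : (stabilizer G a))).1 hz
      by_contra hne
      exact hab (hHfix _ h1 (fun h => hne (Subtype.ext (Subtype.ext h))) b
        ((Subgroup.mem_subgroupOf.1 z.2).2)).symm
    have hbij : Function.Bijective f := hinj.bijective_of_nat_card_le (le_of_eq (by
      rw [← Subgroup.index_eq_card, hAidx, ← he]
      exact (Nat.card_congr (Subgroup.subgroupOfEquivOfLe inf_le_left).toEquiv).symm))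
    obtain ⟨g₀, hg₀⟩ := hcyc.exists_generator
    have hcommE : ∀ p q : E, p * q = q * p := fun p q => by
      haveI := hcyc
      exact (Subgroup.subgroupOfEquivOfLe (inf_le_left (b := stabilizer G b) :
        stabilizer G a ⊓ stabilizer G b ≤ (stabilizer G a))).injective (by
          rw [map_mul, map_mul]; exact (IsCyclic.commGroup).mul_comm _ _)
    intro x y
    refine (QuotientGroup.eq_one_iff _).1 ?_
    obtain ⟨p, hp⟩ := hbij.2 (QuotientGroup.mk' A x)
    obtain ⟨q, hq⟩ := hbij.2 (QuotientGroup.mk' A y)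
    show QuotientGroup.mk' A (x * y * x⁻¹ * y⁻¹) = 1
    rw [map_mul, map_mul, map_mul, map_inv, map_inv, ← hp, ← hq, ← map_mul, hcommE, map_mul]
    group
  haveI := Fintype.ofFinite A
  -- splitting off the value at the identity
  have hsplit : ∀ (f : A → ℂ) (c : ℂ), (∀ k : A, k ≠ 1 → f k = c) →
      ∑ k : A, f k = f 1 + ((hn : ℂ) - 1) * c := by
    intro f c hc
    rw [← Finset.add_sum_erase _ _ (Finset.mem_univ (1 : A)),
      Finset.sum_congr rfl fun k hk => hc k (Finset.ne_of_mem_erase hk), Finset.sum_const,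
      Finset.card_erase_of_mem (Finset.mem_univ _), Finset.card_univ, ← Nat.card_eq_fintype_card,
      hAcard, nsmul_eq_mul, Nat.cast_sub (by omega), Nat.cast_one]
  set T := trivialOn A with hTdef
  -- sums over the kernel
  have hmean : ∀ φ : G → ℂ, Cfsg.IsClassFunction G φ →
      ∑ k : A, φ ((k : (stabilizer G a)) : G) = (hn : ℂ) * ∑ β ∈ T, Cfsg.classInner φ (Cfsg.indFun (stabilizer G a) β) := by
    intro φ hφ
    have h := sum_kernel_eq hC hquot (φ := fun x : (stabilizer G a) => φ x) fun x y => hφ x y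
    rw [hAcard] at h
    rw [h]
    congr 1
    exact Finset.sum_congr rfl fun β _ => (classInner_indFun_right hφ β).symm
  have hone : (fun _ => (1 : ℂ)) ∈ T := mem_trivialOn.2 ⟨isIrrCharacter_one, fun _ _ => rfl⟩
  -- the permutation character
  set π := Cfsg.indFun (stabilizer G a) (fun _ => (1 : ℂ)) with hπdef
  haveI : IsPretransitive G Ω := by
    haveI := hZ.2.1
    exact MulAction.isPretransitive_of_is_two_pretransitive
  have hπval : π = fun g : G => (Nat.card (fixedBy Ω g) : ℂ) := indFun_one_stabilizer a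
  set χp : G → ℂ := π - fun _ => 1 with hχp
  have hχpirr : Cfsg.IsIrrCharacter G χp := by
    rw [hχp, hπval]
    exact (Cfsg.Agent.S0157.result Ω (by rw [Nat.card_eq_fintype_card]; omega)).2 hZ.2.1
  have hχp1 : χp 1 = (hn : ℂ) := by
    rw [hχp, Pi.sub_apply, hπdef, indFun_one, hNidx, mul_one]
    push_cast; ring
  have hχpH : ∀ k : A, k ≠ 1 → χp ((k : (stabilizer G a)) : G) = 0 := by
    intro k hk
    have h1 : ((k : (stabilizer G a)) : G) ∈ H := k.2
    have h2 : Nat.card (fixedBy Ω ((k : (stabilizer G a)) : G)) = 1 := by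
      haveI : Nonempty (fixedBy Ω ((k : (stabilizer G a)) : G)) := ⟨⟨a, hHa h1⟩⟩
      refine Nat.card_eq_one_iff_unique.2 ⟨⟨fun p q => Subtype.ext ?_⟩, inferInstance⟩
      have hne : ((k : (stabilizer G a)) : G) ≠ 1 := fun h => hk (Subtype.ext (Subtype.ext h))
      exact (hHfix _ h1 hne _ p.2).trans (hHfix _ h1 hne _ q.2).symm
    rw [hχp, Pi.sub_apply, hπval]
    show (Nat.card (fixedBy Ω ((k : (stabilizer G a)) : G)) : ℂ) - 1 = 0
    rw [h2]
    simp
  -- the principal series
  set T' := T.erase (fun _ => (1 : ℂ)) with hT'def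
  set Ψ := T'.image (Cfsg.indFun (stabilizer G a)) with hΨdef
  have hΨ : ∀ ψ ∈ Ψ, Cfsg.IsIrrCharacter G ψ ∧ ψ 1 = (hn : ℂ) + 1 ∧
      ∀ k : A, k ≠ 1 → ψ ((k : (stabilizer G a)) : G) = 1 := by
    intro ψ hψ
    obtain ⟨β, hβ, rfl⟩ := Finset.mem_image.1 hψ
    obtain ⟨hβ1, hβT⟩ := Finset.mem_erase.1 hβ
    obtain ⟨h1, h2⟩ := mem_trivialOn.1 hβT
    obtain ⟨μ, rfl⟩ := IsCharacter.exists_hom (IsIrrCharacter.isCharacter h1)
      (trivialOn_apply_one hquot hβT)
    obtain ⟨h3, h4⟩ := zass_principal_series hZ hab hodd H hHa hHcard hHfix μ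
      (fun u hu => Units.ext (by simpa using h2 u hu)) (fun h => hβ1 (by funext x; simp [h]))
    refine ⟨h3, ?_, fun k hk => h4 _ k.2 fun h => hk (Subtype.ext (Subtype.ext h))⟩
    rw [indFun_one, hNidx]
    simp
  have hΨsum : ∀ ψ ∈ Ψ, ∑ k : A, ψ ((k : (stabilizer G a)) : G) = 2 * (hn : ℂ) := by
    intro ψ hψ
    obtain ⟨-, h1, h2⟩ := hΨ ψ hψ
    rw [hsplit _ 1 h2, show ((((1 : A) : (stabilizer G a))) : G) = 1 from rfl, h1]
    ring
  have hPbound : e ≤ 2 * Ψ.card + 1 := by
    have hfib : ∀ ψ ∈ Ψ, (T'.filter fun β => Cfsg.indFun (stabilizer G a) β = ψ).card ≤ 2 := by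
      intro ψ hψ
      have hirr := (hΨ ψ hψ).1
      have h1 := hΨsum ψ hψ
      rw [hmean ψ (IsIrrCharacter.isClassFunction hirr), mul_comm (2 : ℂ)] at h1
      have h2 := mul_left_cancel₀ (Nat.cast_ne_zero.2 (by omega) : (hn : ℂ) ≠ 0) h1
      have hnat : ∀ β ∈ T, ∃ j : ℕ, Cfsg.classInner ψ (Cfsg.indFun (stabilizer G a) β) = (j : ℂ) := fun β hβ =>
        IsCharacter.exists_classInner_eq_natCast' (IsIrrCharacter.isCharacter hirr)
          (IsCharacter.indFun (IsIrrCharacter.isCharacter (mem_trivialOn.1 hβ).1))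
      choose! j hj using hnat
      rw [Finset.sum_congr rfl hj] at h2
      have h3 : ∑ β ∈ T, j β = 2 := by exact_mod_cast h2
      rw [← h3, Finset.card_eq_sum_ones]
      refine le_trans (Finset.sum_le_sum fun β hβ => ?_) (Finset.sum_le_sum_of_subset
        fun β hβ => Finset.mem_of_mem_erase (Finset.mem_filter.1 hβ).1)
      obtain ⟨hβ', hβψ⟩ := Finset.mem_filter.1 hβ
      have h4 := hj β (Finset.mem_of_mem_erase hβ')
      rw [hβψ, IsIrrCharacter.classInner_self hirr] at h4
      have : (1 : ℕ) = j β := by exact_mod_cast h4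
      omega
    have h1 := Finset.card_le_mul_card_image T' 2 hfib
    rw [← hΨdef] at h1
    have h2 : T'.card + 1 = T.card := Finset.card_erase_add_one hone
    have h3 := index_le_card_trivialOn hquot
    rw [hAidx, ← hTdef] at h3
    omega
  let j : H → A := fun u => (Subgroup.subgroupOfEquivOfLe hHa).symm u
  have hj : ∀ u : H, u ≠ 1 → j u ≠ 1 := fun u hu h => hu (by
    simpa [j] using congrArg (Subgroup.subgroupOfEquivOfLe hHa) h)
  exact ⟨χp, Ψ, hχpirr, hχp1, fun u hu => hχpH (j u) (hj u hu),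
    fun ψ hψ => ⟨(hΨ ψ hψ).1, (hΨ ψ hψ).2.1, fun u hu => (hΨ ψ hψ).2.2 (j u) (hj u hu)⟩, hPbound⟩

end CfsgLib.SuzTop
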