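import Cfsg.Agent.Suz.IndexQ
import Cfsg.Agent.Suz.FullCase
import Mathlib.GroupTheory.FixedPointFree

/-!
Real elements without fixed points.
-/

set_option autoImplicit false
set_option linter.unusedSectionVars false
set_option linter.style.haveILetI false

namespace CfsgLib.SuzTop

open MulAction CfsgLib.Char
open scoped Pointwise commutatorElement

variable {G Ω : Type*} [Group G] [Fintype G] [IsSimpleGroup G] [MulAction G Ω] [Fintype Ω]
variable {a b : Ω} {U : Subgroup G} {g₀ : G} {α : MulAut U} {e : ℕ}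

theorem Cfg.index_eq_q (C : Cfg a b U g₀ α e) :
    Nat.card U = (e + 1) ^ 2 ∧ commutator U = Subgroup.center U :=
  C.frame.card_of_index_eq (C.index.resolve_right C.index_ne_sq) C.ne_bot

theorem Cfg.sq_center (C : Cfg a b U g₀ α e) (x : U) : x * x ∈ Subgroup.center U := by
  obtain ⟨hh, hN⟩ := C.index_eq_q
  refine C.frame.sq_mem (A := Subgroup.center U) (B := ⊤) (inv_of_characteristic _)
    (fun y _ => Subgroup.mem_top _) le_top ?_ (Subgroup.mem_top x)
  rw [Subgroup.relIndex_top_right, ← hN]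
  exact C.index.resolve_right C.index_ne_sq

/-- Squaring separates the cosets of the centre. -/
theorem Cfg.sq_inj (C : Cfg a b U g₀ α e) {x y : U} (hx : x ∉ Subgroup.center U)
    (hy : y ∉ Subgroup.center U) (h : x * x = y * y) : x⁻¹ * y ∈ Subgroup.center U := by
  obtain ⟨hh, hN⟩ := C.index_eq_q
  have hZi : Inv α (Subgroup.center U) := inv_of_characteristic _
  obtain ⟨i, hi⟩ := C.frame.trans_quot hZi (fun z _ => Subgroup.mem_top _) le_top
    (by rw [Subgroup.relIndex_top_right, ← hN]; exact C.index.resolve_right C.index_ne_sq)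
    (Subgroup.mem_top x) hx (Subgroup.mem_top y) hy
  set z := ((α ^ i) x)⁻¹ * y with hz
  have hyz : y = (α ^ i) x * z := by rw [hz, mul_inv_cancel_left]
  have hyy : y * y = (α ^ i) (x * x) := by
    have hzz : z * z = 1 := (C.frame.center_iff z).1 hi
    have hc := Subgroup.mem_center_iff.1 hi ((α ^ i) x)
    rw [map_mul, hyz]
    calc (α ^ i) x * z * ((α ^ i) x * z) = (α ^ i) x * (z * (α ^ i) x) * z := by group
      _ = (α ^ i) x * ((α ^ i) x * z) * z := by rw [hc]
      _ = (α ^ i) x * (α ^ i) x * (z * z) := by group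
      _ = _ := by rw [hzz, mul_one]
  rcases C.frame.free i (x * x) (hyy ▸ h.symm) with ⟨k, hk⟩ | h1
  · rw [hk, pow_mul, C.frame.pow_e, one_pow] at hyz
    rw [hyz, MulAut.one_apply, inv_mul_cancel_left]
    exact hi
  · exact absurd ((C.frame.center_iff x).2 h1) hx

theorem Cfg.even_card (C : Cfg a b U g₀ α e) : Even (Nat.card U) := by
  rw [C.index_eq_q.1]
  have h : Even (e + 1) := (C.card_pair ▸ C.odd : Odd e).add_one
  exact h.pow_of_ne_zero two_ne_zero

theorem Cfg.odd_points (C : Cfg a b U g₀ α e) : Odd (Fintype.card Ω) := by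
  rw [← C.card]; exact C.even_card.add_one

/-- An involution fixes exactly one point. -/
theorem Cfg.invol_fix (C : Cfg a b U g₀ α e) {s : G} (hs : orderOf s = 2) :
    ∃ p : Ω, s • p = p ∧ ∀ c, s • c = c → c = p := by
  classical
  haveI := C.zass.1
  obtain ⟨c, hc⟩ : ∃ c : Ω, s • c ≠ c := by
    by_contra h
    push Not at h
    have : s = 1 := eq_of_smul_eq_smul (α := Ω) fun c => by rw [h, one_smul]
    rw [this, orderOf_one] at hs
    omega
  have hxx : s • s • c = c := by rw [smul_smul, ← sq, ← hs, pow_orderOf_eq_one, one_smul]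
  have h1 := ((Cfsg.Agent.S0740.result C.zass (Ne.symm hc)).2.1 s hs rfl hxx).1 C.odd_points
  rw [Nat.card_eq_one_iff_unique] at h1
  obtain ⟨hsub, ⟨⟨p, hp⟩⟩⟩ := h1
  exact ⟨p, hp, fun d hd => congrArg Subtype.val
    (Subsingleton.elim (⟨d, hd⟩ : fixedBy Ω s) ⟨p, hp⟩)⟩

theorem Cfg.invol_mem (C : Cfg a b U g₀ α e) {s : G} (hs : s * s = 1) (hsa : s • a = a) : s ∈ U :=
  involution_mem C.zass C.hab C.odd C.le C.card C.fix hs hsa

/-- A real element without fixed points. -/
def Rev (Ω : Type*) [MulAction G Ω] (x : G) : Prop :=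
  (∀ c : Ω, x • c ≠ c) ∧ ∃ s : G, orderOf s = 2 ∧ s * x * s⁻¹ = x⁻¹

theorem rev_conj {x : G} (h : Rev Ω x) (g : G) : Rev Ω (g * x * g⁻¹) := by
  obtain ⟨hf, s, hs, hsx⟩ := h
  refine ⟨fun c hc => hf (g⁻¹ • c) ?_, g * s * g⁻¹, ?_, ?_⟩
  · rw [mul_smul, mul_smul] at hc
    exact eq_inv_smul_iff.2 hc
  · rw [← hs, ← MulAut.conj_apply, MulEquiv.orderOf_eq]
  · rw [show g * s * g⁻¹ * (g * x * g⁻¹) * (g * s * g⁻¹)⁻¹ = g * (s * x * s⁻¹) * g⁻¹ by group, hsx]
    group

theorem Cfg.rev_ne_one (_C : Cfg a b U g₀ α e) {x : G} (h : Rev Ω x) : x ≠ 1 :=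
  fun h1 => h.1 a (h1 ▸ one_smul G a)

/-- The centraliser of an element without fixed points is semiregular. -/
theorem Cfg.cent_semireg (C : Cfg a b U g₀ α e) {x g : G} (hx : ∀ c : Ω, x • c ≠ c)
    (hg : g * x = x * g) (hg1 : g ≠ 1) (c : Ω) : g • c ≠ c := by
  intro hc
  have hxc : g • x • c = x • c := by rw [← mul_smul, hg, mul_smul, hc]
  have hd : x • c ≠ c := hx c
  rcases CfsgLib.Zass.eq_or_eq C.zass hd.symm hg1 hc hxc
    (show g • x • x • c = x • x • c by rw [← mul_smul, hg, mul_smul, hxc]) with h | h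
  · have hcd : Odd (Nat.card ↥(stabilizer G c ⊓ stabilizer G (x • c))) := by
      rw [CfsgLib.Zass.card_pair C.zass C.hab hd.symm]; exact C.odd
    obtain ⟨p, hp, -⟩ := C.invol_fix (zass_swap_orderOf C.zass hd.symm hcd rfl h)
    exact hx p hp
  · exact hd (smul_left_cancel x h)

/-- An involution inverting such an element inverts its centraliser, which is abelian. -/
theorem Cfg.rev_cent (C : Cfg a b U g₀ α e) {x s : G} (hx : ∀ c : Ω, x • c ≠ c)
    (hs : orderOf s = 2) (hsx : s * x * s⁻¹ = x⁻¹) :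
    ∀ g : G, g * x = x * g → s * g * s⁻¹ = g⁻¹ ∧ ∀ g' : G, g' * x = x * g' → g * g' = g' * g := by
  set D := Subgroup.centralizer ({x} : Set G) with hD
  have hmem : ∀ g, g ∈ D ↔ g * x = x * g := fun g => Subgroup.mem_centralizer_singleton_iff
  have hxs : s * x⁻¹ * s⁻¹ = x := by
    rw [show s * x⁻¹ * s⁻¹ = (s * x * s⁻¹)⁻¹ by group, hsx, inv_inv]
  have hclosed : ∀ g ∈ D, s * g * s⁻¹ ∈ D := fun g hg => by
    rw [hmem] at hg ⊢
    have hc : g * x⁻¹ = x⁻¹ * g := (show Commute g x from hg).inv_right.eq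
    calc s * g * s⁻¹ * x = s * g * s⁻¹ * (s * x⁻¹ * s⁻¹) := by rw [hxs]
      _ = s * (g * x⁻¹) * s⁻¹ := by group
      _ = s * x⁻¹ * s⁻¹ * (s * g * s⁻¹) := by rw [hc]; group
      _ = _ := by rw [hxs]
  let φ : D →* D :=
    { toFun := fun g => ⟨s * g * s⁻¹, hclosed g g.2⟩
      map_one' := Subtype.ext (by simp)
      map_mul' := fun g g' => Subtype.ext (by simp [mul_assoc]) }
  have hfree : MonoidHom.FixedPointFree φ := fun g hg => by
    have h : s * (g : G) * s⁻¹ = g := congrArg Subtype.val hg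
    obtain ⟨p, hp, huniq⟩ := C.invol_fix hs
    by_contra hg1
    refine C.cent_semireg hx ((hmem _).1 g.2) (fun h1 => hg1 (Subtype.ext h1)) p ?_
    refine huniq _ ?_
    rw [← mul_smul, mul_inv_eq_iff_eq_mul.1 h, mul_smul, hp]
  have hinv2 : Function.Involutive φ := fun g => Subtype.ext (by
    show s * (s * (g : G) * s⁻¹) * s⁻¹ = g
    have hss : s * s = 1 := by rw [← sq, ← hs, pow_orderOf_eq_one]
    rw [show s * (s * (g : G) * s⁻¹) * s⁻¹ = s * s * g * (s * s)⁻¹ by group, hss]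
    group)
  intro g hg
  refine ⟨?_, fun g' hg' => ?_⟩
  · exact congrArg Subtype.val (congrFun (hfree.coe_eq_inv_of_involutive hinv2) ⟨g, (hmem g).2 hg⟩)
  · exact congrArg Subtype.val
      (hfree.commute_all_of_involutive hinv2 ⟨g, (hmem g).2 hg⟩ ⟨g', (hmem g').2 hg'⟩).eq

/-- The non-identity elements of the centraliser are again real, with the same centraliser. -/
theorem Cfg.rev_mem (C : Cfg a b U g₀ α e) {x y : G} (h : Rev Ω x)
    (hy : y ∈ Subgroup.centralizer ({x} : Set G)) (hy1 : y ≠ 1) :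
    Rev Ω y ∧ Subgroup.centralizer ({y} : Set G) = Subgroup.centralizer ({x} : Set G) := by
  obtain ⟨hf, s, hs, hsx⟩ := h
  rw [Subgroup.mem_centralizer_singleton_iff] at hy
  have hyf : ∀ c : Ω, y • c ≠ c := C.cent_semireg hf hy hy1
  obtain ⟨hsy, hab'⟩ := C.rev_cent hf hs hsx y hy
  refine ⟨⟨hyf, s, hs, hsy⟩, ?_⟩
  ext g
  rw [Subgroup.mem_centralizer_singleton_iff, Subgroup.mem_centralizer_singleton_iff]
  refine ⟨fun hg => ?_, fun hg => (hab' g hg).symm⟩
  exact (C.rev_cent hyf hs hsy g hg).2 x hy.symm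

/-- The order of such a centraliser divides the number of points. -/
theorem Cfg.card_cent_dvd (C : Cfg a b U g₀ α e) {x : G} (h : Rev Ω x) :
    Nat.card (Subgroup.centralizer ({x} : Set G)) ∣ (e + 1) ^ 2 + 1 := by
  classical
  set D := Subgroup.centralizer ({x} : Set G)
  rw [← C.index_eq_q.1, C.card, ← Nat.card_eq_fintype_card,
    Nat.card_congr (MulAction.selfEquivSigmaOrbitsQuotientStabilizer D Ω), Nat.card_sigma]
  refine Finset.dvd_sum fun o _ => ?_
  have hbot : stabilizer D o.out = ⊥ := by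
    rw [Subgroup.eq_bot_iff_forall]
    intro g hg
    by_contra hg1
    exact C.cent_semireg h.1 (Subgroup.mem_centralizer_singleton_iff.1 g.2)
      (fun h1 => hg1 (Subtype.ext h1)) o.out (mem_stabilizer_iff.1 hg)
  rw [hbot]
  exact dvd_of_eq (Nat.card_congr (QuotientGroup.quotientBot).toEquiv).symm

/-- Such a centraliser has odd order at least five. -/
theorem Cfg.cent_card (C : Cfg a b U g₀ α e) {x : G} (h : Rev Ω x) :
    Odd (Nat.card (Subgroup.centralizer ({x} : Set G))) ∧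
      5 ≤ Nat.card (Subgroup.centralizer ({x} : Set G)) := by
  have hd := C.card_cent_dvd h
  have hne : Nat.card (Subgroup.centralizer ({x} : Set G)) ≠ 1 := fun h1 => C.rev_ne_one h (by
    haveI := (Nat.card_eq_one_iff_unique.1 h1).1
    exact congrArg Subtype.val (Subsingleton.elim
      (⟨x, Subgroup.mem_centralizer_singleton_iff.2 rfl⟩ : Subgroup.centralizer ({x} : Set G)) 1))
  have hpos := Nat.card_pos (α := Subgroup.centralizer ({x} : Set G))
  have hodd : Odd ((e + 1) ^ 2 + 1) := by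
    rw [← C.index_eq_q.1]; exact C.even_card.add_one
  have ho := hodd.of_dvd_nat hd
  refine ⟨ho, ?_⟩
  have h3 : ¬ 3 ∣ (e + 1) ^ 2 + 1 := by
    intro h3
    have h4 := Nat.mod_lt (e + 1) (show 3 > 0 by omega)
    have h5 : ((e + 1) % 3) ^ 2 % 3 = 2 := by rw [← Nat.pow_mod]; omega
    interval_cases (e + 1) % 3 <;> simp at h5
  obtain ⟨j, hj⟩ := ho
  by_contra hlt
  have h3' : Nat.card (Subgroup.centralizer ({x} : Set G)) = 3 := by omega
  exact h3 (h3' ▸ hd)

/-- The normaliser is twice or four times as large as the centraliser. -/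
theorem Cfg.card_normalizer (C : Cfg a b U g₀ α e) {x s : G} (hx : ∀ c : Ω, x • c ≠ c)
    (hs : orderOf s = 2) (hsx : s * x * s⁻¹ = x⁻¹) (hsa : s • a = a) :
    ∃ w, (w = 2 ∨ w = 4) ∧
      Nat.card (Subgroup.normalizer ((Subgroup.centralizer ({x} : Set G) : Subgroup G) : Set G)) =
        w * Nat.card (Subgroup.centralizer ({x} : Set G)) := by
  classical
  set D := Subgroup.centralizer ({x} : Set G) with hD
  set N := Subgroup.normalizer (D : Set G) with hN
  have hrev : Rev Ω x := ⟨hx, s, hs, hsx⟩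
  obtain ⟨hodd, h5⟩ : Odd (Nat.card D) ∧ 5 ≤ Nat.card D := C.cent_card hrev
  have hmem : ∀ g, g ∈ D ↔ g * x = x * g := fun g => Subgroup.mem_centralizer_singleton_iff
  have hxD : x ∈ D := (hmem x).2 rfl
  have hinvD : ∀ g ∈ D, s * g * s⁻¹ = g⁻¹ := fun g hg => (C.rev_cent hx hs hsx g ((hmem g).1 hg)).1
  have hsi : s⁻¹ = s := inv_eq_of_mul_eq_one_left (by rw [← sq, ← hs, pow_orderOf_eq_one])
  have hss : s * s = 1 := by rw [← sq, ← hs, pow_orderOf_eq_one]
  have hs1 : s ≠ 1 := fun h => by rw [h, orderOf_one] at hs; omega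
  have hcommD : ∀ g ∈ D, ∀ g' ∈ D, g * g' = g' * g := fun g hg g' hg' =>
    (C.rev_cent hx hs hsx g ((hmem g).1 hg)).2 g' ((hmem g').1 hg')
  have hsN : s ∈ N := by
    rw [hN, Subgroup.mem_normalizer_iff]
    intro g
    refine ⟨fun hg => by rw [hinvD g hg]; exact inv_mem hg, fun hg => ?_⟩
    have h := hinvD _ hg
    rw [show g = s⁻¹ * (s * g * s⁻¹) * s by group, hsi]
    have h' : s * (s * g * s⁻¹) * s⁻¹ ∈ D := h ▸ inv_mem hg
    rwa [hsi] at h'
  -- the involutions of the normaliser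
  have hinvN : ∀ i ∈ N, orderOf i = 2 → s⁻¹ * i ∈ D := by
    intro i hi hi2
    have hxi : i * x * i⁻¹ ∈ D := (Subgroup.mem_normalizer_iff.1 hi x).1 hxD
    have hii : i * i = 1 := by rw [← sq, ← hi2, pow_orderOf_eq_one]
    obtain ⟨p, hp, huniq⟩ := C.invol_fix hi2
    have hxix : i * x * i⁻¹ = x⁻¹ := by
      have hfix : i * (x * (i * x * i⁻¹)) * i⁻¹ = x * (i * x * i⁻¹) := by
        rw [show i * (x * (i * x * i⁻¹)) * i⁻¹ = i * x * i⁻¹ * (i * i * x * (i * i)⁻¹) by group, hii,
          one_mul, inv_one, mul_one, hcommD _ hxi _ hxD]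
      have h1 : x * (i * x * i⁻¹) = 1 := by
        by_contra hne
        refine C.cent_semireg hx ((hmem _).1 (mul_mem hxD hxi)) hne p (huniq _ ?_)
        rw [← mul_smul, mul_inv_eq_iff_eq_mul.1 hfix, mul_smul, hp]
      exact eq_inv_of_mul_eq_one_right h1
    rw [hmem]
    have h2 : s * x⁻¹ * s⁻¹ = x := by
      rw [show s * x⁻¹ * s⁻¹ = (s * x * s⁻¹)⁻¹ by group, hsx, inv_inv]
    calc s⁻¹ * i * x = s⁻¹ * (i * x * i⁻¹) * i := by group
      _ = s⁻¹ * x⁻¹ * i := by rw [hxix]
      _ = s * x⁻¹ * s⁻¹ * (s * i) := by rw [hsi, mul_assoc (s * x⁻¹) s, ← mul_assoc s s, hss, one_mul]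
      _ = x * (s⁻¹ * i) := by rw [h2, hsi]
  set K := N ⊓ Subgroup.centralizer ({s} : Set G) with hK
  have hKs : ∀ k ∈ K, k * s = s * k := fun k hk =>
    Subgroup.mem_centralizer_singleton_iff.1 hk.2
  have hKD : ∀ g, g ∈ K → g ∈ D → g = 1 := by
    intro g hgK hgD
    have h := hinvD g hgD
    rw [← hKs g hgK, mul_inv_cancel_right] at h
    have hgg : g * g = 1 := by rw [eq_inv_iff_mul_eq_one] at h; exact h
    by_contra hne
    have h2 : orderOf g = 2 := orderOf_eq_prime (by rw [sq, hgg]) hne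
    have hdvd : orderOf g ∣ Nat.card D := Subgroup.orderOf_dvd_natCard D hgD
    rw [h2] at hdvd
    obtain ⟨j, hj⟩ := hodd
    omega
  have hKU : K ≤ U := by
    intro k hk
    have hka : k • a = a := C.fix _ (C.invol_mem hss hsa) hs1 _ (by
      rw [← mul_smul, ← hKs k hk, mul_smul, hsa])
    exact zass_kernel_centralizer C.zass U C.le C.card C.fix hka (C.invol_mem hss hsa) hs1
      (hKs k hk)
  have hDN : D ≤ N := Subgroup.le_normalizer
  have hsK : s ∈ K := ⟨hsN, Subgroup.mem_centralizer_singleton_iff.2 rfl⟩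
  have hinvK : ∀ k ∈ K, k * k = 1 → k = 1 ∨ k = s := by
    intro k hk hkk
    refine or_iff_not_imp_left.2 fun hk1 => ?_
    have h := hinvN k hk.1 (orderOf_eq_prime (by rw [sq, hkk]) hk1)
    exact (inv_mul_eq_one.1 (hKD _ (mul_mem (inv_mem hsK) hk) h)).symm
  -- the size of `K`
  set sU : U := ⟨s, C.invol_mem hss hsa⟩ with hsU
  let f : K → U := fun k => ⟨k, hKU k.2⟩
  have hsqK : ∀ k : K, f k ∉ Subgroup.center U → f k * f k = sU := by
    intro k hk
    have h4 : f k * f k * (f k * f k) = 1 := (C.frame.center_iff _).1 (C.sq_center _)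
    rcases hinvK ((k : G) * k) (mul_mem k.2 k.2) (congrArg Subtype.val h4) with h | h
    · exact absurd ((C.frame.center_iff _).2 (Subtype.ext h)) hk
    · exact Subtype.ext h
  have hcard4 : Nat.card K ≤ 4 := by
    haveI := Fintype.ofFinite K
    rw [Nat.card_eq_fintype_card, ← Finset.card_univ]
    have hcen : (Finset.univ.filter fun k : K => f k ∈ Subgroup.center U).card ≤ 2 := by
      refine (Finset.card_le_card (t := {1, ⟨s, hsK⟩}) fun k hk => ?_).trans Finset.card_le_two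
      have h := (C.frame.center_iff _).1 (Finset.mem_filter.1 hk).2
      rcases hinvK k k.2 (congrArg Subtype.val h) with h' | h'
      · simp [show k = 1 from Subtype.ext h']
      · simp [show k = ⟨s, hsK⟩ from Subtype.ext h']
    have hnc : (Finset.univ.filter fun k : K => f k ∉ Subgroup.center U).card ≤ 2 := by
      rcases (Finset.univ.filter fun k : K => f k ∉ Subgroup.center U).eq_empty_or_nonempty with
        he | ⟨k₀, hk₀⟩
      · simp [he]
      refine (Finset.card_le_card (t := {k₀, k₀ * ⟨s, hsK⟩}) fun k hk => ?_).trans Finset.card_le_two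
      have hk' := (Finset.mem_filter.1 hk).2
      have hk₀' := (Finset.mem_filter.1 hk₀).2
      have h := (C.frame.center_iff _).1
        (C.sq_inj hk₀' hk' ((hsqK k₀ hk₀').trans (hsqK k hk').symm))
      rcases hinvK ((k₀ : G)⁻¹ * k) (mul_mem (inv_mem k₀.2) k.2) (congrArg Subtype.val h) with h' | h'
      · simp [show k = k₀ from (Subtype.ext (inv_mul_eq_one.1 h')).symm]
      · simp [show k = k₀ * ⟨s, hsK⟩ from Subtype.ext (show (k : G) = k₀ * s by rw [← h', mul_inv_cancel_left])]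
    have := Finset.card_filter_add_card_filter_not (s := (Finset.univ : Finset K))
      (fun k => f k ∈ Subgroup.center U)
    omega
  have hK24 : Nat.card K = 2 ∨ Nat.card K = 4 := by
    have h2 : 2 ∣ Nat.card K := hs ▸ Subgroup.orderOf_dvd_natCard K hsK
    have := Nat.card_pos (α := K)
    omega
  refine ⟨Nat.card K, hK24, ?_⟩
  rw [← Nat.card_prod]
  refine (Nat.card_congr (Equiv.ofBijective (fun p : K × D => (⟨(p.1 : G) * (p.2 : G),
    mul_mem p.1.2.1 (hDN p.2.2)⟩ : N)) ⟨?_, ?_⟩)).symm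
  · rintro ⟨k, d⟩ ⟨k', d'⟩ h
    have h' : (k : G) * d = k' * d' := congrArg Subtype.val h
    have h1 : (k' : G)⁻¹ * k = d' * (d : G)⁻¹ := by
      calc (k' : G)⁻¹ * k = (k' : G)⁻¹ * ((k : G) * d) * (d : G)⁻¹ := by group
        _ = _ := by rw [h']; group
    have hk : (k' : G)⁻¹ * k = 1 :=
      hKD _ (mul_mem (inv_mem k'.2) k.2) (h1 ▸ mul_mem d'.2 (inv_mem d.2))
    have hkk : k = k' := Subtype.ext (inv_mul_eq_one.1 hk).symm
    subst hkk
    exact Prod.ext rfl (Subtype.ext (mul_left_cancel h'))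
  · rintro ⟨n, hn⟩
    set d := s⁻¹ * (n * s * n⁻¹) with hd
    have hdD : d ∈ D := hinvN _ (mul_mem (mul_mem hn hsN) (inv_mem hn))
      (by rw [← hs, ← MulAut.conj_apply, MulEquiv.orderOf_eq])
    obtain ⟨g, hgD, hgg⟩ : ∃ g ∈ D, g * g = d := by
      obtain ⟨j, hj⟩ := hodd
      refine ⟨d ^ (j + 1), pow_mem hdD _, ?_⟩
      have hp : (⟨d, hdD⟩ : D) ^ Nat.card D = 1 := pow_card_eq_one'
      have hp' := congrArg Subtype.val hp
      simp only [SubmonoidClass.coe_pow, OneMemClass.coe_one] at hp'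
      rw [← pow_add, show j + 1 + (j + 1) = Nat.card D + 1 by omega, pow_succ, hp', one_mul]
    have hgs : g⁻¹ * s * g = s * d := by
      have h := hinvD g hgD
      calc g⁻¹ * s * g = s * g * s⁻¹ * s * g := by rw [h]
        _ = s * (g * g) := by group
        _ = s * d := by rw [hgg]
    have hgnK : g * n ∈ K := by
      refine ⟨mul_mem (hDN hgD) hn, Subgroup.mem_centralizer_singleton_iff.2 ?_⟩
      have hn' : n * s * n⁻¹ = g⁻¹ * s * g := by rw [hgs, hd, mul_inv_cancel_left]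
      calc g * n * s = g * (n * s * n⁻¹) * n := by group
        _ = s * (g * n) := by rw [hn']; group
    have hconj : (g * n)⁻¹ * g⁻¹ * (g * n) ∈ D := by
      have h := (Subgroup.mem_normalizer_iff.1 (inv_mem (mul_mem (hDN hgD) hn)) g⁻¹).1 (inv_mem hgD)
      rwa [inv_inv] at h
    exact ⟨(⟨g * n, hgnK⟩, ⟨_, hconj⟩), Subtype.ext (by simp [mul_assoc])⟩

end CfsgLib.SuzTop
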