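import Cfsg.Agent.Suz.Frame
import Mathlib

/-!
The upper central series of such a group below the derived subgroup.
-/

set_option autoImplicit false
set_option linter.unusedSectionVars false
set_option linter.style.haveILetI false

namespace CfsgLib.SuzTop

open Subgroup
open scoped commutatorElement

variable {U : Type*} [Group U]

theorem ucs_mem_comm {j : ℕ} {b : U} (hb : b ∈ Subgroup.upperCentralSeries U (j + 1)) (y : U) :
    ⁅y, b⁆ ∈ Subgroup.upperCentralSeries U j := by
  rw [← commutatorElement_inv]
  exact inv_mem (Subgroup.mem_upperCentralSeries_succ_iff.1 hb y)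

theorem ucs_le_succ (j : ℕ) : Subgroup.upperCentralSeries U j ≤ Subgroup.upperCentralSeries U (j + 1) :=
  Subgroup.upperCentralSeries_mono U (Nat.le_succ j)

/-- The derived subgroup centralises two layers at a time. -/
theorem commutator_comm_ucs (j : ℕ) {a b : U} (ha : a ∈ commutator U)
    (hb : b ∈ Subgroup.upperCentralSeries U (j + 2)) : ⁅a, b⁆ ∈ Subgroup.upperCentralSeries U j := by
  set π := QuotientGroup.mk' (Subgroup.upperCentralSeries U j)
  set H := (Subgroup.upperCentralSeries U (j + 2)).map π
  have hHcen : ⁅(⊤ : Subgroup (U ⧸ Subgroup.upperCentralSeries U j)), H⁆ ≤ center _ := by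
    rw [commutator_le]
    rintro x - _ ⟨b', hb', rfl⟩
    obtain ⟨x, rfl⟩ := QuotientGroup.mk'_surjective _ x
    rw [mem_center_iff]
    intro g
    obtain ⟨g, rfl⟩ := QuotientGroup.mk'_surjective _ g
    rw [← map_commutatorElement, ← commutatorElement_eq_one_iff_mul_comm]
    refine (map_commutatorElement π g ⁅x, b'⁆).symm.trans ?_
    exact (QuotientGroup.eq_one_iff _).2 (ucs_mem_comm (ucs_mem_comm hb' x) g)
  have h1 : ⁅⁅(⊤ : Subgroup (U ⧸ Subgroup.upperCentralSeries U j)), H⁆, (⊤ : Subgroup (U ⧸ Subgroup.upperCentralSeries U j))⁆ = ⊥ :=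
    eq_bot_iff.2 ((commutator_mono hHcen le_rfl).trans (by
      rw [commutator_le]
      intro z hz g _
      rw [mem_bot, commutatorElement_eq_one_iff_mul_comm, mem_center_iff.1 hz g]))
  have h2 : ⁅⁅H, (⊤ : Subgroup (U ⧸ Subgroup.upperCentralSeries U j))⁆, (⊤ : Subgroup (U ⧸ Subgroup.upperCentralSeries U j))⁆ = ⊥ := by
    rw [commutator_comm H]; exact h1
  have h3 := commutator_commutator_eq_bot_of_rotate (H₁ := (⊤ : Subgroup (U ⧸ Subgroup.upperCentralSeries U j)))
    (H₂ := ⊤) (H₃ := H) h1 h2
  have hamem : π a ∈ ⁅(⊤ : Subgroup (U ⧸ Subgroup.upperCentralSeries U j)), (⊤ : Subgroup (U ⧸ Subgroup.upperCentralSeries U j))⁆ := by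
    rw [← Subgroup.map_top_of_surjective π (QuotientGroup.mk'_surjective _), ← map_commutator]
    exact mem_map_of_mem π (by rwa [← commutator_def])
  have h4 := commutator_mem_commutator hamem (mem_map_of_mem π hb)
  rw [h3, mem_bot, ← map_commutatorElement] at h4
  exact (QuotientGroup.eq_one_iff _).1 h4

variable [Finite U] {α : MulAut U} {e : ℕ} (D : Frame α e)
include D

/-- The layers are elementary abelian. -/
theorem Frame.ucs_sq : ∀ (j : ℕ) {b : U}, b ∈ Subgroup.upperCentralSeries U (j + 1) →
    b * b ∈ Subgroup.upperCentralSeries U j := by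
  intro j
  induction j with
  | zero =>
    intro b hb
    rw [Nat.zero_add, Subgroup.upperCentralSeries_one] at hb
    rw [Subgroup.upperCentralSeries_zero, mem_bot]
    exact (D.center_iff b).1 hb
  | succ j ih =>
    intro b hb
    rw [Subgroup.mem_upperCentralSeries_succ_iff]
    intro y
    set c := ⁅b, y⁆ with hc
    have hc1 : c ∈ Subgroup.upperCentralSeries U (j + 1) := Subgroup.mem_upperCentralSeries_succ_iff.1 hb y
    have he : ⁅b * b, y⁆ = ⁅b, c⁆ * (c * c) := by
      rw [hc]; simp only [commutatorElement_def]; group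
    rw [he]
    exact mul_mem (ucs_mem_comm hc1 b) (ih hc1)

/-- Squaring is injective between consecutive layers inside the derived subgroup. -/
theorem Frame.ucs_sq_inj : ∀ (j : ℕ) {b : U}, b ∈ commutator U →
    b ∈ Subgroup.upperCentralSeries U (j + 2) → b * b ∈ Subgroup.upperCentralSeries U j →
      b ∈ Subgroup.upperCentralSeries U (j + 1) := by
  intro j
  induction j with
  | zero =>
    intro b _ _ hb
    rw [Subgroup.upperCentralSeries_zero, mem_bot] at hb
    rw [Nat.zero_add, Subgroup.upperCentralSeries_one]
    exact (D.center_iff b).2 hb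
  | succ j ih =>
    intro b hbN hb hbb
    refine Subgroup.mem_upperCentralSeries_succ_iff.2 fun y => ?_
    set c := ⁅y, b⁆ with hc
    have hc2 : c ∈ Subgroup.upperCentralSeries U (j + 2) := ucs_mem_comm hb y
    have hcN : c ∈ commutator U := by
      rw [commutator_def]; exact commutator_mem_commutator (mem_top y) (mem_top b)
    have hbc : ⁅b, c⁆ ∈ Subgroup.upperCentralSeries U j := commutator_comm_ucs j hbN hc2
    have hcc : c * c ∈ Subgroup.upperCentralSeries U j := by
      set π := QuotientGroup.mk' (Subgroup.upperCentralSeries U j)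
      have hcomm : π b * π c = π c * π b := by
        rw [← commutatorElement_eq_one_iff_mul_comm]
        exact ((map_commutatorElement π b c).symm).trans ((QuotientGroup.eq_one_iff _).2 hbc)
      have hcen : π y * π (b * b) = π (b * b) * π y := by
        rw [← commutatorElement_eq_one_iff_mul_comm]
        exact ((map_commutatorElement π y (b * b)).symm).trans
          ((QuotientGroup.eq_one_iff _).2 (ucs_mem_comm hbb y))
      have h1 : π c * π b = π y * π b * (π y)⁻¹ := by
        rw [hc, map_commutatorElement]; simp only [commutatorElement_def]; group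
      have h2 : π c * π c * (π b * π b) = π b * π b := by
        calc π c * π c * (π b * π b) = π c * (π c * π b) * π b := by group
          _ = π c * (π b * π c) * π b := by rw [hcomm]
          _ = π c * π b * (π c * π b) := by group
          _ = π y * (π b * π b) * (π y)⁻¹ := by rw [h1]; group
          _ = π b * π b := by rw [← map_mul, hcen]; group
      refine (QuotientGroup.eq_one_iff _).1 ?_
      show π (c * c) = 1
      rw [map_mul]
      exact mul_eq_right.1 h2
    rw [← commutatorElement_inv]
    exact inv_mem (ih hcN hc2 hcc)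

end CfsgLib.SuzTop
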