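import Cfsg.Agent.Suz.Frame
import Cfsg.Agent.Recog.SuzukiTwo
import Cfsg.Agent.Char.ZassenhausFeit
import Cfsg.Agent.Char.ZassenhausInvolutions
import Cfsg.Agent.Zass.LargeFpf
import Cfsg.Agent.Zass.KernelPrimePow
import Cfsg.Agent.Zass.Sharp

/-!
The configuration of a simple Zassenhaus group with non-abelian two-kernel.
-/

set_option autoImplicit false
set_option linter.unusedSectionVars false
set_option linter.style.haveILetI false

namespace CfsgLib.SuzTop

open MulAction
open scoped commutatorElement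

variable {G Ω : Type*} [Group G] [MulAction G Ω] [Fintype Ω]

/-- The point stabiliser of a simple Zassenhaus group with non-abelian two-kernel. -/
structure Cfg (a b : Ω) (U : Subgroup G) (g₀ : G) (α : MulAut U) (e : ℕ) : Prop where
  zass : Cfsg.IsZassenhausGroup G Ω
  hab : a ≠ b
  card_pair : Nat.card ↥(stabilizer G a ⊓ stabilizer G b) = e
  odd : Odd (Nat.card ↥(stabilizer G a ⊓ stabilizer G b))
  le : U ≤ stabilizer G a
  card : Nat.card U + 1 = Fintype.card Ω
  fix : ∀ u ∈ U, u ≠ 1 → ∀ c : Ω, u • c = c → c = a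
  lt : 2 * e + 1 < Nat.card U
  frame : Frame α e
  gen_mem : g₀ ∈ stabilizer G a ⊓ stabilizer G b
  gen : ∀ g ∈ stabilizer G a ⊓ stabilizer G b, ∃ i : ℕ, g₀ ^ i = g
  conj : ∀ u : U, (α u : G) = g₀ * u * g₀⁻¹
  ne_bot : commutator U ≠ ⊥
  index : (commutator U).index = e + 1 ∨ (commutator U).index = (e + 1) ^ 2

variable {a b : Ω} {U : Subgroup G} {g₀ : G} {α : MulAut U} {e : ℕ}

theorem conj_pow {U : Subgroup G} {g₀ : G} {α : MulAut U}
    (h : ∀ u : U, (α u : G) = g₀ * u * g₀⁻¹) (i : ℕ) (u : U) :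
    ((α ^ i) u : G) = g₀ ^ i * u * (g₀ ^ i)⁻¹ := by
  induction i with
  | zero => simp
  | succ i ih => rw [pow_succ', MulAut.mul_apply, h, ih, pow_succ']; group

/-- An involution with a fixed point lies in the kernel. -/
theorem involution_mem (hZ : Cfsg.IsZassenhausGroup G Ω) (hab : a ≠ b)
    (hodd : Odd (Nat.card ↥(stabilizer G a ⊓ stabilizer G b)))
    (hUa : U ≤ stabilizer G a) (hcard : Nat.card U + 1 = Fintype.card Ω)
    (hfix : ∀ u ∈ U, u ≠ 1 → ∀ c : Ω, u • c = c → c = a)
    {z : G} (hz : z * z = 1) (hza : z • a = a) : z ∈ U := by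
  by_cases h1 : z = 1
  · rw [h1]; exact one_mem U
  refine CfsgLib.Char.zass_mem_kernel hZ U hUa hcard hfix hza fun c hc => ?_
  by_contra hca
  have hd : orderOf z ∣ Nat.card ↥(stabilizer G a ⊓ stabilizer G c) :=
    Subgroup.orderOf_dvd_natCard _ ⟨hza, hc⟩
  obtain ⟨r, hr⟩ := hodd
  rw [orderOf_eq_prime (p := 2) (by rw [sq, hz]) h1,
    CfsgLib.Zass.card_pair hZ hab (Ne.symm hca), hr] at hd
  omega

theorem exists_cfg [Finite G] [IsSimpleGroup G] (hZ : Cfsg.IsZassenhausGroup G Ω) (hab : a ≠ b)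
    (hUa : U ≤ stabilizer G a) (hcard : Nat.card U + 1 = Fintype.card Ω)
    (hfix : ∀ u ∈ U, u ≠ 1 → ∀ c : Ω, u • c = c → c = a)
    (hn : (U.subgroupOf (stabilizer G a)).Normal)
    (hreg : ∀ y z : Ω, y ≠ a → z ≠ a → ∃! u : U, (u : G) • y = z)
    (h2 : IsPGroup 2 U) (hna : ∃ u v : U, u * v ≠ v * u) :
    ∃ (g₀ : G) (α : MulAut U) (e : ℕ), Cfg a b U g₀ α e := by
  classical
  haveI : Fact (Nat.Prime 2) := ⟨Nat.prime_two⟩
  haveI := Fintype.ofFinite G
  set E := stabilizer G a ⊓ stabilizer G b with hE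
  set e := Nat.card E with he
  obtain ⟨k, hk⟩ := h2.exists_card_eq
  have hk1 : 1 ≤ k := by
    by_contra h
    obtain ⟨u, v, huv⟩ := hna
    haveI : Subsingleton U := Finite.card_le_one_iff_subsingleton.1 (by
      rw [hk, show k = 0 by omega, pow_zero])
    exact huv (Subsingleton.elim _ _)
  have hh2 : 2 ∣ Nat.card U := hk ▸ dvd_pow_self 2 (by omega)
  have hdvd : e ∣ Nat.card U - 1 := by
    have := CfsgLib.Zass.card_pair_dvd_sub_two hZ hab
    rwa [← hcard, show Nat.card U + 1 - 2 = Nat.card U - 1 by omega] at this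
  have hodd : Odd e := by
    rcases Nat.even_or_odd e with h | h
    · exfalso
      have := h.two_dvd.trans hdvd
      have := Nat.card_pos (α := U)
      omega
    · exact h
  have hlt : 2 * e + 1 < Nat.card U := by
    by_contra hle
    obtain ⟨hc, -⟩ := CfsgLib.Zass.kernel_elementary hZ hab
      (show Fintype.card Ω - 2 ≤ 2 * e by omega) U hUa hn hreg
    obtain ⟨u, v, huv⟩ := hna
    exact huv (hc.is_comm.comm u v)
  have he3 : 3 ≤ e := CfsgLib.Char.zass_three_le_pair hZ hab hodd
  obtain ⟨-, -, hidxle⟩ := CfsgLib.Char.zass_feit_simple hZ hab hodd U hUa hcard hfix hlt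
  obtain ⟨hcyc, -, -⟩ := CfsgLib.Char.zass_simple_pair hZ hab hodd
  obtain ⟨⟨g₀, hg₀⟩, hgen⟩ := hcyc.exists_generator
  have hord : orderOf g₀ = e := by
    rw [← Subgroup.orderOf_mk g₀ hg₀]
    exact orderOf_eq_card_of_forall_mem_zpowers hgen
  have hgen' : ∀ g ∈ E, ∃ i : ℕ, g₀ ^ i = g := fun g hg => by
    obtain ⟨i, hi⟩ := mem_powers_iff_mem_zpowers.2 (hgen ⟨g, hg⟩)
    exact ⟨i, congrArg Subtype.val hi⟩
  have hga : g₀ • a = a := hg₀.1
  let α : MulAut U :=
    { toFun := fun u => ⟨g₀ * u * g₀⁻¹, CfsgLib.Char.zass_kernel_conj hZ U hUa hcard hfix hga u.2⟩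
      invFun := fun u => ⟨g₀⁻¹ * u * g₀, by
        have := CfsgLib.Char.zass_kernel_conj hZ U hUa hcard hfix
          (inv_smul_eq_iff.2 hga.symm) u.2
        rwa [inv_inv] at this⟩
      left_inv := fun u => Subtype.ext (by simp [mul_assoc])
      right_inv := fun u => Subtype.ext (by simp [mul_assoc])
      map_mul' := fun u v => Subtype.ext (by simp [mul_assoc]) }
  have hα : ∀ u : U, (α u : G) = g₀ * u * g₀⁻¹ := fun u => rfl
  have hfree : ∀ (i : ℕ) (x : U), (α ^ i) x = x → e ∣ i ∨ x = 1 := by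
    intro i x hx
    refine or_iff_not_imp_right.2 fun hx1 => ?_
    have hc : g₀ ^ i * (x : G) = x * g₀ ^ i := by
      have := congrArg Subtype.val hx
      rw [conj_pow hα] at this
      exact mul_inv_eq_iff_eq_mul.1 this
    have hgi : g₀ ^ i ∈ E := pow_mem hg₀ i
    have hU := CfsgLib.Char.zass_kernel_centralizer hZ U hUa hcard hfix hgi.1 x.2
      (fun h => hx1 (Subtype.ext h)) hc
    rw [← hord]
    refine orderOf_dvd_of_pow_eq_one ?_
    by_contra h1
    exact hab (hfix _ hU h1 b hgi.2).symm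
  have hpe : α ^ e = 1 := MulEquiv.ext fun u => Subtype.ext (by
    rw [conj_pow hα, ← hord, pow_orderOf_eq_one]; simp)
  -- the involutions of the kernel
  let J := {u : U // orderOf u = 2}
  have hJ : Nat.card J = e := by
    have hI := CfsgLib.Char.zass_card_involutions hZ hab hodd
    rw [if_pos (show Odd (Fintype.card Ω) by rw [← hcard]; exact (even_iff_two_dvd.2 hh2).add_one),
      ← hcard, Nat.add_sub_cancel] at hI
    have ht : ∀ c : Ω, ∃ t : G, t • a = c := fun c => by
      haveI := hZ.2.1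
      haveI : IsPretransitive G Ω := MulAction.isPretransitive_of_is_two_pretransitive
      exact exists_smul_eq G a c
    choose t ht using ht
    let f : Ω × J → {x : G // orderOf x = 2} := fun p =>
      ⟨MulAut.conj (t p.1) (p.2.1 : G), by
        rw [MulEquiv.orderOf_eq, Subgroup.orderOf_coe, p.2.2]⟩
    have hf : Function.Bijective f := by
      constructor
      · intro p q h
        have h' : t p.1 * (p.2.1 : G) * (t p.1)⁻¹ = t q.1 * (q.2.1 : G) * (t q.1)⁻¹ :=
          congrArg Subtype.val h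
        have hq1 : (q.2.1 : G) ≠ 1 := fun hq => by
          have := q.2.2
          rw [show q.2.1 = 1 from Subtype.ext hq, orderOf_one] at this
          omega
        have hc : (t q.1)⁻¹ • p.1 = a := by
          refine hfix _ q.2.1.2 hq1 _ ?_
          have h'' : (t p.1 * (p.2.1 : G) * (t p.1)⁻¹) • p.1 = p.1 := by
            rw [mul_smul, mul_smul, inv_smul_eq_iff.2 (ht p.1).symm,
              show (p.2.1 : G) • a = a from hUa p.2.1.2, ht]
          rw [h', mul_smul, mul_smul] at h''
          exact eq_inv_smul_iff.2 h''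
        rw [inv_smul_eq_iff, ht] at hc
        obtain ⟨p1, p2⟩ := p
        obtain ⟨q1, q2⟩ := q
        dsimp only at hc h'
        subst hc
        exact Prod.ext rfl (Subtype.ext (Subtype.ext (mul_left_cancel (mul_right_cancel h'))))
      · rintro ⟨x, hx⟩
        haveI := hZ.1
        obtain ⟨c, hc⟩ : ∃ c : Ω, x • c ≠ c := by
          by_contra h
          push Not at h
          have : x = 1 := eq_of_smul_eq_smul (α := Ω) fun c => by rw [h, one_smul]
          rw [this, orderOf_one] at hx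
          omega
        have hxx : x • x • c = c := by rw [smul_smul, ← sq, ← hx, pow_orderOf_eq_one, one_smul]
        have h1 := (Cfsg.Agent.S0740.result hZ (Ne.symm hc)).2.1 x hx rfl hxx
        have hfp := h1.1 (show Odd (Fintype.card Ω) by
          rw [← hcard]; exact (even_iff_two_dvd.2 hh2).add_one)
        haveI : Nonempty (fixedBy Ω x) := (Nat.card_pos_iff.1 (by omega)).1
        obtain ⟨p, hp⟩ := Classical.arbitrary (fixedBy Ω x)
        have hz : (t p)⁻¹ * x * t p * ((t p)⁻¹ * x * t p) = 1 := by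
          have hx2 : x * x = 1 := by rw [← sq, ← hx, pow_orderOf_eq_one]
          rw [show (t p)⁻¹ * x * t p * ((t p)⁻¹ * x * t p) = (t p)⁻¹ * (x * x) * t p by group, hx2]
          group
        have hza : ((t p)⁻¹ * x * t p) • a = a := by
          rw [mul_smul, mul_smul, ht, show x • p = p from hp, inv_smul_eq_iff, ht]
        have hzU := involution_mem hZ hab hodd hUa hcard hfix hz hza
        refine ⟨⟨p, ⟨⟨_, hzU⟩, ?_⟩⟩, Subtype.ext ?_⟩
        · rw [← Subgroup.orderOf_coe]
          show orderOf ((t p)⁻¹ * x * t p) = 2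
          rw [← hx, ← MulEquiv.orderOf_eq (MulAut.conj (t p)⁻¹) x]
          simp
        · simp [f, mul_assoc]
    rw [← Nat.card_congr (Equiv.ofBijective f hf), Nat.card_prod,
      Nat.card_eq_fintype_card (α := Ω), ← hcard,
      show (Nat.card U + 1) * Nat.card J * Nat.card U = (Nat.card U + 1) * Nat.card U * Nat.card J by
        ring] at hI
    exact Nat.eq_of_mul_eq_mul_left (Nat.mul_pos (Nat.succ_pos _) Nat.card_pos) hI
  have htrans : CfsgLib.Recog.SuzukiTwo.Trans α := by
    intro x y hx hx2 hy hy2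
    have hinv : ∀ z : U, z ≠ 1 → z * z = 1 → orderOf z = 2 := fun z h1 h2 =>
      orderOf_eq_prime (by rw [sq, h2]) h1
    let f : Fin e → J := fun i => ⟨(α ^ (i : ℕ)) x, by
      rw [MulEquiv.orderOf_eq]; exact hinv x hx hx2⟩
    have hf : Function.Injective f := by
      intro i j h
      have h' : (α ^ (i : ℕ)) x = (α ^ (j : ℕ)) x := congrArg Subtype.val h
      wlog hij : (i : ℕ) ≤ j generalizing i j
      · exact (this h.symm h'.symm (by omega)).symm
      obtain ⟨d, hd⟩ := Nat.exists_eq_add_of_le hij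
      rw [hd, pow_add, MulAut.mul_apply] at h'
      rcases hfree d x ((α ^ (i : ℕ)).injective h'.symm) with h'' | h''
      · have := j.2
        rcases Nat.eq_zero_or_pos d with rfl | hd0
        · exact Fin.ext (by omega)
        · have := Nat.le_of_dvd hd0 h''
          omega
      · exact absurd h'' hx
    obtain ⟨i, hi⟩ := (hf.bijective_of_nat_card_le (by rw [hJ]; simp)).2 ⟨y, hinv y hy hy2⟩
    exact ⟨i, congrArg Subtype.val hi⟩
  have hci : ∀ x : U, x ∈ Subgroup.center U ↔ x * x = 1 := fun x =>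
    CfsgLib.Recog.SuzukiTwo.center_iff h2 htrans hna
  have hcc : Nat.card (Subgroup.center U) = e + 1 := by
    haveI := Fintype.ofFinite U
    rw [Nat.card_eq_fintype_card, Fintype.card_subtype,
      ← Finset.card_erase_add_one (a := (1 : U)) (by simp), ← hJ, Nat.card_eq_fintype_card,
      Fintype.card_subtype]
    congr 2
    ext u
    simp only [Finset.mem_erase, Finset.mem_filter, Finset.mem_univ, true_and, hci]
    refine ⟨fun h => orderOf_eq_prime (by rw [sq, h.2]) h.1, fun h => ⟨?_, ?_⟩⟩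
    · intro hu; rw [hu, orderOf_one] at h; omega
    · rw [← sq, ← h, pow_orderOf_eq_one]
  have D : Frame α e := ⟨h2, hpe, hfree, hci, hcc, he3⟩
  have hnc : commutator U ≠ ⊥ := fun h => by
    obtain ⟨u, v, huv⟩ := hna
    have : ⁅u, v⁆ ∈ commutator U :=
      Subgroup.commutator_mem_commutator (Subgroup.mem_top u) (Subgroup.mem_top v)
    rw [h, Subgroup.mem_bot, commutatorElement_eq_one_iff_mul_comm] at this
    exact huv this
  refine ⟨g₀, α, e, hZ, hab, rfl, hodd, hUa, hcard, hfix, hlt, D, hg₀, hgen', hα, hnc, ?_⟩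
  -- the index of the derived subgroup
  haveI : Group.IsNilpotent U := h2.isNilpotent
  have hNtop : commutator U < ⊤ := by
    haveI : Nontrivial U := ⟨by obtain ⟨u, v, huv⟩ := hna; exact ⟨_, _, huv⟩⟩
    exact Group.IsSolvable.commutator_lt_top_of_nontrivial U
  have hd' := D.dvd_relIndex_sub_one (inv_of_characteristic (α := α) (commutator U))
    (fun x _ => Subgroup.mem_top _) hNtop.le
  have hge := D.lt_relIndex (inv_of_characteristic (α := α) (commutator U))
    (fun x _ => Subgroup.mem_top _) hNtop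
  rw [Subgroup.relIndex_top_right] at hd' hge
  obtain ⟨n, hn'⟩ := (h2.to_subgroup (Subgroup.center U)).exists_card_eq
  rw [hcc] at hn'
  obtain ⟨j, hj⟩ := h2.index (commutator U)
  rw [hj] at hd' hge hidxle ⊢
  have hn2 : 2 ≤ n := by
    by_contra h
    have : 2 ^ n ≤ 2 ^ 1 := Nat.pow_le_pow_right (by norm_num) (by omega)
    omega
  have hgcd : n ∣ j := by
    have h1 : Nat.gcd (2 ^ n - 1) (2 ^ j - 1) = 2 ^ Nat.gcd n j - 1 :=
      Nat.pow_sub_one_gcd_pow_sub_one 2 n j
    rw [show e = 2 ^ n - 1 by omega] at hd'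
    rw [Nat.gcd_eq_left hd'] at h1
    have h4 := Nat.one_le_two_pow (n := Nat.gcd n j)
    have h5 : 2 ^ n = 2 ^ Nat.gcd n j := by omega
    exact (Nat.pow_right_injective le_rfl h5).symm ▸ Nat.gcd_dvd_right n j
  obtain ⟨l, rfl⟩ := hgcd
  rw [hn']
  rcases l with _ | _ | _ | l
  · simp only [mul_zero, pow_zero] at hge; omega
  · left; simp
  · right; rw [← pow_mul]
  · exfalso
    have h1 : 2 ^ (2 * n + 2) ≤ 2 ^ (n * (l + 1 + 1 + 1)) :=
      Nat.pow_le_pow_right (by norm_num) (by nlinarith)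
    have h2 : 2 ^ (2 * n + 2) = 4 * (e + 1) ^ 2 := by rw [hn']; ring
    rw [← he] at hidxle
    nlinarith

end CfsgLib.SuzTop
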